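import Cfsg.Agent.Lib.Helper32.BG10Basic
import Cfsg.Agent.S1448

/-!
# B&G Section 10, piece Q9: the structure of a Sylow subgroup of rank at most 2
-/

set_option autoImplicit false

open Cfsg Cfsg.Agent.Lib.Helper32 Cfsg.Agent.Lib.Helper32.BG10
open scoped commutatorElement

namespace Cfsg.Agent.Lib.Helper30.BG10

universe u

variable {G : Type u} [Group G] [Finite G]

/-- in a non-commutative group of order `p ^ 3` the commutator subgroup is the center -/
theorem q9_commutator_eq_center {Λ : Type*} [Group Λ] [Finite Λ] (p : ℕ) [Fact p.Prime]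
    (hc : Nat.card Λ = p ^ 3) (hnc : ¬ ∀ a b : Λ, a * b = b * a) :
    commutator Λ = Subgroup.center Λ := by
  classical
  have hp := (Fact.out : p.Prime)
  have hΛ : IsPGroup p Λ := IsPGroup.of_card hc
  haveI : Nontrivial Λ := by
    rw [← Finite.one_lt_card_iff_nontrivial, hc]
    exact Nat.one_lt_pow (by norm_num) hp.one_lt
  have hZ1 : Subgroup.center Λ ≠ ⊥ := (hΛ.bot_lt_center).ne'
  obtain ⟨k, hk⟩ := IsPGroup.iff_card.mp (hΛ.to_subgroup (Subgroup.center Λ))
  have hkdvd : p ^ k ∣ p ^ 3 := by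
    rw [← hk, ← hc]; exact Subgroup.card_subgroup_dvd_card _
  have hk3 : k ≤ 3 := (Nat.pow_dvd_pow_iff_le_right hp.one_lt).mp hkdvd
  have hk0 : k ≠ 0 := by
    rintro rfl
    apply hZ1
    exact Subgroup.card_eq_one.mp (by simpa using hk)
  have hidx : (Subgroup.center Λ).index = p ^ (3 - k) := by
    have h1 := Subgroup.card_mul_index (Subgroup.center Λ)
    rw [hk, hc] at h1
    have h2 : p ^ 3 = p ^ k * p ^ (3 - k) := by
      rw [← pow_add]; congr 1; omega
    rw [h2] at h1
    exact Nat.eq_of_mul_eq_mul_left (pow_pos hp.pos k) h1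
  have hq : Nat.card (Λ ⧸ Subgroup.center Λ) = p ^ (3 - k) := by
    rw [← Subgroup.index_eq_card]; exact hidx
  have hncyc : ¬ IsCyclic (Λ ⧸ Subgroup.center Λ) := by
    intro hcyc
    apply hnc
    have h1 : IsMulCommutative Λ :=
      (QuotientGroup.mk' (Subgroup.center Λ)).isMulCommutative_of_isCyclic_of_ker_le_center
        (by rw [QuotientGroup.ker_mk'])
    exact h1.is_comm.comm
  have hk1 : k = 1 := by
    rcases Nat.lt_or_ge k 2 with h | h
    · omega
    · exfalso
      apply hncyc
      rcases Nat.lt_or_ge k 3 with h3 | h3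
      · have hk2 : k = 2 := by omega
        subst hk2
        exact isCyclic_of_prime_card (p := p) (by simpa using hq)
      · have hk3' : k = 3 := by omega
        subst hk3'
        haveI : Subsingleton (Λ ⧸ Subgroup.center Λ) :=
          (Nat.card_eq_one_iff_unique.mp (by simpa using hq)).1
        exact isCyclic_of_subsingleton
  subst hk1
  have hq2 : Nat.card (Λ ⧸ Subgroup.center Λ) = p ^ 2 := by simpa using hq
  have hqc : IsMulCommutative (Λ ⧸ Subgroup.center Λ) :=
    IsPGroup.isMulCommutative_of_card_eq_prime_sq hq2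
  have hle : commutator Λ ≤ Subgroup.center Λ := by
    rw [commutator_def, Subgroup.commutator_le]
    intro a _ b _
    have h1 : (QuotientGroup.mk' (Subgroup.center Λ)) ⁅a, b⁆ = 1 := by
      rw [map_commutatorElement, commutatorElement_eq_one_iff_mul_comm]
      exact hqc.is_comm.comm _ _
    exact (QuotientGroup.eq_one_iff _).mp h1
  have hne : commutator Λ ≠ ⊥ := by
    intro h
    apply hnc
    intro a b
    have h1 : ⁅a, b⁆ ∈ commutator Λ := by
      rw [commutator_def]
      exact Subgroup.commutator_mem_commutator (Subgroup.mem_top a) (Subgroup.mem_top b)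
    rw [h, Subgroup.mem_bot] at h1
    exact commutatorElement_eq_one_iff_mul_comm.mp h1
  have hcd : Nat.card (commutator Λ) ∣ p := by
    have h1 := Subgroup.card_dvd_of_le hle
    rw [hk, pow_one] at h1
    exact h1
  have hcc : Nat.card (commutator Λ) = p := by
    rcases (Nat.dvd_prime hp).mp hcd with h | h
    · exact absurd (Subgroup.card_eq_one.mp h) hne
    · exact h
  exact Subgroup.eq_of_le_of_card_ge hle (by rw [hk, hcc, pow_one])

omit [Finite G] in
/-- the center of a subgroup, in the ambient group -/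
theorem q9_map_center (R : Subgroup G) :
    (Subgroup.center ↥R).map R.subtype = R ⊓ Subgroup.centralizer (R : Set G) := by
  ext x
  constructor
  · rintro ⟨y, hy, rfl⟩
    refine Subgroup.mem_inf.mpr ⟨y.2, ?_⟩
    rw [Subgroup.mem_centralizer_iff]
    intro h hh
    have h1 := Subgroup.mem_center_iff.mp hy ⟨h, hh⟩
    exact congrArg Subtype.val h1
  · intro hx
    obtain ⟨hxR, hxC⟩ := Subgroup.mem_inf.mp hx
    refine ⟨⟨x, hxR⟩, ?_, rfl⟩
    show (⟨x, hxR⟩ : ↥R) ∈ Subgroup.center ↥R
    rw [Subgroup.mem_center_iff]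
    intro g
    exact Subtype.ext (Subgroup.mem_centralizer_iff.mp hxC g.1 g.2)

/-- for a non-commutative subgroup of order `p ^ 3`, `[R, R] = R ∩ C(R)` -/
theorem q9_commutator_eq (p : ℕ) [Fact p.Prime] (R : Subgroup G) (hnc : ¬ IsMulCommutative R)
    (hc : Nat.card R = p ^ 3) : ⁅R, R⁆ = R ⊓ Subgroup.centralizer (R : Set G) := by
  rw [← Subgroup.map_subtype_commutator, ← q9_map_center]
  congr 1
  exact q9_commutator_eq_center p hc (fun h => hnc ⟨⟨h⟩⟩)

/-- B&G 10.9: a Sylow `p`-subgroup of rank at most `2` is abelian or a central product of an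
extraspecial group of order `p ^ 3` and exponent `p` with a cyclic group -/
theorem bg10_9 (hG : IsMinSimpleOddOrder G) (h8 : H8 G) (p : ℕ) [Fact p.Prime] (P : Sylow p G)
    (hr : PRankLE p 2 (P : Subgroup G)) :
    IsMulCommutative (P : Subgroup G) ∨ ∃ P₁ P₂ : Subgroup G, P₁ ⊔ P₂ = (P : Subgroup G) ∧
        (∀ a ∈ P₁, ∀ b ∈ P₂, a * b = b * a) ∧
        ¬ IsMulCommutative P₁ ∧ Nat.card P₁ = p ^ 3 ∧ Monoid.exponent P₁ = p ∧ IsCyclic P₂ ∧
        Subgroup.closure {x : G | x ∈ P₂ ∧ x ^ p = 1} =
          P₁ ⊓ Subgroup.centralizer (P₁ : Set G) := by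
  classical
  have hp := (Fact.out : p.Prime)
  by_cases hQ1 : (P : Subgroup G) = ⊥
  · left
    refine ⟨⟨fun a b => ?_⟩⟩
    have ha : a = 1 := by
      apply Subtype.ext
      have h : (a : G) ∈ (P : Subgroup G) := a.2
      have h' : (P : Subgroup G) ≤ ⊥ := le_of_eq hQ1
      exact Subgroup.mem_bot.mp (h' h)
    rw [ha, one_mul, mul_one]
  obtain ⟨k, hk⟩ := IsPGroup.iff_card.mp P.isPGroup'
  have hk0 : k ≠ 0 := by
    rintro rfl
    exact hQ1 (Subgroup.card_eq_one.mp (by simpa using hk))
  have hpdvd : p ∣ Nat.card G := by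
    have h1 : p ∣ Nat.card (P : Subgroup G) := by rw [hk]; exact dvd_pow_self p hk0
    exact h1.trans (Subgroup.card_subgroup_dvd_card _)
  have hp2 : p ≠ 2 := by
    rintro rfl
    have hodd : Odd (Nat.card G) := hG.1
    exact (Nat.not_even_iff_odd.mpr hodd) (even_iff_two_dvd.mpr hpdvd)
  have hQN : (P : Subgroup G) ≤ Subgroup.normalizer ((P : Subgroup G) : Set G) :=
    Subgroup.le_normalizer
  have hcardHn : Nat.card ((P : Subgroup G).subgroupOf
      (Subgroup.normalizer ((P : Subgroup G) : Set G))) = Nat.card (P : Subgroup G) :=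
    Nat.card_congr (Subgroup.subgroupOfEquivOfLe hQN).toEquiv
  have hidxdvd : ((P : Subgroup G).subgroupOf
      (Subgroup.normalizer ((P : Subgroup G) : Set G))).index ∣ (P : Subgroup G).index :=
    Dvd.intro _ (Subgroup.relIndex_mul_index hQN)
  have hcop0 : (Nat.card ((P : Subgroup G).subgroupOf
      (Subgroup.normalizer ((P : Subgroup G) : Set G)))).Coprime
      ((P : Subgroup G).subgroupOf (Subgroup.normalizer ((P : Subgroup G) : Set G))).index := by
    rw [hcardHn]
    exact Nat.Coprime.coprime_dvd_right hidxdvd P.card_coprime_index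
  obtain ⟨K0, hK0⟩ := Subgroup.exists_right_complement'_of_coprime hcop0
  have hVN : K0.map (Subgroup.normalizer ((P : Subgroup G) : Set G)).subtype ≤
      Subgroup.normalizer ((P : Subgroup G) : Set G) := by
    rintro _ ⟨y, -, rfl⟩; exact y.2
  have hcardV : Nat.card (K0.map (Subgroup.normalizer ((P : Subgroup G) : Set G)).subtype) =
      Nat.card K0 := Cfsg.Agent.Lib.Helper30.card_map_subtype K0
  have hcompl : IsComplIn (P : Subgroup G)
      (K0.map (Subgroup.normalizer ((P : Subgroup G) : Set G)).subtype)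
      (Subgroup.normalizer ((P : Subgroup G) : Set G)) := by
    refine ⟨hQN, hVN, ?_, ?_⟩
    · rw [eq_bot_iff]
      intro z hz
      obtain ⟨hzP, hzV⟩ := Subgroup.mem_inf.mp hz
      obtain ⟨y, hy, rfl⟩ := hzV
      have hy1 : y ∈ (P : Subgroup G).subgroupOf
          (Subgroup.normalizer ((P : Subgroup G) : Set G)) ⊓ K0 :=
        Subgroup.mem_inf.mpr ⟨Subgroup.mem_subgroupOf.mpr hzP, hy⟩
      rw [hK0.disjoint.eq_bot] at hy1
      have hy2 : y = 1 := Subgroup.mem_bot.mp hy1
      rw [hy2]
      simp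
    · intro m hm
      obtain ⟨⟨a, b⟩, hab⟩ := hK0.2 ⟨m, hm⟩
      refine ⟨((a : ↥(Subgroup.normalizer ((P : Subgroup G) : Set G))) : G),
        Subgroup.mem_subgroupOf.mp a.2,
        ((b : ↥(Subgroup.normalizer ((P : Subgroup G) : Set G))) : G), ⟨b, b.2, rfl⟩, ?_⟩
      have h := congrArg Subtype.val hab
      simpa using h.symm
  have hRA : (P : Subgroup G) = ⁅(P : Subgroup G),
      K0.map (Subgroup.normalizer ((P : Subgroup G) : Set G)).subtype⁆ :=
    (h8 p P _ hcompl).1
  have hcop : (Nat.card (K0.map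
      (Subgroup.normalizer ((P : Subgroup G) : Set G)).subtype)).Coprime p := by
    rw [hcardV, ← hK0.symm.index_eq_card]
    have h1 : (Nat.card (P : Subgroup G)).Coprime ((P : Subgroup G).subgroupOf
        (Subgroup.normalizer ((P : Subgroup G) : Set G))).index := by
      rw [← hcardHn]; exact hcop0
    rw [hk] at h1
    exact (Nat.Coprime.coprime_dvd_left (dvd_pow_self p hk0) h1).symm
  have hodd : Odd (Nat.card (K0.map
      (Subgroup.normalizer ((P : Subgroup G) : Set G)).subtype)) := minSimple_odd_sub hG _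
  obtain ⟨-, hcomm | ⟨R₁, R₂, hsup, hcm, hnc, hcard, hexp, hcyc, hcl⟩⟩ :=
    Cfsg.Agent.S1448.result p hp2 (P : Subgroup G)
      (K0.map (Subgroup.normalizer ((P : Subgroup G) : Set G)).subtype)
      P.isPGroup' hQ1 hr hVN hcop hodd hRA.symm
  · exact Or.inl hcomm
  · exact Or.inr ⟨R₁, R₂, hsup, hcm, hnc, hcard, hexp, hcyc,
      hcl.trans (q9_commutator_eq p R₁ hnc hcard)⟩

end Cfsg.Agent.Lib.Helper30.BG10
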