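import Mathlib
import Cfsg.Agent.Lib.Helper10.BR0

/-!
S0999 piece BR-II11 (poster helper10): `θ(τ) = -1` and `Σ_A χ(τ) = 0`.
-/

set_option autoImplicit false

namespace Cfsg.Agent.Lib.Helper10.BR

open Cfsg
open Cfsg.Agent.Lib.Helper83 (trivIrr)
open scoped ComplexConjugate

section T

variable {G : Type*} [Group G] [Fintype G] {p e t : ℕ} {P : Subgroup G} {ε : ℤ} {x₀ : ℕ}
  {A B Y D : Finset (IrrCharacter G)}

omit [Fintype G] in
/-- a sum of values `± t` is an integer multiple of `t` -/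
theorem sum_pm_t_aux (A : Finset (IrrCharacter G)) (τ : G) (t : ℕ)
    (hA : ∀ χ ∈ A, (χ : G → ℂ) τ = (t : ℂ) ∨ (χ : G → ℂ) τ = -(t : ℂ)) :
    ∃ j : ℤ, ∑ χ ∈ A, (χ : G → ℂ) τ = (t : ℂ) * (j : ℂ) := by
  classical
  induction A using Finset.induction_on with
  | empty => exact ⟨0, by simp⟩
  | insert a s ha ih =>
    obtain ⟨j, hj⟩ := ih (fun χ hχ => hA χ (Finset.mem_insert_of_mem hχ))
    rcases hA a (Finset.mem_insert_self a s) with h1 | h1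
    · exact ⟨j + 1, by rw [Finset.sum_insert ha, hj, h1]; push_cast; ring⟩
    · exact ⟨j - 1, by rw [Finset.sum_insert ha, hj, h1]; push_cast; ring⟩

/-- BR-II11 -/
theorem theta_tau_of (h : Tab G p e t P ε x₀ A B Y D) (hε : ε = -1)
    (τ : G) (hτ2 : orderOf τ = 2) (hBv : ∀ χ ∈ B, (χ : G → ℂ) τ = 0)
    (hθ : ∀ θ ∈ Y, (θ : G → ℂ) τ = 1 ∨ (θ : G → ℂ) τ = -1)
    (hA : ∀ χ ∈ A, (χ : G → ℂ) τ = (t : ℂ) ∨ (χ : G → ℂ) τ = -(t : ℂ)) :
    (∀ θ ∈ Y, (θ : G → ℂ) τ = -1) ∧ ∑ χ ∈ A, (χ : G → ℂ) τ = 0 := by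
  classical
  have hp5 := h.hp5
  have ht := h.ht
  have hreg : ¬ p ∣ orderOf τ := by
    rw [hτ2]
    intro hd
    have := Nat.le_of_dvd (by norm_num) hd
    omega
  have hB0 : ∑ χ ∈ B, (χ : G → ℂ) τ = 0 := Finset.sum_eq_zero (fun χ hχ => hBv χ hχ)
  -- T1 at τ
  have hT : ∀ θ ∈ Y, -((θ : G → ℂ) τ) = 1 + ∑ χ ∈ A, (χ : G → ℂ) τ := by
    intro θ hθY
    have h1 := h.t1 θ hθY τ hreg
    rw [hB0, sub_zero, hε] at h1
    rw [← h1]
    push_cast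
    ring
  obtain ⟨j, hj⟩ := sum_pm_t_aux A τ t hA
  have hYne : Y.Nonempty := by
    rw [← Finset.card_pos, h.cardY]; omega
  obtain ⟨θ₀, hθ₀⟩ := hYne
  have hsum0 : ∑ χ ∈ A, (χ : G → ℂ) τ = 0 := by
    rcases hθ θ₀ hθ₀ with h1 | h1
    · exfalso
      have h2 := hT θ₀ hθ₀
      rw [h1, hj] at h2
      have h3 : (((t : ℤ) * j : ℤ) : ℂ) = ((-2 : ℤ) : ℂ) := by
        push_cast
        linear_combination -h2
      have h4 : (t : ℤ) * j = -2 := Int.cast_injective h3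
      have h5 : (t : ℤ) ∣ 2 := ⟨-j, by linarith⟩
      have h6 : (t : ℤ) ≤ 2 := Int.le_of_dvd (by norm_num) h5
      omega
    · have h2 := hT θ₀ hθ₀
      rw [h1] at h2
      linear_combination -h2
  refine ⟨?_, hsum0⟩
  intro θ hθY
  have h2 := hT θ hθY
  rw [hsum0] at h2
  linear_combination -h2

end T

end Cfsg.Agent.Lib.Helper10.BR
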