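import Mathlib
import Cfsg.Agent.Lib.Helper10.BR0
import Cfsg.Agent.Lib.Helper4.CharDual

/-!
S0999 piece BR-II5a (poster helper10): in configuration II the set `A` is closed under complex
conjugation, so `Σ_A χ(y)` is real.
-/

set_option autoImplicit false

namespace Cfsg.Agent.Lib.Helper10.BR

open Cfsg
open Cfsg.Agent.Lib.Helper83 (trivIrr)
open scoped ComplexConjugate

section T

variable {G : Type*} [Group G] [Fintype G] {p e t : ℕ} {P : Subgroup G} {ε : ℤ} {x₀ : ℕ}
  {A B Y D : Finset (IrrCharacter G)}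

/-- the conjugate of a member of `A` is a member of `A` -/
theorem irrConj_mem_A (h : Tab G p e t P ε x₀ A B Y D) (hx : x₀ = p - e)
    (χ : IrrCharacter G) (hχ : χ ∈ A) : Cfsg.Agent.Lib.Helper4.irrConj χ ∈ A := by
  classical
  have hp5 := h.hp5
  -- a non-identity element of `P`
  haveI : Nontrivial ↥P := by
    rw [← Finite.one_lt_card_iff_nontrivial, h.cardP]; omega
  obtain ⟨u, hu⟩ := exists_ne (1 : ↥P)
  have hu1 : (u : G) ≠ 1 := fun h1 => hu (Subtype.ext h1)
  have hval : (Cfsg.Agent.Lib.Helper4.irrConj χ : G → ℂ) (u : G) = 1 := by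
    rw [Cfsg.Agent.Lib.Helper4.irrConj_apply, h.valA χ hχ u u.2 hu1, map_one]
  have hdeg : (Cfsg.Agent.Lib.Helper4.irrConj χ : G → ℂ) 1 = ((t * (p - e) : ℕ) : ℂ) := by
    rw [Cfsg.Agent.Lib.Helper4.irrConj_apply, h.degA χ hχ, Complex.conj_natCast]
  rcases h.part (Cfsg.Agent.Lib.Helper4.irrConj χ) with h1 | h1 | h1 | h1 | h1
  · exfalso
    have h2 : χ = trivIrr G := by
      rw [← Cfsg.Agent.Lib.Helper4.irrConj_irrConj χ, h1]
      apply Subtype.ext
      funext g
      simp [Cfsg.Agent.Lib.Helper4.irrConj_apply, Cfsg.Agent.Lib.Helper83.trivIrr_apply]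
    exact h.triv_nmem.1 (h2 ▸ hχ)
  · exact h1
  · exfalso
    have h2 := h.valB _ h1 u u.2 hu1
    rw [hval] at h2
    norm_num at h2
  · exfalso
    have h2 := h.degY _ h1
    rw [hdeg, hx] at h2
    have h3 : t * (p - e) = p - e := by exact_mod_cast h2
    have het := h.het
    have ht := h.ht
    have he := h.he
    have hpe : 1 ≤ p - e := by
      have h4 : e * 3 ≤ e * t := Nat.mul_le_mul_left e ht
      omega
    have h5 : 3 * (p - e) ≤ t * (p - e) := Nat.mul_le_mul_right (p - e) ht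
    omega
  · exfalso
    have h2 := h.valD _ h1 u u.2 hu1
    rw [hval] at h2
    norm_num at h2

/-- BR-II5a -/
theorem A_conj_closed (h : Tab G p e t P ε x₀ A B Y D) (hε : ε = -1) (hx : x₀ = p - e) (y : G) :
    conj (∑ χ ∈ A, (χ : G → ℂ) y) = ∑ χ ∈ A, (χ : G → ℂ) y := by
  classical
  rw [map_sum]
  exact Finset.sum_nbij' (fun χ => Cfsg.Agent.Lib.Helper4.irrConj χ)
    (fun χ => Cfsg.Agent.Lib.Helper4.irrConj χ)
    (fun χ hχ => irrConj_mem_A h hx χ hχ) (fun χ hχ => irrConj_mem_A h hx χ hχ)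
    (fun χ _ => Cfsg.Agent.Lib.Helper4.irrConj_irrConj χ)
    (fun χ _ => Cfsg.Agent.Lib.Helper4.irrConj_irrConj χ)
    (fun χ _ => by
      rw [Cfsg.Agent.Lib.Helper4.irrConj_apply])

end T

end Cfsg.Agent.Lib.Helper10.BR
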