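import Mathlib
import Cfsg.Prelude.Def_PLocal
import Cfsg.Prelude.Def_Transfer
import Cfsg.Agent.Lib.Helper3.ZJ6
import Cfsg.Agent.Lib.Helper91.KLZJ
import Cfsg.Agent.Lib.Helper66.InvSylow

/-!
# Groups in which a Sylow `p`-subgroup (`p` odd) is a maximal subgroup

If a Sylow `p`-subgroup `T` of the finite group `M` is maximal (or all of `M`) and `p` is odd, then
`M / O_p(M)` has a normal `p`-complement (Glauberman–Thompson), which is either of odd order or an
abelian `2`-group.  Hence the Sylow `2`-subgroups of `M` are abelian.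
-/

set_option autoImplicit false

namespace Cfsg.Agent.Lib.Helper30

open Cfsg
open scoped commutatorElement

universe u

section MaxSyl

/-- an element of `2`-power and of `p`-power order (`p` odd) is trivial -/
theorem eq_one_of_two_pow_of_p_pow {X : Type*} [Group X] {p : ℕ} [Fact p.Prime] (hp : p ≠ 2)
    {g : X} {k j : ℕ} (h2 : g ^ 2 ^ k = 1) (hpj : g ^ p ^ j = 1) : g = 1 := by
  have hp' : p.Prime := Fact.out
  have h1 : orderOf g ∣ 2 ^ k := orderOf_dvd_of_pow_eq_one h2
  have h3 : orderOf g ∣ p ^ j := orderOf_dvd_of_pow_eq_one hpj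
  have hcop : Nat.Coprime (2 ^ k) (p ^ j) :=
    Nat.Coprime.pow k j ((Nat.coprime_primes Nat.prime_two hp').mpr (Ne.symm hp))
  have h4 : orderOf g ∣ 1 := by
    have := Nat.dvd_gcd h1 h3
    rwa [hcop.gcd_eq_one] at this
  exact orderOf_eq_one_iff.mp (Nat.dvd_one.mp h4)

/-- `O_p(M / O_p(M)) = 1`. -/
theorem pCore_quot_pCore {M : Type*} [Group M] (p : ℕ) [Fact p.Prime] [(pCore p M).Normal] :
    pCore p (M ⧸ pCore p M) = ⊥ := by
  have hsurj := QuotientGroup.mk'_surjective (pCore p M)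
  have hn : (pCore p (M ⧸ pCore p M)).Normal := inferInstance
  have hcn : ((pCore p (M ⧸ pCore p M)).comap (QuotientGroup.mk' (pCore p M))).Normal :=
    Subgroup.Normal.comap hn _
  have hcp : IsPGroup p ↥((pCore p (M ⧸ pCore p M)).comap (QuotientGroup.mk' (pCore p M))) := by
    rintro ⟨x, hx⟩
    have hx' : QuotientGroup.mk' (pCore p M) x ∈ pCore p (M ⧸ pCore p M) := hx
    obtain ⟨k, hk⟩ := (Cfsg.Agent.Lib.Helper14.pCore_isPGroup (p := p) (G := M ⧸ pCore p M))
      ⟨_, hx'⟩
    have hk' : (QuotientGroup.mk' (pCore p M) x) ^ p ^ k = 1 := congrArg Subtype.val hk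
    rw [← map_pow, ← MonoidHom.mem_ker, QuotientGroup.ker_mk'] at hk'
    obtain ⟨j, hj⟩ := (Cfsg.Agent.Lib.Helper14.pCore_isPGroup (p := p) (G := M)) ⟨_, hk'⟩
    have hj' : (x ^ p ^ k) ^ p ^ j = 1 := congrArg Subtype.val hj
    refine ⟨k + j, Subtype.ext ?_⟩
    show x ^ p ^ (k + j) = 1
    rw [pow_add, pow_mul]
    exact hj'
  have hle := Cfsg.Agent.Lib.Helper14.le_pCore hcn hcp
  rw [eq_bot_iff]
  intro y hy
  obtain ⟨x, rfl⟩ := hsurj y
  have hx : x ∈ pCore p M := hle hy
  rw [Subgroup.mem_bot]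
  exact (QuotientGroup.eq_one_iff x).mpr hx

/-- In a group with a normal `p`-complement `N` whose Sylow `p`-subgroup `T` is maximal, any two
`2`-elements commute (`p` odd). -/
theorem two_elts_commute_of_npc {X : Type*} [Group X] [Finite X] {p : ℕ} [Fact p.Prime]
    (hp : p ≠ 2) (T : Sylow p X)
    (hmax : ∀ K : Subgroup X, (T : Subgroup X) ≤ K → K = (T : Subgroup X) ∨ K = ⊤)
    (N : Subgroup X) [hNn : N.Normal] (hc : N.IsComplement' (T : Subgroup X)) :
    ∀ x y : X, (∃ k : ℕ, x ^ 2 ^ k = 1) → (∃ k : ℕ, y ^ 2 ^ k = 1) → x * y = y * x := by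
  classical
  have hp' : p.Prime := Fact.out
  haveI : Fact (Nat.Prime 2) := ⟨Nat.prime_two⟩
  have hcard : Nat.card N * Nat.card (T : Subgroup X) = Nat.card X := hc.card_mul_card
  have hTcard : Nat.card (T : Subgroup X) = p ^ (Nat.card X).factorization p :=
    T.card_eq_multiplicity
  have hXpos : Nat.card X ≠ 0 := Nat.card_pos.ne'
  have hNcard : Nat.card N = Nat.card X / p ^ (Nat.card X).factorization p := by
    have h := hcard
    rw [hTcard] at h
    exact (Nat.div_eq_of_eq_mul_left (pow_pos hp'.pos _) h.symm).symm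
  have hNcop : Nat.Coprime p (Nat.card N) := by
    rw [hNcard]; exact Nat.coprime_ordCompl hp' hXpos
  have hpN : ¬ p ∣ Nat.card N := fun h => hp'.one_lt.ne' (Nat.Coprime.eq_one_of_dvd hNcop h)
  have hNT : N ⊓ (T : Subgroup X) = ⊥ := hc.disjoint.eq_bot
  -- `2`-elements lie in `N`
  have hmemN : ∀ x : X, (∃ k : ℕ, x ^ 2 ^ k = 1) → x ∈ N := by
    rintro x ⟨k, hk⟩
    have h1 : (QuotientGroup.mk' N x) ^ 2 ^ k = 1 := by rw [← map_pow, hk, map_one]
    have h2 : (QuotientGroup.mk' N x) ^ p ^ (Nat.card X).factorization p = 1 := by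
      have h3 : Nat.card (X ⧸ N) = p ^ (Nat.card X).factorization p := by
        rw [← Subgroup.index_eq_card, hc.symm.index_eq_card, hTcard]
      rw [← h3]
      exact pow_card_eq_one'
    have h4 := eq_one_of_two_pow_of_p_pow hp h1 h2
    exact (QuotientGroup.eq_one_iff x).mp h4
  -- a `T`-invariant Sylow `2`-subgroup of `N`
  obtain ⟨Q, hQ⟩ := Cfsg.Agent.Lib.Helper66.exists_invariant_sylow T.isPGroup' N hpN 2
  obtain ⟨U, hUdef⟩ : ∃ U : Subgroup X, U = (Q : Subgroup ↥N).map N.subtype := ⟨_, rfl⟩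
  have hTU : (T : Subgroup X) ≤ Subgroup.normalizer (U : Set X) := by rw [hUdef]; exact hQ
  have hUN : U ≤ N := by rw [hUdef]; exact Subgroup.map_subtype_le _
  have hU2 : IsPGroup 2 U := by
    rw [hUdef]; exact Q.isPGroup'.map _
  have hUT : U ⊓ (T : Subgroup X) = ⊥ := by
    rw [eq_bot_iff, ← hNT]
    exact inf_le_inf_right _ hUN
  have hUcard : Nat.card U = Nat.card (Q : Subgroup ↥N) := by
    rw [hUdef]; exact Subgroup.card_map_of_injective N.subtype_injective
  intro x y hx hy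
  have hxN := hmemN x hx
  have hyN := hmemN y hy
  rcases hmax (U ⊔ (T : Subgroup X)) le_sup_right with hW | hW
  · -- `U ≤ T`, so `U = 1` and `N` has odd order
    have hU1 : U = ⊥ := by
      rw [eq_bot_iff, ← hUT]
      exact le_inf le_rfl (le_sup_left.trans hW.le)
    have hQ1 : Nat.card (Q : Subgroup ↥N) = 1 := by
      rw [← hUcard, hU1, Subgroup.card_bot]
    have hfac : (Nat.card N).factorization 2 = 0 := by
      have h1 := Q.card_eq_multiplicity
      rw [hQ1] at h1
      by_contra h0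
      have : 2 ^ (Nat.card N).factorization 2 ≠ 1 := by
        intro h2
        exact h0 (by
          have := Nat.pow_right_injective (le_refl 2) (h2.trans (pow_zero 2).symm)
          exact this)
      exact this h1.symm
    have hodd : ¬ 2 ∣ Nat.card N := by
      intro h2
      have hNpos : Nat.card N ≠ 0 := Nat.card_pos.ne'
      have := (Nat.Prime.factorization_pos_of_dvd Nat.prime_two hNpos h2)
      omega
    have hone : ∀ x : X, (∃ k : ℕ, x ^ 2 ^ k = 1) → x = 1 := by
      rintro x ⟨k, hk⟩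
      have hxN' := hmemN x ⟨k, hk⟩
      have h1 : orderOf (⟨x, hxN'⟩ : N) ∣ 2 ^ k := by
        apply orderOf_dvd_of_pow_eq_one
        exact Subtype.ext hk
      have h2 : orderOf (⟨x, hxN'⟩ : N) ∣ Nat.card N := orderOf_dvd_natCard _
      have hcop : Nat.Coprime (2 ^ k) (Nat.card N) :=
        Nat.Coprime.pow_left k ((Nat.Prime.coprime_iff_not_dvd Nat.prime_two).mpr hodd)
      have h4 : orderOf (⟨x, hxN'⟩ : N) ∣ 1 := by
        have := Nat.dvd_gcd h1 h2
        rwa [hcop.gcd_eq_one] at this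
      have h5 := orderOf_eq_one_iff.mp (Nat.dvd_one.mp h4)
      exact congrArg Subtype.val h5
    rw [hone x hx, hone y hy]
  · -- `U T = X`, so `N = U` is a `2`-group
    have h1 := Cfsg.Agent.Lib.Helper14.card_sup_mul_card_inf
      (H := (T : Subgroup X)) (K := U) hTU
    rw [sup_comm, inf_comm, hW, hUT, Subgroup.card_bot, mul_one, Subgroup.card_top] at h1
    have hUNcard : Nat.card N ≤ Nat.card U := by
      have h2 : Nat.card N * Nat.card (T : Subgroup X) =
          Nat.card U * Nat.card (T : Subgroup X) := by rw [hcard, h1, mul_comm]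
      have hTpos : 0 < Nat.card (T : Subgroup X) := Nat.card_pos
      exact (Nat.eq_of_mul_eq_mul_right hTpos h2).le
    have hUeq : U = N := Subgroup.eq_of_le_of_card_ge hUN hUNcard
    have hN2 : IsPGroup 2 N := hUeq ▸ hU2
    by_cases hN1 : N = ⊥
    · have hx1 : x = 1 := by rw [hN1] at hxN; exact Subgroup.mem_bot.mp hxN
      rw [hx1, one_mul, mul_one]
    · have hDn : (⁅N, N⁆ : Subgroup X).Normal := inferInstance
      have hDle : ⁅N, N⁆ ≤ N :=
        Subgroup.commutator_le.mpr (fun g1 h1 g2 h2 => Cfsg.Agent.Lib.Helper3.ZJ.comm_mem N h1 h2)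
      have hDT : (⁅N, N⁆ : Subgroup X) ⊓ (T : Subgroup X) = ⊥ := by
        rw [eq_bot_iff, ← hNT]
        exact inf_le_inf_right _ hDle
      have hDlt : Nat.card ↥(⁅N, N⁆ : Subgroup X) < Nat.card N := by
        by_contra hge
        have heq := Subgroup.eq_of_le_of_card_ge hDle (not_lt.mp hge)
        have hnt : Nontrivial ↥N := (Subgroup.nontrivial_iff_ne_bot N).mpr hN1
        have hnil : Group.IsNilpotent ↥N := hN2.isNilpotent
        have hlt := Group.IsSolvable.commutator_lt_top_of_nontrivial ↥N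
        apply hlt.ne
        apply Subgroup.map_injective N.subtype_injective
        rw [commutator_def, Subgroup.map_commutator, ← MonoidHom.range_eq_map,
          Subgroup.range_subtype]
        exact heq
      have hTD : (T : Subgroup X) ≤ Subgroup.normalizer ((⁅N, N⁆ : Subgroup X) : Set X) := by
        rw [Subgroup.normalizer_eq_top_iff.mpr hDn]; exact le_top
      rcases hmax ((⁅N, N⁆ : Subgroup X) ⊔ (T : Subgroup X)) le_sup_right with hW' | hW'
      · have hD1 : (⁅N, N⁆ : Subgroup X) = ⊥ := by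
          rw [eq_bot_iff, ← hDT]
          exact le_inf le_rfl (le_sup_left.trans hW'.le)
        have h3 : ⁅x, y⁆ ∈ (⁅N, N⁆ : Subgroup X) := Subgroup.commutator_mem_commutator hxN hyN
        rw [hD1, Subgroup.mem_bot] at h3
        exact commutatorElement_eq_one_iff_mul_comm.mp h3
      · exfalso
        have h2 := Cfsg.Agent.Lib.Helper14.card_sup_mul_card_inf
          (H := (T : Subgroup X)) (K := (⁅N, N⁆ : Subgroup X)) hTD
        rw [sup_comm, inf_comm, hW', hDT, Subgroup.card_bot, mul_one, Subgroup.card_top] at h2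
        have h3 : Nat.card N * Nat.card (T : Subgroup X) =
            Nat.card ↥(⁅N, N⁆ : Subgroup X) * Nat.card (T : Subgroup X) := by
          rw [hcard, h2, mul_comm]
        have hTpos : 0 < Nat.card (T : Subgroup X) := Nat.card_pos
        have := Nat.eq_of_mul_eq_mul_right hTpos h3
        omega

/-- If a Sylow `p`-subgroup of `M` is maximal, `M / O_p(M)` has a normal `p`-complement. -/
theorem npc_quot_of_sylow_maximal {M : Type u} [Group M] [Finite M] {p : ℕ} [Fact p.Prime]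
    (hp : p ≠ 2) (T : Sylow p M)
    (hmax : ∀ K : Subgroup M, (T : Subgroup M) ≤ K → K = (T : Subgroup M) ∨ K = ⊤)
    [(pCore p M).Normal] :
    ∃ (Tb : Sylow p (M ⧸ pCore p M)) (N : Subgroup (M ⧸ pCore p M)), N.Normal ∧
      N.IsComplement' (Tb : Subgroup (M ⧸ pCore p M)) ∧
      (Tb : Subgroup (M ⧸ pCore p M)) = (T : Subgroup M).map (QuotientGroup.mk' (pCore p M)) ∧
      ∀ K : Subgroup (M ⧸ pCore p M), (Tb : Subgroup (M ⧸ pCore p M)) ≤ K →
        K = (Tb : Subgroup (M ⧸ pCore p M)) ∨ K = ⊤ := by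
  classical
  have hp' : p.Prime := Fact.out
  have hsurj := QuotientGroup.mk'_surjective (pCore p M)
  obtain ⟨Tb, hTb⟩ : ∃ Tb : Sylow p (M ⧸ pCore p M),
      (Tb : Subgroup (M ⧸ pCore p M)) = (T : Subgroup M).map (QuotientGroup.mk' (pCore p M)) :=
    ⟨T.mapSurjective hsurj, Sylow.coe_mapSurjective hsurj T⟩
  have hmaxb : ∀ K : Subgroup (M ⧸ pCore p M), (Tb : Subgroup (M ⧸ pCore p M)) ≤ K →
      K = (Tb : Subgroup (M ⧸ pCore p M)) ∨ K = ⊤ := by
    intro K hK
    have h1 : (T : Subgroup M) ≤ K.comap (QuotientGroup.mk' (pCore p M)) := by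
      rw [← Subgroup.map_le_iff_le_comap, ← hTb]; exact hK
    rcases hmax _ h1 with h2 | h2
    · left
      rw [hTb, ← h2, Subgroup.map_comap_eq_self_of_surjective hsurj]
    · right
      rw [← Subgroup.map_comap_eq_self_of_surjective hsurj K, h2]
      exact Subgroup.map_top_of_surjective _ hsurj
  have hO : pCore p (M ⧸ pCore p M) = ⊥ := pCore_quot_pCore p
  obtain ⟨Z, hZdef⟩ : ∃ Z : Subgroup (M ⧸ pCore p M),
      Z = centerThompsonAOf (Tb : Subgroup (M ⧸ pCore p M)) := ⟨_, rfl⟩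
  have hZT : Z ≤ (Tb : Subgroup (M ⧸ pCore p M)) := by
    rw [hZdef]; exact Cfsg.Agent.Lib.Helper91.ctA_le_self _
  have hTN : (Tb : Subgroup (M ⧸ pCore p M)) ≤ Subgroup.normalizer (Z : Set (M ⧸ pCore p M)) := by
    intro t ht
    rw [hZdef]
    exact Cfsg.Agent.Lib.Helper91.ctA_normalizer (Subgroup.le_normalizer ht)
  have hnpc : HasNormalPComplement p (M ⧸ pCore p M) := by
    rcases hmaxb _ hTN with hN | hN
    · -- the normalizer is a `p`-group
      have hNp : IsPGroup p ↥(Subgroup.normalizer (Z : Set (M ⧸ pCore p M))) :=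
        Tb.isPGroup'.to_le hN.le
      have h : HasNormalPComplement p ↥(Subgroup.normalizer (Z : Set (M ⧸ pCore p M))) := by
        refine ⟨⟨⊤, ?_, ?_⟩, ⊥, Subgroup.normal_bot, Subgroup.isComplement'_bot_top⟩
        · exact hNp.to_subgroup ⊤
        · intro Q _ hQ
          exact top_le_iff.mp hQ
      rw [hZdef] at h
      exact Cfsg.Agent.Lib.Helper3.ZJ.sc_npc_ctA hp Tb (Tb : Subgroup (M ⧸ pCore p M))
        ⟨le_rfl, fun x _ g h => h⟩ h
    · -- `Z` is normal, hence trivial, hence `Tb = 1`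
      have hZn : Z.Normal := Subgroup.normalizer_eq_top_iff.mp hN
      have hZ1 : Z = ⊥ := by
        rw [eq_bot_iff, ← hO]
        exact Cfsg.Agent.Lib.Helper14.le_pCore hZn (Tb.isPGroup'.to_le hZT)
      have hT1 : (Tb : Subgroup (M ⧸ pCore p M)) = ⊥ := by
        by_contra hne
        exact Cfsg.Agent.Lib.Helper91.ctA_ne_bot _ Tb.isPGroup' hne (hZdef ▸ hZ1)
      refine ⟨Tb, ⊤, Subgroup.normal_top, ?_⟩
      rw [hT1]
      exact Subgroup.isComplement'_top_bot
  obtain ⟨P', N, hNn, hc⟩ := hnpc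
  refine ⟨Tb, N, hNn, ?_, hTb, hmaxb⟩
  have hcard : Nat.card N * Nat.card (P' : Subgroup (M ⧸ pCore p M)) = Nat.card (M ⧸ pCore p M) :=
    hc.card_mul_card
  have hP'card := P'.card_eq_multiplicity
  have hTbcard := Tb.card_eq_multiplicity
  have hXpos : Nat.card (M ⧸ pCore p M) ≠ 0 := Nat.card_pos.ne'
  have hNcard : Nat.card N = Nat.card (M ⧸ pCore p M) /
      p ^ (Nat.card (M ⧸ pCore p M)).factorization p := by
    have h := hcard
    rw [hP'card] at h
    exact (Nat.div_eq_of_eq_mul_left (pow_pos hp'.pos _) h.symm).symm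
  apply Subgroup.isComplement'_of_coprime
  · rw [hTbcard, ← hP'card]; exact hcard
  · rw [hTbcard, hNcard]
    exact (Nat.Coprime.pow_left _ (Nat.coprime_ordCompl hp' hXpos)).symm

/-- If a Sylow `p`-subgroup (`p` odd) of the finite group `M` is a maximal subgroup (or all of
`M`), the Sylow `2`-subgroups of `M` are abelian. -/
theorem abSyl_of_sylow_maximal {M : Type u} [Group M] [Finite M] {p : ℕ} [Fact p.Prime]
    (hp : p ≠ 2) (T : Sylow p M)
    (hmax : ∀ K : Subgroup M, (T : Subgroup M) ≤ K → K = (T : Subgroup M) ∨ K = ⊤) :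
    Cfsg.Agent.S0626.AbSyl M := by
  classical
  have hHn : (pCore p M).Normal := inferInstance
  obtain ⟨Tb, N, hNn, hc, -, hmaxb⟩ := npc_quot_of_sylow_maximal hp T hmax
  have := hNn
  have hcomm := two_elts_commute_of_npc hp Tb hmaxb N hc
  intro T2 x hx y hy
  have h2 : ∀ g : M, g ∈ (T2 : Subgroup M) → ∃ k : ℕ, g ^ 2 ^ k = 1 := by
    intro g hg
    obtain ⟨k, hk⟩ := T2.isPGroup' ⟨g, hg⟩
    exact ⟨k, congrArg Subtype.val hk⟩
  have hq : ∀ g : M, (∃ k : ℕ, g ^ 2 ^ k = 1) →
      ∃ k : ℕ, (QuotientGroup.mk' (pCore p M) g) ^ 2 ^ k = 1 := by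
    rintro g ⟨k, hk⟩
    exact ⟨k, by rw [← map_pow, hk, map_one]⟩
  have h3 := hcomm _ _ (hq x (h2 x hx)) (hq y (h2 y hy))
  have h4 : ⁅x, y⁆ ∈ pCore p M := by
    rw [← QuotientGroup.eq_one_iff, ← QuotientGroup.mk'_apply, map_commutatorElement]
    exact commutatorElement_eq_one_iff_mul_comm.mpr h3
  obtain ⟨j, hj⟩ := (Cfsg.Agent.Lib.Helper14.pCore_isPGroup (p := p) (G := M)) ⟨_, h4⟩
  have hj' : ⁅x, y⁆ ^ p ^ j = 1 := congrArg Subtype.val hj
  have h5 : ⁅x, y⁆ ∈ (T2 : Subgroup M) := Cfsg.Agent.Lib.Helper3.ZJ.comm_mem _ hx hy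
  obtain ⟨k, hk⟩ := h2 _ h5
  exact commutatorElement_eq_one_iff_mul_comm.mp (eq_one_of_two_pow_of_p_pow hp hk hj')

end MaxSyl

end Cfsg.Agent.Lib.Helper30
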