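import Mathlib
import Cfsg.Prelude.Def_FusionSystem
import Cfsg.Prelude.Def_PLocal
import Cfsg.Agent.Lib.Helper30.AxZJ
import Cfsg.Agent.Lib.Helper30.MaxSyl
import Cfsg.Agent.Lib.Helper3.ZJ5
import Cfsg.Agent.Lib.Helper88.Realize

/-!
# The group step of the axiomatic Glauberman–Thompson criterion

`E` a fusion system over `S` realized by `ι : S →* G` on a Sylow `p`-subgroup of the finite group
`G` of characteristic `p`, `p` odd, and `𝒜` a family of abelian subgroups of `S` with the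
invariance and the replacement property.  If every `E`-self-map of a subgroup containing
`I = ⋂ 𝒜` that maps `I` into itself is a conjugation by an element of `S`, then `G = ι(S)`.

Proof: a minimal subgroup `M` of `G` properly containing the Sylow subgroup has abelian Sylow
`2`-subgroups (`abSyl_of_sylow_maximal`), so is `p`-stable; the axiomatic `ZJ`-theorem `ax_zj`
makes the image of `I` normal in `M`; then conjugation by any element of `M` on `O_p(M) ι(I)`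
is induced by `S`, and `C_M(O_p(M)) ≤ O_p(M)` forces `M = ι(S)`.
-/

set_option autoImplicit false

namespace Cfsg.Agent.Lib.Helper30

open Cfsg Cfsg.FusionSystem Cfsg.Agent.Lib.Helper90 Cfsg.Agent.Lib.Helper88
open scoped commutatorElement

universe u

section AxGT

variable {Ω : Type u} [Group Ω] {S : Subgroup Ω} {E : FusionSystem S}

theorem top_of_realized_ax [Finite S] {p : ℕ} [Fact p.Prime] (hp : p ≠ 2)
    {G : Type u} [Group G] [Finite G] (ι : S →* G) (hι : E.IsRealizedBy ι) (T : Sylow p G)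
    (hT : (T : Subgroup G) = ι.range)
    (hcen : Subgroup.centralizer ((pCore p G : Subgroup G) : Set G) ≤ pCore p G)
    (𝒜 : Set (Subgroup Ω))
    (h𝒜 : ∀ A ∈ 𝒜, A ≤ S ∧ ∀ a ∈ A, ∀ b ∈ A, a * b = b * a) (hne : 𝒜.Nonempty)
    (hinv : ∀ Q : Subgroup Ω, Q ≤ S → (∃ A ∈ 𝒜, A ≤ Q) → ∀ f : Ω → Ω, Mor E Q f →
      (∀ x ∈ Q, f x ∈ Q) → ∀ x ∈ Q, (∀ A ∈ 𝒜, A ≤ Q → x ∈ A) → ∀ A ∈ 𝒜, A ≤ Q → f x ∈ A)
    (hrep : ∀ B : Subgroup Ω, B ≤ S →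
      (∀ x ∈ B, ∀ y ∈ B, ∀ w ∈ B, ⁅x, y⁆ * w = w * ⁅x, y⁆) →
      (∃ A ∈ 𝒜, (∀ x ∈ B, ∀ y ∈ B, ⁅x, y⁆ ∈ A) ∧ ¬ B ≤ A) →
      ∃ A ∈ 𝒜, ¬ B ≤ A ∧ ∀ b ∈ B, ∀ a ∈ A, b * a * b⁻¹ ∈ A)
    (hkey : ∀ (P : Subgroup Ω) (f : Ω → Ω), (∀ x : Ω, (∀ A ∈ 𝒜, x ∈ A) → x ∈ P) → Mor E P f →
      (∀ x ∈ P, f x ∈ P) → (∀ x : Ω, (∀ A ∈ 𝒜, x ∈ A) → ∀ A ∈ 𝒜, f x ∈ A) →
      ∃ a ∈ S, ∀ x ∈ P, f x = a * x * a⁻¹) :
    (T : Subgroup G) = ⊤ := by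
  classical
  by_contra hTtop
  have hinj := hι.1
  -- a minimal subgroup properly containing `T`
  have hfin : {K : Subgroup G | (T : Subgroup G) < K}.Finite := Set.toFinite _
  have hnon : {K : Subgroup G | (T : Subgroup G) < K}.Nonempty :=
    ⟨⊤, lt_top_iff_ne_top.mpr hTtop⟩
  obtain ⟨M, hTM, hMmin⟩ :=
    Set.exists_min_image _ (fun K : Subgroup G => Nat.card K) hfin hnon
  have hTM' : (T : Subgroup G) ≤ M := (show (T : Subgroup G) < M from hTM).le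
  have hmaxG : ∀ K : Subgroup G, (T : Subgroup G) ≤ K → K ≤ M → K = (T : Subgroup G) ∨ K = M := by
    intro K hTK hKM
    by_cases h : (T : Subgroup G) = K
    · left; exact h.symm
    · right
      exact Subgroup.eq_of_le_of_card_ge hKM (hMmin K (lt_of_le_of_ne hTK h))
  -- the Sylow subgroup of `M`
  obtain ⟨TM, hTMcoe⟩ : ∃ TM : Sylow p M, (TM : Subgroup M) = (T : Subgroup G).subgroupOf M :=
    ⟨T.subtype hTM', Sylow.coe_subtype T hTM'⟩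
  have hmaxM : ∀ K : Subgroup M, (TM : Subgroup M) ≤ K → K = (TM : Subgroup M) ∨ K = ⊤ := by
    intro K hK
    have h1 : (T : Subgroup G) ≤ K.map M.subtype := by
      intro t ht
      exact ⟨⟨t, hTM' ht⟩, hK (by rw [hTMcoe]; exact Subgroup.mem_subgroupOf.mpr ht), rfl⟩
    rcases hmaxG _ h1 (Subgroup.map_subtype_le K) with h2 | h2
    · left
      rw [hTMcoe, ← h2]
      exact (Subgroup.comap_map_eq_self_of_injective M.subtype_injective K).symm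
    · right
      rw [eq_top_iff]
      intro m _
      have h3 : (m : G) ∈ K.map M.subtype := by rw [h2]; exact m.2
      obtain ⟨k, hk, hkm⟩ := h3
      have h4 : k = m := Subtype.ext hkm
      rwa [← h4]
  have hab := abSyl_of_sylow_maximal hp TM hmaxM
  have hstM := Cfsg.Agent.Lib.Helper3.ZJ.hst_of_abSyl hp hab
  have hcM : Subgroup.centralizer ((pCore p M : Subgroup M) : Set M) ≤ pCore p M := by
    have hnG : (pCore p G).Normal := inferInstance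
    have hle : (pCore p G).subgroupOf M ≤ pCore p M :=
      Cfsg.Agent.Lib.Helper14.le_pCore (hnG.subgroupOf M)
        (IsPGroup.comap_subtype Cfsg.Agent.Lib.Helper14.pCore_isPGroup)
    intro c hc
    apply hle
    rw [Subgroup.mem_subgroupOf]
    apply hcen
    rw [Subgroup.mem_centralizer_iff]
    intro h hh
    have hhM : h ∈ M := hTM' (Cfsg.Agent.Lib.Helper14.pCore_le_sylow T hh)
    have h1 := Subgroup.mem_centralizer_iff.mp hc ⟨h, hhM⟩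
      (hle (Subgroup.mem_subgroupOf.mpr hh))
    exact congrArg Subtype.val h1
  -- the embedding of `S` into `M`
  have hrange : ∀ s : S, ι s ∈ M := fun s => hTM' (hT ▸ ⟨s, rfl⟩)
  obtain ⟨ιM, hιM⟩ : ∃ ιM : S →* M, ∀ s : S, ((ιM s : M) : G) = ι s :=
    ⟨ι.codRestrict M hrange, fun s => rfl⟩
  have hιMinj : Function.Injective ιM := fun a b h =>
    hinj ((hιM a).symm.trans ((congrArg Subtype.val h).trans (hιM b)))
  have hTMmem : ∀ m : M, m ∈ (TM : Subgroup M) ↔ ∃ s : S, ιM s = m := by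
    intro m
    rw [hTMcoe, Subgroup.mem_subgroupOf, hT]
    constructor
    · rintro ⟨s, hs⟩
      exact ⟨s, Subtype.ext ((hιM s).trans hs)⟩
    · rintro ⟨s, rfl⟩
      exact ⟨s, (hιM s).symm⟩
  -- the transported family
  obtain ⟨Φ, hΦmem⟩ : ∃ Φ : Subgroup Ω → Subgroup M,
      ∀ (A : Subgroup Ω) (m : M), m ∈ Φ A ↔ ∃ s : S, (s : Ω) ∈ A ∧ ιM s = m := by
    refine ⟨fun A => (A.subgroupOf S).map ιM, fun A m => ?_⟩
    constructor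
    · rintro ⟨s, hs, rfl⟩
      exact ⟨s, Subgroup.mem_subgroupOf.mp hs, rfl⟩
    · rintro ⟨s, hs, rfl⟩
      exact ⟨s, Subgroup.mem_subgroupOf.mpr hs, rfl⟩
  have hΦT : ∀ A : Subgroup Ω, Φ A ≤ (TM : Subgroup M) := by
    intro A m hm
    obtain ⟨s, -, rfl⟩ := (hΦmem A m).mp hm
    exact (hTMmem _).mpr ⟨s, rfl⟩
  -- `ιM s ∈ Φ A` iff `s ∈ A`
  have hΦinj : ∀ (A : Subgroup Ω) (s : S), ιM s ∈ Φ A → (s : Ω) ∈ A := by
    intro A s hs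
    obtain ⟨s', hs', he⟩ := (hΦmem A _).mp hs
    rw [← hιMinj he]
    exact hs'
  have hΦof : ∀ (A : Subgroup Ω) (s : S), (s : Ω) ∈ A → ιM s ∈ Φ A :=
    fun A s hs => (hΦmem A _).mpr ⟨s, hs, rfl⟩
  -- preimages
  have hΨmem : ∀ (Q' : Subgroup M) (x : Ω), x ∈ preIota ιM Q' ↔ ∃ hx : x ∈ S, ιM ⟨x, hx⟩ ∈ Q' :=
    fun Q' x => mem_preIota
  have hΨS : ∀ Q' : Subgroup M, preIota ιM Q' ≤ S := fun Q' => preIota_le ιM Q'
  have hΦΨ : ∀ (A : Subgroup Ω) (Q' : Subgroup M), A ≤ S → (Φ A ≤ Q' ↔ A ≤ preIota ιM Q') := by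
    intro A Q' hAS
    constructor
    · intro h a ha
      exact (hΨmem Q' a).mpr ⟨hAS ha, h (hΦof A ⟨a, hAS ha⟩ ha)⟩
    · intro h m hm
      obtain ⟨s, hs, rfl⟩ := (hΦmem A m).mp hm
      obtain ⟨hx, hx'⟩ := (hΨmem Q' _).mp (h hs)
      exact hx'
  obtain ⟨𝒜M, h𝒜M⟩ : ∃ 𝒜M : Set (Subgroup M), 𝒜M = Φ '' 𝒜 := ⟨_, rfl⟩
  have hmem𝒜M : ∀ A ∈ 𝒜, Φ A ∈ 𝒜M := fun A hA => by rw [h𝒜M]; exact ⟨A, hA, rfl⟩
  obtain ⟨A0, hA0⟩ := hne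
  -- the hypotheses of the axiomatic `ZJ`-theorem
  have hA' : ∀ A' ∈ 𝒜M, A' ≤ (TM : Subgroup M) ∧ ∀ a ∈ A', ∀ b ∈ A', a * b = b * a := by
    intro A' hA'
    rw [h𝒜M] at hA'
    obtain ⟨A, hA, rfl⟩ := hA'
    refine ⟨hΦT A, ?_⟩
    intro a ha b hb
    obtain ⟨s, hs, rfl⟩ := (hΦmem A a).mp ha
    obtain ⟨t, ht, rfl⟩ := (hΦmem A b).mp hb
    have h1 : s * t = t * s := Subtype.ext ((h𝒜 A hA).2 _ hs _ ht)
    rw [← map_mul, ← map_mul, h1]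
  have hinv' : ∀ Q' : Subgroup M, Q' ≤ (TM : Subgroup M) → (∃ A' ∈ 𝒜M, A' ≤ Q') →
      ∀ g ∈ Subgroup.normalizer (Q' : Set M), ∀ x' : M, (∀ A' ∈ 𝒜M, A' ≤ Q' → x' ∈ A') →
        ∀ A' ∈ 𝒜M, A' ≤ Q' → g * x' * g⁻¹ ∈ A' := by
    intro Q' hQ'T hex g hg x' hx' A'' hA'' hA''Q
    obtain ⟨A', hA'm, hA'Q⟩ := hex
    rw [h𝒜M] at hA'm hA''
    obtain ⟨A, hA, rfl⟩ := hA'm
    obtain ⟨A2, hA2, rfl⟩ := hA''
    have hQS := hΨS Q'
    have hAQ : A ≤ preIota ιM Q' := (hΦΨ A Q' (h𝒜 A hA).1).mp hA'Q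
    have hA2Q : A2 ≤ preIota ιM Q' := (hΦΨ A2 Q' (h𝒜 A2 hA2).1).mp hA''Q
    obtain ⟨s, hs, rfl⟩ := (hΦmem A x').mp (hx' _ (hmem𝒜M A hA) hA'Q)
    have hconjQ : ∀ y ∈ Q', g * y * g⁻¹ ∈ Q' := fun y hy =>
      (Subgroup.mem_normalizer_iff.mp hg y).mp hy
    have hgr : ∀ x (hx : x ∈ preIota ιM Q'), (g : G) * ι ⟨x, hQS hx⟩ * (g : G)⁻¹ ∈ ι.range := by
      intro x hx
      obtain ⟨hxS, hxQ⟩ := (hΨmem Q' x).mp hx
      obtain ⟨s', hs'⟩ := (hTMmem _).mp (hQ'T (hconjQ _ hxQ))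
      refine ⟨s', ?_⟩
      rw [← hιM s', hs', ← hιM]
      rfl
    obtain ⟨f, hf, hfι⟩ := exists_mor_of_realized hι hQS (g : G) hgr
    have hfM : ∀ x (hx : x ∈ preIota ιM Q'), ∃ hfx : f x ∈ S,
        ιM ⟨f x, hfx⟩ = g * ιM ⟨x, hQS hx⟩ * g⁻¹ := by
      intro x hx
      obtain ⟨hfx, hfe⟩ := hfι x hx
      refine ⟨hfx, Subtype.ext ?_⟩
      rw [hιM, hfe, ← hιM]
      rfl
    have hfQ : ∀ x ∈ preIota ιM Q', f x ∈ preIota ιM Q' := by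
      intro x hx
      obtain ⟨hfx, hfe⟩ := hfM x hx
      obtain ⟨hxS, hxQ⟩ := (hΨmem Q' x).mp hx
      exact (hΨmem Q' _).mpr ⟨hfx, hfe ▸ hconjQ _ hxQ⟩
    have hxall : ∀ A3 ∈ 𝒜, A3 ≤ preIota ιM Q' → (s : Ω) ∈ A3 := by
      intro A3 hA3 hA3Q
      exact hΦinj A3 s (hx' _ (hmem𝒜M A3 hA3) ((hΦΨ A3 Q' (h𝒜 A3 hA3).1).mpr hA3Q))
    have hfs := hinv _ hQS ⟨A, hA, hAQ⟩ f hf hfQ (s : Ω) (hAQ hs) hxall A2 hA2 hA2Q
    obtain ⟨hfx, hfe⟩ := hfM (s : Ω) (hAQ hs)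
    have e : (⟨(s : Ω), hQS (hAQ hs)⟩ : S) = s := rfl
    rw [e] at hfe
    rw [← hfe]
    exact hΦof A2 ⟨f s, hfx⟩ hfs
  have hrep' : ∀ B' : Subgroup M, B' ≤ (TM : Subgroup M) →
      (∀ x ∈ B', ∀ y ∈ B', ∀ w ∈ B', ⁅x, y⁆ * w = w * ⁅x, y⁆) →
      (∃ A' ∈ 𝒜M, (∀ x ∈ B', ∀ y ∈ B', ⁅x, y⁆ ∈ A') ∧ ¬ B' ≤ A') →
      ∃ A' ∈ 𝒜M, ¬ B' ≤ A' ∧ ∀ b ∈ B', ∀ a ∈ A', b * a * b⁻¹ ∈ A' := by
    intro B' hB'T hB'2 hex
    obtain ⟨A', hA'm, hcomm, hnB⟩ := hex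
    rw [h𝒜M] at hA'm
    obtain ⟨A, hA, rfl⟩ := hA'm
    have hBS := hΨS B'
    have hBmem : ∀ x (hx : x ∈ preIota ιM B'), ιM ⟨x, hBS hx⟩ ∈ B' := fun x hx =>
      ((hΨmem B' x).mp hx).2
    have hB'pre : ∀ b' ∈ B', ∃ s : S, ιM s = b' ∧ (s : Ω) ∈ preIota ιM B' := by
      intro b' hb'
      obtain ⟨s, rfl⟩ := (hTMmem b').mp (hB'T hb')
      exact ⟨s, rfl, (hΨmem B' _).mpr ⟨s.2, hb'⟩⟩
    have h2 : ∀ x ∈ preIota ιM B', ∀ y ∈ preIota ιM B', ∀ w ∈ preIota ιM B',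
        ⁅x, y⁆ * w = w * ⁅x, y⁆ := by
      intro x hx y hy w hw
      have h3 := hB'2 _ (hBmem x hx) _ (hBmem y hy) _ (hBmem w hw)
      rw [← map_commutatorElement, ← map_mul, ← map_mul] at h3
      exact congrArg Subtype.val (hιMinj h3)
    have hc : ∀ x ∈ preIota ιM B', ∀ y ∈ preIota ιM B', ⁅x, y⁆ ∈ A := by
      intro x hx y hy
      have h3 := hcomm _ (hBmem x hx) _ (hBmem y hy)
      rw [← map_commutatorElement] at h3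
      exact hΦinj A _ h3
    have hn : ¬ preIota ιM B' ≤ A := by
      intro hle
      apply hnB
      intro b' hb'
      obtain ⟨s, rfl, hs⟩ := hB'pre b' hb'
      exact hΦof A s (hle hs)
    obtain ⟨A1, hA1, hnBA1, hnorm⟩ := hrep _ hBS h2 ⟨A, hA, hc, hn⟩
    refine ⟨Φ A1, hmem𝒜M A1 hA1, ?_, ?_⟩
    · intro hle
      apply hnBA1
      intro x hx
      exact hΦinj A1 ⟨x, hBS hx⟩ (hle (hBmem x hx))
    · intro b' hb' a' ha'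
      obtain ⟨s, rfl, hs⟩ := hB'pre b' hb'
      obtain ⟨t, ht, rfl⟩ := (hΦmem A1 a').mp ha'
      have h3 := hnorm _ hs _ ht
      rw [← map_inv, ← map_mul, ← map_mul]
      exact hΦof A1 (s * t * s⁻¹) h3
  have hzj := ax_zj TM 𝒜M hA' ⟨Φ A0, hmem𝒜M A0 hA0⟩ hinv' hrep' hstM hcM
  -- an element of `M` outside `TM`
  obtain ⟨m, hmM, hmT⟩ : ∃ m ∈ M, m ∉ (T : Subgroup G) := by
    by_contra hcon
    push Not at hcon
    exact (show (T : Subgroup G) < M from hTM).ne (le_antisymm hTM' hcon)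
  obtain ⟨g, hgdef⟩ : ∃ g : M, g = ⟨m, hmM⟩ := ⟨_, rfl⟩
  have hgT : g ∉ (TM : Subgroup M) := by
    rw [hTMcoe, Subgroup.mem_subgroupOf, hgdef]
    exact hmT
  -- the normal subgroup `O_p(M) ⊔ ⋂ 𝒜M`
  have hRn : (pCore p M).Normal := inferInstance
  have hIn : (sInf 𝒜M).Normal := by
    constructor
    intro z hz g'
    rw [Subgroup.mem_sInf] at hz ⊢
    exact hzj g' z hz
  obtain ⟨P', hP'def⟩ : ∃ P' : Subgroup M, P' = pCore p M ⊔ sInf 𝒜M := ⟨_, rfl⟩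
  have hP'n : P'.Normal := by rw [hP'def]; infer_instance
  have hRT : pCore p M ≤ (TM : Subgroup M) := Cfsg.Agent.Lib.Helper14.pCore_le_sylow TM
  have hP'T : P' ≤ (TM : Subgroup M) := by
    rw [hP'def]
    exact sup_le hRT ((sInf_le (hmem𝒜M A0 hA0)).trans (hΦT A0))
  have hPS := hΨS P'
  have hIP : ∀ x : Ω, (∀ A ∈ 𝒜, x ∈ A) → x ∈ preIota ιM P' := by
    intro x hx
    have hxS : x ∈ S := (h𝒜 A0 hA0).1 (hx A0 hA0)
    refine (hΨmem P' x).mpr ⟨hxS, ?_⟩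
    rw [hP'def]
    apply Subgroup.mem_sup_right
    rw [Subgroup.mem_sInf]
    intro A' hA'm
    rw [h𝒜M] at hA'm
    obtain ⟨A, hA, rfl⟩ := hA'm
    exact hΦof A ⟨x, hxS⟩ (hx A hA)
  have hgr : ∀ x (hx : x ∈ preIota ιM P'), (g : G) * ι ⟨x, hPS hx⟩ * (g : G)⁻¹ ∈ ι.range := by
    intro x hx
    obtain ⟨hxS, hxP⟩ := (hΨmem P' x).mp hx
    obtain ⟨s', hs'⟩ := (hTMmem _).mp (hP'T (hP'n.conj_mem _ hxP g))
    refine ⟨s', ?_⟩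
    rw [← hιM s', hs', ← hιM]
    rfl
  obtain ⟨f, hf, hfι⟩ := exists_mor_of_realized hι hPS (g : G) hgr
  have hfM : ∀ x (hx : x ∈ preIota ιM P'), ∃ hfx : f x ∈ S,
      ιM ⟨f x, hfx⟩ = g * ιM ⟨x, hPS hx⟩ * g⁻¹ := by
    intro x hx
    obtain ⟨hfx, hfe⟩ := hfι x hx
    refine ⟨hfx, Subtype.ext ?_⟩
    rw [hιM, hfe, ← hιM]
    rfl
  have hfP : ∀ x ∈ preIota ιM P', f x ∈ preIota ιM P' := by
    intro x hx
    obtain ⟨hfx, hfe⟩ := hfM x hx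
    obtain ⟨hxS, hxP⟩ := (hΨmem P' x).mp hx
    exact (hΨmem P' _).mpr ⟨hfx, hfe ▸ hP'n.conj_mem _ hxP g⟩
  have hfI : ∀ x : Ω, (∀ A ∈ 𝒜, x ∈ A) → ∀ A ∈ 𝒜, f x ∈ A := by
    intro x hx A hA
    have hxP := hIP x hx
    obtain ⟨hfx, hfe⟩ := hfM x hxP
    have h1 : g * ιM ⟨x, hPS hxP⟩ * g⁻¹ ∈ Φ A := by
      apply hzj g _ _ (Φ A) (hmem𝒜M A hA)
      intro A' hA'm
      rw [h𝒜M] at hA'm
      obtain ⟨A3, hA3, rfl⟩ := hA'm
      exact hΦof A3 _ (hx A3 hA3)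
    rw [← hfe] at h1
    exact hΦinj A _ h1
  obtain ⟨a, haS, hfa⟩ := hkey _ f hIP hf hfP hfI
  -- `(ιM a)⁻¹ g` centralizes `O_p(M)`
  have hcent : (ιM ⟨a, haS⟩)⁻¹ * g ∈ Subgroup.centralizer ((pCore p M : Subgroup M) : Set M) := by
    rw [Subgroup.mem_centralizer_iff]
    intro r hr
    obtain ⟨s, rfl⟩ := (hTMmem r).mp (hRT hr)
    have hsP : (s : Ω) ∈ preIota ιM P' := by
      refine (hΨmem P' _).mpr ⟨s.2, ?_⟩
      rw [hP'def]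
      exact Subgroup.mem_sup_left hr
    obtain ⟨hfx, hfe⟩ := hfM (s : Ω) hsP
    have e : (⟨(s : Ω), hPS hsP⟩ : S) = s := rfl
    rw [e] at hfe
    have h1 : (⟨f (s : Ω), hfx⟩ : S) = ⟨a, haS⟩ * s * ⟨a, haS⟩⁻¹ := Subtype.ext (hfa _ hsP)
    rw [h1, map_mul, map_mul, map_inv] at hfe
    calc ιM s * ((ιM ⟨a, haS⟩)⁻¹ * g)
        = (ιM ⟨a, haS⟩)⁻¹ * (ιM ⟨a, haS⟩ * ιM s * (ιM ⟨a, haS⟩)⁻¹) * g := by group
      _ = (ιM ⟨a, haS⟩)⁻¹ * (g * ιM s * g⁻¹) * g := by rw [hfe]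
      _ = (ιM ⟨a, haS⟩)⁻¹ * g * ιM s := by group
  apply hgT
  have h1 : (ιM ⟨a, haS⟩)⁻¹ * g ∈ (TM : Subgroup M) := hRT (hcM hcent)
  have h2 : ιM ⟨a, haS⟩ ∈ (TM : Subgroup M) := (hTMmem _).mpr ⟨_, rfl⟩
  have e : g = ιM ⟨a, haS⟩ * ((ιM ⟨a, haS⟩)⁻¹ * g) := by group
  rw [e]
  exact (TM : Subgroup M).mul_mem h2 h1

end AxGT

end Cfsg.Agent.Lib.Helper30
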