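import Mathlib

set_option autoImplicit false

/-!
The binomial identity behind the Hall–Wielandt / Yoshida transfer theorems: for a function `χ`
with values in an abelian group of exponent `p`, multiplicative on a `z`-invariant subgroup `Y`,
`∏_{i<p} χ([u, z^i]) = χ([u, z; p-1])`.
-/

namespace Cfsg.Agent.Lib.Helper30

section

variable {G : Type*} [Group G] {A : Type*} [CommGroup A]

/-- `χ` is multiplicative on the subgroup `Y`. -/
def MulOn (Y : Subgroup G) (χ : G → A) : Prop := ∀ a ∈ Y, ∀ b ∈ Y, χ (a * b) = χ a * χ b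

theorem MulOn.map_one {Y : Subgroup G} {χ : G → A} (h : MulOn Y χ) : χ 1 = 1 := by
  have h1 := h 1 Y.one_mem 1 Y.one_mem
  rw [mul_one] at h1
  exact mul_eq_left.mp h1.symm

theorem MulOn.map_inv {Y : Subgroup G} {χ : G → A} (h : MulOn Y χ) {a : G} (ha : a ∈ Y) :
    χ a⁻¹ = (χ a)⁻¹ := by
  have h1 := h a ha a⁻¹ (Y.inv_mem ha)
  rw [mul_inv_cancel, h.map_one] at h1
  exact eq_inv_of_mul_eq_one_right h1.symm

theorem MulOn.comp_comm {Y : Subgroup G} {χ : G → A} (h : MulOn Y χ) (z : G)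
    (hz : ∀ y ∈ Y, z⁻¹ * y * z ∈ Y) : MulOn Y (fun y => χ (y⁻¹ * z⁻¹ * y * z)) := by
  intro a ha b hb
  show χ ((a * b)⁻¹ * z⁻¹ * (a * b) * z) = χ (a⁻¹ * z⁻¹ * a * z) * χ (b⁻¹ * z⁻¹ * b * z)
  have e1 : (a * b)⁻¹ * z⁻¹ * (a * b) * z = b⁻¹ * (a⁻¹ * ((z⁻¹ * a * z) * (z⁻¹ * b * z))) := by
    group
  have e2 : a⁻¹ * z⁻¹ * a * z = a⁻¹ * (z⁻¹ * a * z) := by group
  have e3 : b⁻¹ * z⁻¹ * b * z = b⁻¹ * (z⁻¹ * b * z) := by group
  rw [e1, e2, e3, h _ (Y.inv_mem hb) _ (Y.mul_mem (Y.inv_mem ha) (Y.mul_mem (hz a ha) (hz b hb))),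
    h _ (Y.inv_mem ha) _ (Y.mul_mem (hz a ha) (hz b hb)), h _ (hz a ha) _ (hz b hb),
    h _ (Y.inv_mem ha) _ (hz a ha), h _ (Y.inv_mem hb) _ (hz b hb)]
  ac_rfl

theorem iterate_comm_mem {Y : Subgroup G} (z : G) (hz : ∀ y ∈ Y, z⁻¹ * y * z ∈ Y) {c : G}
    (hc : c ∈ Y) (k : ℕ) : (fun y : G => y⁻¹ * z⁻¹ * y * z)^[k] c ∈ Y := by
  induction k with
  | zero => exact hc
  | succ k ih =>
    rw [Function.iterate_succ_apply']
    have e : ∀ y : G, y⁻¹ * z⁻¹ * y * z = y⁻¹ * (z⁻¹ * y * z) := fun y => by group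
    rw [e]
    exact Y.mul_mem (Y.inv_mem ih) (hz _ ih)

theorem sum_range_choose (n m : ℕ) : ∑ i ∈ Finset.range n, i.choose m = n.choose (m + 1) := by
  induction n with
  | zero => simp
  | succ n ih => rw [Finset.sum_range_succ, ih, Nat.choose_succ_succ, add_comm]

theorem chi_seq {Y : Subgroup G} (z : G) (hz : ∀ y ∈ Y, z⁻¹ * y * z ∈ Y) {c : G} (hc : c ∈ Y)
    (a : ℕ → G) (ha0 : a 0 = 1) (hrec : ∀ i, a (i + 1) = c * (z⁻¹ * a i * z)) (N : ℕ) :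
    ∀ i, i ≤ N → ∀ χ : G → A, MulOn Y χ →
      χ (a i) = ∏ k ∈ Finset.range N,
        χ ((fun y : G => y⁻¹ * z⁻¹ * y * z)^[k] c) ^ (i.choose (k + 1)) := by
  have haY : ∀ i, a i ∈ Y := by
    intro i
    induction i with
    | zero => rw [ha0]; exact Y.one_mem
    | succ i ih => rw [hrec]; exact Y.mul_mem hc (hz _ ih)
  intro i
  induction i with
  | zero =>
    intro _ χ hχ
    rw [ha0, hχ.map_one]
    symm
    apply Finset.prod_eq_one
    intro k _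
    rw [Nat.choose_zero_succ, pow_zero]
  | succ i ih =>
    intro hi χ hχ
    have hi' : i ≤ N := Nat.le_of_succ_le hi
    have e1 : z⁻¹ * a i * z = a i * ((a i)⁻¹ * z⁻¹ * a i * z) := by group
    have hT : (a i)⁻¹ * z⁻¹ * a i * z ∈ Y := by
      have e : (a i)⁻¹ * z⁻¹ * a i * z = (a i)⁻¹ * (z⁻¹ * a i * z) := by group
      rw [e]; exact Y.mul_mem (Y.inv_mem (haY i)) (hz _ (haY i))
    rw [hrec, hχ _ hc _ (hz _ (haY i)), e1, hχ _ (haY i) _ hT, ih hi' χ hχ]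
    have h2 : χ ((a i)⁻¹ * z⁻¹ * a i * z) = ∏ k ∈ Finset.range N,
        χ (((fun y : G => y⁻¹ * z⁻¹ * y * z)^[k] c)⁻¹ * z⁻¹ *
          (fun y : G => y⁻¹ * z⁻¹ * y * z)^[k] c * z) ^ (i.choose (k + 1)) :=
      ih hi' (fun y => χ (y⁻¹ * z⁻¹ * y * z)) (hχ.comp_comm z hz)
    rw [h2]
    obtain ⟨N', rfl⟩ : ∃ N', N = N' + 1 := ⟨N - 1, by omega⟩
    have h3 : ∀ k : ℕ, ((fun y : G => y⁻¹ * z⁻¹ * y * z)^[k] c)⁻¹ * z⁻¹ *
        (fun y : G => y⁻¹ * z⁻¹ * y * z)^[k] c * z =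
        (fun y : G => y⁻¹ * z⁻¹ * y * z)^[k + 1] c := by
      intro k
      rw [Function.iterate_succ_apply']
    simp only [h3]
    have h4 : ∏ k ∈ Finset.range (N' + 1),
        χ ((fun y : G => y⁻¹ * z⁻¹ * y * z)^[k + 1] c) ^ (i.choose (k + 1)) =
        ∏ k ∈ Finset.range N',
        χ ((fun y : G => y⁻¹ * z⁻¹ * y * z)^[k + 1] c) ^ (i.choose (k + 1)) := by
      rw [Finset.prod_range_succ]
      have : i.choose (N' + 1) = 0 := Nat.choose_eq_zero_of_lt (by omega)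
      rw [this, pow_zero, mul_one]
    rw [h4]
    have h5 : ∏ k ∈ Finset.range (N' + 1),
        χ ((fun y : G => y⁻¹ * z⁻¹ * y * z)^[k] c) ^ ((i + 1).choose (k + 1)) =
        (∏ k ∈ Finset.range (N' + 1),
          χ ((fun y : G => y⁻¹ * z⁻¹ * y * z)^[k] c) ^ (i.choose (k + 1))) *
        (χ c * ∏ k ∈ Finset.range N',
          χ ((fun y : G => y⁻¹ * z⁻¹ * y * z)^[k + 1] c) ^ (i.choose (k + 1))) := by
      have h6 : χ c * ∏ k ∈ Finset.range N',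
          χ ((fun y : G => y⁻¹ * z⁻¹ * y * z)^[k + 1] c) ^ (i.choose (k + 1)) =
          ∏ k ∈ Finset.range (N' + 1),
          χ ((fun y : G => y⁻¹ * z⁻¹ * y * z)^[k] c) ^ (i.choose k) := by
        rw [Finset.prod_range_succ' _ N']
        simp [mul_comm]
      rw [h6, ← Finset.prod_mul_distrib]
      apply Finset.prod_congr rfl
      intro k _
      rw [← pow_add, Nat.choose_succ_succ, add_comm]
    rw [h5]
    ac_rfl

/-- the binomial identity: `∏_{i<p} χ([u, z^i]) = χ([u, z; p-1])` -/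
theorem prod_comm_pow_eq (p : ℕ) [hp : Fact p.Prime] (hA : ∀ a : A, a ^ p = 1) (Y : Subgroup G)
    (χ : G → A) (hχ : MulOn Y χ) (z u : G) (hz : ∀ y ∈ Y, z⁻¹ * y * z ∈ Y)
    (hc : u⁻¹ * z⁻¹ * u * z ∈ Y) :
    ∏ i ∈ Finset.range p, χ (u⁻¹ * (z ^ i)⁻¹ * u * z ^ i) =
      χ ((fun y : G => y⁻¹ * z⁻¹ * y * z)^[p - 1] u) := by
  have hp2 : 2 ≤ p := hp.out.two_le
  have hrec : ∀ i, u⁻¹ * (z ^ (i + 1))⁻¹ * u * z ^ (i + 1) =
      (u⁻¹ * z⁻¹ * u * z) * (z⁻¹ * (u⁻¹ * (z ^ i)⁻¹ * u * z ^ i) * z) := by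
    intro i
    rw [pow_succ]
    group
  have key := chi_seq (A := A) z hz hc (fun i => u⁻¹ * (z ^ i)⁻¹ * u * z ^ i) (by simp) hrec p
  have h1 : ∀ i ∈ Finset.range p, χ (u⁻¹ * (z ^ i)⁻¹ * u * z ^ i) =
      ∏ k ∈ Finset.range p,
        χ ((fun y : G => y⁻¹ * z⁻¹ * y * z)^[k] (u⁻¹ * z⁻¹ * u * z)) ^ (i.choose (k + 1)) := by
    intro i hi
    exact key i (le_of_lt (Finset.mem_range.mp hi)) χ hχ
  rw [Finset.prod_congr rfl h1, Finset.prod_comm]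
  have h2 : ∀ k ∈ Finset.range p, ∏ i ∈ Finset.range p,
      χ ((fun y : G => y⁻¹ * z⁻¹ * y * z)^[k] (u⁻¹ * z⁻¹ * u * z)) ^ (i.choose (k + 1)) =
      χ ((fun y : G => y⁻¹ * z⁻¹ * y * z)^[k] (u⁻¹ * z⁻¹ * u * z)) ^ (p.choose (k + 2)) := by
    intro k _
    rw [Finset.prod_pow_eq_pow_sum, sum_range_choose]
  rw [Finset.prod_congr rfl h2]
  rw [Finset.prod_eq_single (p - 2)]
  · have e1 : p - 2 + 2 = p := by omega
    rw [e1, Nat.choose_self, pow_one]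
    have e2 : p - 1 = (p - 2) + 1 := by omega
    rw [e2, Function.iterate_succ_apply]
  · intro k hk hne
    rw [Finset.mem_range] at hk
    by_cases hk2 : k + 2 < p
    · obtain ⟨m, hm⟩ := hp.out.dvd_choose_self (by omega : k + 2 ≠ 0) hk2
      rw [hm, pow_mul, hA, one_pow]
    · have : p.choose (k + 2) = 0 := Nat.choose_eq_zero_of_lt (by omega)
      rw [this, pow_zero]
  · intro h
    exfalso
    apply h
    rw [Finset.mem_range]
    omega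

end

end Cfsg.Agent.Lib.Helper30
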