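import Cfsg.Agent.Lib.Helper30.FocCtlBase
import Cfsg.Agent.Lib.Helper90.AlpCard
import Cfsg.Agent.Lib.Helper91.Sat

set_option autoImplicit false

/-!
Control of transfer in fusion systems, the generic step: if for every nontrivial fully
automized receptive subgroup `X` the focal subgroup of `N_F(X)` lies in the focal subgroup of
`N_F(W(N_S(X)))`, then the focal subgroup of `F` is the focal subgroup of `N_F(W(S))`.
-/

universe u

namespace Cfsg.Agent.Lib.Helper30

open Cfsg Cfsg.FusionSystem Cfsg.Agent.Lib.Helper88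
  Cfsg.Agent.Lib.Helper90 Cfsg.Agent.Lib.Helper91 Cfsg.Agent.Lib.Helper89.WCtl

theorem wOf_ne_bot' {W : ∀ (Q : Type u) [Group Q], Subgroup Q} {p : ℕ}
    (hW1 : ∀ (Q : Type u) [Group Q] [Finite Q], IsPGroup p Q → Nontrivial Q → W Q ≠ ⊥)
    {A : Type u} [Group A] {T : Subgroup A} [Finite T] (hT : IsPGroup p T) (hT1 : T ≠ ⊥) :
    wOf W T ≠ ⊥ := by
  intro h
  unfold wOf at h
  rw [Subgroup.map_eq_bot_iff_of_injective _ T.subtype_injective] at h
  have : Nontrivial T := (Subgroup.nontrivial_iff_ne_bot T).2 hT1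
  exact hW1 T hT this h

section transport

variable {Ω : Type*} [Group Ω] {S : Subgroup Ω} {F : FusionSystem S}

/-- transport of a map of `N_F(V)` along a map `θ` of `F` defined on `N_S(V)` -/
theorem nMor_transport [Finite S] {V P : Subgroup Ω} {θ f : Ω → Ω} (hVS : V ≤ S)
    (hθ : Mor F (normalizerIn S V) θ) (h : NMor F V P f) :
    NMor F (img V θ) (img P θ) (θ ∘ f ∘ invFn P θ) := by
  obtain ⟨hf, hPN, hfN, f', hf', hf'P, hf'V⟩ := h
  have hVN : V ≤ normalizerIn S V := Cfsg.Agent.Lib.Helper90.le_normalizerIn hVS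
  have hθP : Mor F P θ := hθ.restrict hPN
  have hθV : Mor F V θ := hθ.restrict hVN
  have hinvP : Mor F (img P θ) (invFn P θ) := hθP.inv
  have hmapN : ∀ a ∈ normalizerIn S V, θ a ∈ normalizerIn S (img V θ) := fun a ha =>
    hθ.map_normalizerIn hVN ha ha.2
  have hPVN : P ⊔ V ≤ normalizerIn S V := sup_le hPN hVN
  have hθPV : Mor F (P ⊔ V) θ := hθ.restrict hPVN
  have hf'N : ∀ x ∈ P ⊔ V, f' x ∈ normalizerIn S V := by
    intro x hx
    have h1 := hf'.map_sup_le (P' := normalizerIn S V) (Q' := normalizerIn S V)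
      (fun x hx => by rw [hf'P x hx]; exact hfN x hx) (fun x hx => hVN (hf'V x hx)) x hx
    rwa [sup_idem] at h1
  have hg : Mor F (img (P ⊔ V) θ) (θ ∘ f' ∘ invFn (P ⊔ V) θ) :=
    (hθPV.inv.comp hf' (fun y hy => hθPV.invFn_mem hy)).comp hθ
      (fun y hy => hf'N _ (hθPV.invFn_mem hy))
  have hle : img P θ ⊔ img V θ ≤ img (P ⊔ V) θ := by
    apply sup_le
    · intro z hz
      obtain ⟨a, ha, rfl⟩ := hθP.mem_img.1 hz
      exact hθPV.mem_img_of_mem (Subgroup.mem_sup_left ha)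
    · intro z hz
      obtain ⟨a, ha, rfl⟩ := hθV.mem_img.1 hz
      exact hθPV.mem_img_of_mem (Subgroup.mem_sup_right ha)
  refine ⟨(hinvP.comp hf (fun y hy => hθP.invFn_mem hy)).comp hθ
      (fun y hy => hfN _ (hθP.invFn_mem hy)), ?_, ?_, θ ∘ f' ∘ invFn (P ⊔ V) θ,
      hg.restrict hle, ?_, ?_⟩
  · intro z hz
    obtain ⟨a, ha, rfl⟩ := hθP.mem_img.1 hz
    exact hmapN a (hPN ha)
  · intro z hz
    exact hmapN _ (hfN _ (hθP.invFn_mem hz))
  · intro z hz
    obtain ⟨a, ha, rfl⟩ := hθP.mem_img.1 hz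
    show θ (f' (invFn (P ⊔ V) θ (θ a))) = θ (f (invFn P θ (θ a)))
    rw [hθPV.invFn_apply (Subgroup.mem_sup_left ha), hθP.invFn_apply ha, hf'P a ha]
  · intro z hz
    obtain ⟨v, hv, rfl⟩ := hθV.mem_img.1 hz
    show θ (f' (invFn (P ⊔ V) θ (θ v))) ∈ img V θ
    rw [hθPV.invFn_apply (Subgroup.mem_sup_right hv)]
    exact hθV.mem_img_of_mem (hf'V v hv)

end transport

section generic

variable {W : ∀ (Q : Type u) [Group Q], Subgroup Q} {p : ℕ}
  {Ω : Type u} [Group Ω] {S : Subgroup Ω} {F : FusionSystem S}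

/-- **Generic step.** -/
theorem focal_generic [Finite S] [Fact p.Prime]
    (hW1 : ∀ (Q : Type u) [Group Q] [Finite Q], IsPGroup p Q → Nontrivial Q → W Q ≠ ⊥)
    (hW2 : FunctorIso p W) (hS : IsPGroup p S) (hF : F.IsSaturated p)
    (hloc : ∀ X : Subgroup Ω, X ≠ ⊥ → F.IsFullyAutomized p X → F.IsReceptive X →
      ∀ (P : Subgroup Ω) (f : Ω → Ω), NMor F X P f → ∀ y ∈ P,
        y⁻¹ * f y ∈ focN F (wOf W (normalizerIn S X))) :
    ∀ (P : Subgroup Ω) (f : Ω → Ω), Mor F P f → ∀ y ∈ P, y⁻¹ * f y ∈ focN F (wOf W S) := by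
  refine alperin_induction_card hS hF
    (fun P f => ∀ y ∈ P, y⁻¹ * f y ∈ focN F (wOf W S)) ?_ ?_ ?_ ?_ ?_
  · intro P f g h hfg y hy
    rw [← hfg y hy]
    exact h y hy
  · intro P P₀ f _ h h0 y hy
    exact h y (h0 hy)
  · intro P Q f g _ _ hPQ h1 h2 y hy
    have e : y⁻¹ * (g ∘ f) y = (y⁻¹ * f y) * ((f y)⁻¹ * g (f y)) := by
      show y⁻¹ * g (f y) = _
      group
    rw [e]
    exact Subgroup.mul_mem _ (h1 y hy) (h2 _ (hPQ y hy))
  · intro P f hf h z hz
    obtain ⟨y, hy, rfl⟩ := hf.mem_img.1 hz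
    rw [hf.invFn_apply hy]
    have e : (f y)⁻¹ * y = (y⁻¹ * f y)⁻¹ := by group
    rw [e]
    exact Subgroup.inv_mem _ (h y hy)
  · intro P hfa hrec IHA f hf hfP y hy
    have hPS : P ≤ S := hfa.1
    have : Finite P := Cfsg.Agent.Lib.Helper90.finite_of_le hPS
    by_cases hP1 : P = ⊥
    · rw [hP1, Subgroup.mem_bot] at hy
      rw [hy, hf.map_one, inv_one, mul_one]
      exact Subgroup.one_mem _
    have hnm : NMor F P P f :=
      ⟨hf, Cfsg.Agent.Lib.Helper90.le_normalizerIn hPS,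
        fun y hy => Cfsg.Agent.Lib.Helper90.le_normalizerIn hPS (hfP y hy),
        extQ_of_le le_rfl hf hfP⟩
    have h1 := hloc P hP1 hfa hrec P f hnm y hy
    have hKall : ∀ (m : ℕ) (T : Subgroup Ω), T ≤ S → (Nat.card P < Nat.card T ∨ T = S) →
        Nat.card S - Nat.card T = m → focN F (wOf W T) ≤ focN F (wOf W S) := by
      intro m
      induction m using Nat.strong_induction_on with
      | _ m IHK =>
      intro T hTS hT hm
      by_cases hTeq : T = S
      · rw [hTeq]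
      have hTlt : T < S := lt_of_le_of_ne hTS hTeq
      have hPT : Nat.card P < Nat.card T := hT.resolve_right hTeq
      have : Finite T := Cfsg.Agent.Lib.Helper90.finite_of_le hTS
      have hTp : IsPGroup p T := hS.to_le hTS
      have hT1 : T ≠ ⊥ := by
        intro h
        rw [h, Subgroup.card_bot] at hPT
        have := Nat.card_pos (α := P)
        omega
      have hVT : wOf W T ≤ T := wOf_le W T
      have hVS : wOf W T ≤ S := hVT.trans hTS
      have hV1 : wOf W T ≠ ⊥ := wOf_ne_bot' hW1 hTp hT1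
      have hNT : T < normalizerIn S T := lt_normalizerIn hS hTlt
      have hNV : normalizerIn S T ≤ normalizerIn S (wOf W T) :=
        normalizerIn_le_wOf W hW2 hS hTS
      have hNVS : normalizerIn S (wOf W T) ≤ S := inf_le_left
      have : Finite (normalizerIn S (wOf W T)) := Cfsg.Agent.Lib.Helper90.finite_of_le hNVS
      have : Finite (normalizerIn S T) := Cfsg.Agent.Lib.Helper90.finite_of_le inf_le_left
      have hc1 : Nat.card T < Nat.card (normalizerIn S T) := card_lt_of_lt hNT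
      have hc2 : Nat.card (normalizerIn S T) ≤ Nat.card (normalizerIn S (wOf W T)) :=
        Subgroup.card_le_of_le hNV
      obtain ⟨V', hconj, hfaV, hrecV⟩ := hF (wOf W T) hVS
      obtain ⟨c, hc', hcimg⟩ := isConj_iff.1 hconj
      obtain ⟨θ, hθ, hθimg⟩ := exists_normalizer_map hS hfaV hrecV hc' hcimg
      have hθgood : ∀ y ∈ normalizerIn S (wOf W T), y⁻¹ * θ y ∈ focN F (wOf W S) :=
        IHA _ θ (by omega) hθ
      have hVN : wOf W T ≤ normalizerIn S (wOf W T) :=
        Cfsg.Agent.Lib.Helper90.le_normalizerIn hVS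
      have hV'S : V' ≤ S := hfaV.1
      have hV'1 : V' ≠ ⊥ := by
        intro h
        have hcard : Nat.card (img (wOf W T) θ) = Nat.card (wOf W T) :=
          (hθ.restrict hVN).card_img
        rw [hθimg, h, Subgroup.card_bot] at hcard
        exact hV1 (Subgroup.eq_bot_of_card_eq _ hcard.symm)
      have hcS' : Nat.card (normalizerIn S (wOf W T)) ≤ Nat.card (normalizerIn S V') := by
        refine card_le_of_mor_into hθ inf_le_left (fun a ha => ?_)
        have := hθ.map_normalizerIn hVN ha ha.2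
        rwa [hθimg] at this
      have hcS'' : Nat.card (normalizerIn S V') ≤ Nat.card S :=
        Subgroup.card_le_of_le inf_le_left
      have hK' : focN F (wOf W (normalizerIn S V')) ≤ focN F (wOf W S) :=
        IHK (Nat.card S - Nat.card (normalizerIn S V')) (by omega) (normalizerIn S V')
          inf_le_left (Or.inl (by omega)) rfl
      apply focN_le_of_forall
      intro P₁ f₁ hnm₁ y₁ hy₁
      have hy₁N : y₁ ∈ normalizerIn S (wOf W T) := hnm₁.2.1 hy₁
      have hfy₁N : f₁ y₁ ∈ normalizerIn S (wOf W T) := hnm₁.2.2.1 y₁ hy₁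
      have hzN : y₁⁻¹ * f₁ y₁ ∈ normalizerIn S (wOf W T) :=
        Subgroup.mul_mem _ (Subgroup.inv_mem _ hy₁N) hfy₁N
      have hg := hθgood _ hzN
      have htr := nMor_transport hVS hθ hnm₁
      rw [hθimg] at htr
      have hθP₁ : Mor F P₁ θ := hθ.restrict hnm₁.2.1
      have h2 := hloc V' hV'1 hfaV hrecV _ _ htr (θ y₁) (hθP₁.mem_img_of_mem hy₁)
      have h3 : (θ y₁)⁻¹ * (θ ∘ f₁ ∘ invFn P₁ θ) (θ y₁) = θ (y₁⁻¹ * f₁ y₁) := by
        show (θ y₁)⁻¹ * θ (f₁ (invFn P₁ θ (θ y₁))) = _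
        rw [hθP₁.invFn_apply hy₁, hθ.map_mul (Subgroup.inv_mem _ hy₁N) hfy₁N,
          hθ.map_inv hy₁N]
      rw [h3] at h2
      have h4 := hK' h2
      have e : y₁⁻¹ * f₁ y₁ = θ (y₁⁻¹ * f₁ y₁) *
          ((y₁⁻¹ * f₁ y₁)⁻¹ * θ (y₁⁻¹ * f₁ y₁))⁻¹ := by group
      rw [e]
      exact Subgroup.mul_mem _ h4 (Subgroup.inv_mem _ hg)
    by_cases hPeq : P = S
    · have hN : normalizerIn S P = S := by
        rw [hPeq]
        exact inf_eq_left.2 Subgroup.le_normalizer
      rw [hN] at h1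
      exact h1
    · have hPlt : P < S := lt_of_le_of_ne hPS hPeq
      have : Finite (normalizerIn S P) := Cfsg.Agent.Lib.Helper90.finite_of_le inf_le_left
      exact hKall _ (normalizerIn S P) inf_le_left
        (Or.inl (card_lt_of_lt (lt_normalizerIn hS hPlt))) rfl h1

end generic

end Cfsg.Agent.Lib.Helper30
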