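import Cfsg.Agent.Lib.Helper30.FocCtlModel
import Cfsg.Agent.Lib.Helper30.FocCtlQuot
import Cfsg.Agent.Lib.Helper30.FocCtlGen
import Cfsg.Agent.Lib.Helper91.KLGen
import Cfsg.Agent.Lib.Helper91.KLMain
import Cfsg.Agent.S5132
import Cfsg.Agent.S5134

set_option autoImplicit false

/-!
Control of transfer by a characteristic functor in saturated fusion systems: a positive
characteristic `p`-functor `W` satisfying the local transfer condition `HT` (for the groups `G`
with `C_G(O_p(G)) ≤ O_p(G)`) controls transfer in every saturated fusion system: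
`foc(N_F(W(S))) = foc(F)`.

The proof is a Kessar–Linckelmann style induction on `(|S|, |S : O_p(F)|)`; the case
`O_p(F) ≠ 1` uses the factor system, the model of `N_F(Q C_S(Q))` and the transfer of a
characteristic biset.
-/

universe u

namespace Cfsg.Agent.Lib.Helper30

open Cfsg Cfsg.FusionSystem Cfsg.Agent.Lib.Helper88
  Cfsg.Agent.Lib.Helper90 Cfsg.Agent.Lib.Helper91 Cfsg.Agent.Lib.Helper89.WCtl

variable {W : ∀ (Q : Type u) [Group Q], Subgroup Q} {p : ℕ}

theorem focal_ctl_aux [Fact p.Prime]
    (hW1 : ∀ (Q : Type u) [Group Q] [Finite Q], IsPGroup p Q → Nontrivial Q → W Q ≠ ⊥)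
    (hW2 : FunctorIso p W) (hT : HT p W) :
    ∀ (n : ℕ) (Ω : Type u) [Group Ω] (S : Subgroup Ω) [Finite S] (F : FusionSystem S),
      IsPGroup p S → F.IsSaturated p →
      Nat.card S ^ 2 + (Nat.card S - Nat.card F.core) = n →
      ∀ (P : Subgroup Ω) (f : Ω → Ω), Mor F P f → ∀ y ∈ P,
        y⁻¹ * f y ∈ focN F (wOf W S) := by
  intro n
  induction n using Nat.strong_induction_on with
  | _ n ih =>
    intro Ω _ S _ F hS hF hn
    by_cases hQ1 : F.core = ⊥
    · -- `O_p(F) = 1`: the generic step
      apply focal_generic hW1 hW2 hS hF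
      intro X hX1 hfa hrec P f hnm y hy
      have hXS : X ≤ S := hfa.1
      have hfn : F.IsFullyNormalized X := fullyNormalized_of_fa_rec hS hfa hrec
      have hTS : normalizerIn S X ≤ S := inf_le_left
      have : Finite (normalizerIn S X) := Cfsg.Agent.Lib.Helper90.finite_of_le hTS
      have hTp : IsPGroup p (normalizerIn S X) := hS.to_le hTS
      have hE := normalizerSys_isNormalizerSystem (F := F) hXS
      have hEsat := Cfsg.Agent.S5098.result p hS F hF X hfn _ hE
      have h3 : Nat.card F.core = 1 := by rw [hQ1, Subgroup.card_bot]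
      have hcore : (normalizerSys F X hXS).core ≠ ⊥ := by
        intro h
        have := le_core (isNormal_normalizerSys hXS hE)
        rw [h] at this
        exact hX1 (eq_bot_iff.2 this)
      have h1 := one_lt_card_core _ hcore
      have h2 := card_core_le (normalizerSys F X hXS)
      have hlt : Nat.card (normalizerIn S X) ^ 2 +
          (Nat.card (normalizerIn S X) - Nat.card (normalizerSys F X hXS).core) < n := by
        by_cases hTeq : normalizerIn S X = S
        · have h4 : Nat.card (normalizerIn S X) = Nat.card S :=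
            congrArg (fun K : Subgroup Ω => Nat.card K) hTeq
          rw [h4] at h2 ⊢
          omega
        · have hTlt : normalizerIn S X < S := lt_of_le_of_ne hTS hTeq
          exact gt_measure_lt (card_lt_of_lt hTlt) (by omega)
      have hres := ih _ hlt Ω (normalizerIn S X) (normalizerSys F X hXS) hTp hEsat rfl P f
        ((mor_normalizerSys_iff hXS).2 hnm) y hy
      exact focN_mono hTS (fun P f hf => mor_of_normalizerSys hXS hE hf) _ hres
    · -- `Q = O_p(F) ≠ 1`
      have hQn : F.IsNormal F.core := isNormal_core F
      have hQsc := Cfsg.Agent.Lib.Helper90.stronglyClosed_of_isNormal hQn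
      have hQS : F.core ≤ S := hQn.1
      have hWS : wOf W S ≤ S := wOf_le W S
      have hWn : S ≤ Subgroup.normalizer ((wOf W S : Subgroup Ω) : Set Ω) := by
        intro s hs
        exact (normalizerIn_le_wOf W hW2 hS (le_refl S) ⟨hs, Subgroup.le_normalizer hs⟩).2
      by_cases hQeqS : F.core = S
      · -- `S` is normal in `F`
        intro P f hf y hy
        obtain ⟨f', hf', hf'P, hf'Q⟩ := extQ_of_isNormal hQn hf
        rw [hQeqS] at hf' hf'Q
        have hPS : P ≤ S := hf.le
        have e : P ⊔ S = S := sup_eq_right.2 hPS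
        rw [e] at hf'
        have hf'W : ∀ w ∈ wOf W S, f' w ∈ wOf W S := wOf_mor_self W hW2 hS hf' hf'Q
        have hnm : NMor F (wOf W S) P f :=
          ⟨hf, hPS.trans (fun s hs => ⟨hs, hWn hs⟩),
            fun x hx => ⟨hf.mem hx, hWn (hf.mem hx)⟩, f',
            hf'.restrict (sup_le hPS hWS), hf'P, hf'W⟩
        exact mem_focN hnm hy
      · have : (F.core.subgroupOf S).Normal := normal_subgroupOf_core F
        obtain ⟨E, hE⟩ := Cfsg.Agent.S5132.result p hS F F.core hQsc
        have hsm := Cfsg.Agent.S5134.result p hS F hF F.core hQsc _ E hE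
        have hEsat : E.IsSaturated p := isSaturated_of_surjectiveMorphism hS hF hsm
        have hker : kerAlong (QuotientGroup.mk' (F.core.subgroupOf S)) = F.core := by
          ext x
          rw [mem_kerAlong]
          constructor
          · rintro ⟨hx, h⟩
            rw [aFun_apply' _ hx] at h
            exact (hE.2.1 ⟨x, hx⟩).1 h
          · intro hx
            refine ⟨hQS hx, ?_⟩
            rw [aFun_apply' _ (hQS hx)]
            exact (hE.2.1 ⟨x, hQS hx⟩).2 hx
        have hEp : IsPGroup p (⊤ : Subgroup (S ⧸ F.core.subgroupOf S)) :=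
          (hS.to_quotient (F.core.subgroupOf S)).to_subgroup ⊤
        have hIH1 := ih _ (gt_measure_lt (card_quot_core_lt F hQ1) (by omega))
          (S ⧸ F.core.subgroupOf S) ⊤ E hEp hEsat rfl
        have hW'n : (⊤ : Subgroup (S ⧸ F.core.subgroupOf S)) ≤ Subgroup.normalizer
            ((wOf W (⊤ : Subgroup (S ⧸ F.core.subgroupOf S)) :
              Subgroup (S ⧸ F.core.subgroupOf S)) : Set (S ⧸ F.core.subgroupOf S)) := by
          intro s hs
          exact (normalizerIn_le_wOf W hW2 hEp (le_refl ⊤) ⟨hs, Subgroup.le_normalizer hs⟩).2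
        have htop1 : (⊤ : Subgroup (S ⧸ F.core.subgroupOf S)) ≠ ⊥ := by
          intro htop
          apply hQeqS
          apply le_antisymm hQS
          intro c hc
          have h1 : aFun (QuotientGroup.mk' (F.core.subgroupOf S)) c ∈
              (⊤ : Subgroup (S ⧸ F.core.subgroupOf S)) := Subgroup.mem_top _
          rw [htop, Subgroup.mem_bot] at h1
          rw [← hker]
          exact mem_kerAlong.2 ⟨hc, h1⟩
        have hW'1 : wOf W (⊤ : Subgroup (S ⧸ F.core.subgroupOf S)) ≠ ⊥ :=
          wOf_ne_bot' hW1 hEp htop1
        have hXS : preimageAlong (QuotientGroup.mk' (F.core.subgroupOf S))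
            (wOf W (⊤ : Subgroup (S ⧸ F.core.subgroupOf S))) ≤ S := preimageAlong_le _ _
        have hXn := normalizer_preimageAlong hsm.1 hW'n
        have hQX : F.core ≤ preimageAlong (QuotientGroup.mk' (F.core.subgroupOf S))
            (wOf W (⊤ : Subgroup (S ⧸ F.core.subgroupOf S))) := by
          have h1 := kerAlong_le_preimageAlong (QuotientGroup.mk' (F.core.subgroupOf S))
            (wOf W (⊤ : Subgroup (S ⧸ F.core.subgroupOf S)))
          rwa [hker] at h1
        have hXQ : ¬ preimageAlong (QuotientGroup.mk' (F.core.subgroupOf S))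
            (wOf W (⊤ : Subgroup (S ⧸ F.core.subgroupOf S))) ≤ F.core := by
          have h1 := not_preimageAlong_le_ker hsm le_top hW'1
          rwa [hker] at h1
        have hNS := normalizerIn_eq_of_normal hXn
        have hTS := normalizerIn_le_S S (preimageAlong (QuotientGroup.mk' (F.core.subgroupOf S))
            (wOf W (⊤ : Subgroup (S ⧸ F.core.subgroupOf S))))
        have := Cfsg.Agent.Lib.Helper90.finite_of_le hTS
        have hEX := normalizerSys_isNormalizerSystem (F := F) hXS
        have hXfn := fullyNormalized_of_normal (F := F) hXS hXn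
        have hEXsat := Cfsg.Agent.S5098.result p hS F hF _ hXfn _ hEX
        have hXcore := le_core (isNormal_normalizerSys hXS hEX)
        have hlt : F.core < (normalizerSys F _ hXS).core :=
          lt_of_le_of_ne (hQX.trans hXcore) (fun h => hXQ (hXcore.trans (le_of_eq h.symm)))
        have : Finite (normalizerSys F _ hXS).core :=
          Cfsg.Agent.Lib.Helper90.finite_of_le (isNormal_core (normalizerSys F _ hXS)).1
        have h1 : Nat.card F.core < Nat.card (normalizerSys F _ hXS).core := card_lt_of_lt hlt
        have h2 := card_core_le (normalizerSys F _ hXS)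
        have h3 := congrArg (fun K : Subgroup Ω => Nat.card K) hNS
        have hIH2 := ih _ (by rw [h3] at h2 ⊢; omega) Ω _ (normalizerSys F _ hXS)
          (hS.to_le hTS) hEXsat rfl
        have eW := congrArg (fun K : Subgroup Ω => wOf W K) hNS
        have h2' : ∀ (P : Subgroup Ω) (f : Ω → Ω),
            NMor F (preimageAlong (QuotientGroup.mk' (F.core.subgroupOf S))
              (wOf W (⊤ : Subgroup (S ⧸ F.core.subgroupOf S)))) P f → ∀ y ∈ P,
              y⁻¹ * f y ∈ focN F (wOf W S) := by
          intro P f hnm y hy
          have hres := hIH2 P f ((mor_normalizerSys_iff hXS).2 hnm) y hy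
          have h5 := focN_mono hTS (fun P f hf => mor_of_normalizerSys hXS hEX hf) _ hres
          rwa [eW] at h5
        have hquot := quot_step hsm hW'n (focN F (wOf W S)) hIH1 h2'
        have hmod := aut_normal_focN hW2 hT hS hF hQn
        have htr := inf_focal_le_of_normal hS hF hQn (focN F (wOf W S))
          (fun a ha b hb => comm_mem_focN hWS hWn ha hb) hmod
        intro P f hf y hy
        obtain ⟨k, hk, d, hd, hkd⟩ := hquot P f hf y hy
        rw [hker] at hk
        have hkF : k ∈ F.focalSubgroup := by
          have h5 : k = (y⁻¹ * f y) * d⁻¹ := by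
            rw [hkd]
            group
          rw [h5]
          exact Subgroup.mul_mem _ (mem_focal_of_mor hf hy)
            (Subgroup.inv_mem _ (focN_le_focal _ hd))
        rw [hkd]
        exact Subgroup.mul_mem _ (htr ⟨hk, hkF⟩) hd

/-- **Control of transfer.** A positive characteristic `p`-functor `W` satisfying the local
transfer condition controls transfer in every saturated fusion system. -/
theorem focal_ctl [Fact p.Prime]
    (hW1 : ∀ (Q : Type u) [Group Q] [Finite Q], IsPGroup p Q → Nontrivial Q → W Q ≠ ⊥)
    (hW2 : FunctorIso p W) (hT : HT p W) {Ω : Type u} [Group Ω] {S : Subgroup Ω} [Finite S]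
    (hS : IsPGroup p S) (F : FusionSystem S) (hF : F.IsSaturated p)
    (N : FusionSystem (normalizerIn S (wOf W S))) (hN : F.IsNormalizerSystem (wOf W S) N) :
    N.focalSubgroup = F.focalSubgroup := by
  rw [focalSubgroup_normalizerSystem (wOf_le W S) hN]
  apply le_antisymm (focN_le_focal _)
  exact focal_le_of_forall (focal_ctl_aux hW1 hW2 hT _ Ω S F hS hF rfl)

end Cfsg.Agent.Lib.Helper30
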