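import Cfsg.Agent.Lib.Helper30.FocCtlBase
import Cfsg.Agent.Lib.Helper91.KLModel
import Cfsg.Agent.Lib.Helper91.KLQuot
import Cfsg.Agent.Lib.Helper91.Sat2
import Cfsg.Agent.Lib.Helper87.Model
import Cfsg.Agent.S5090
import Cfsg.Agent.S5098
import Cfsg.Agent.S5126

set_option autoImplicit false

/-!
Control of transfer in fusion systems, the model step: for `Q` normal in the saturated system
`F` and a functor `W` satisfying the local transfer condition `HT`, the elements `y⁻¹ ψ(y)`,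
`y ∈ Q`, `ψ ∈ Aut_F(Q)`, lie in the focal subgroup of `N_F(W(S))`.
-/

universe u

namespace Cfsg.Agent.Lib.Helper30

open Cfsg Cfsg.FusionSystem Cfsg.Agent.Lib.Helper88
  Cfsg.Agent.Lib.Helper90 Cfsg.Agent.Lib.Helper91 Cfsg.Agent.Lib.Helper89.WCtl

open scoped commutatorElement

/-- the local transfer condition on the functor `W` -/
def HT (p : ℕ) (W : ∀ (Q : Type u) [Group Q], Subgroup Q) : Prop :=
  ∀ (G : Type u) [Group G] [Finite G] (P : Sylow p G),
    Subgroup.centralizer ((Cfsg.pCore p G : Subgroup G) : Set G) ≤ Cfsg.pCore p G →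
    Cfsg.pCore p G ⊓ commutator G = Cfsg.pCore p G ⊓
      (commutator ↥(Subgroup.normalizer
        (((W ↥(P : Subgroup G)).map (P : Subgroup G).subtype : Subgroup G) : Set G))).map
        (Subgroup.normalizer
          (((W ↥(P : Subgroup G)).map (P : Subgroup G).subtype : Subgroup G) : Set G)).subtype

section normal

variable {Ω : Type*} [Group Ω] {S : Subgroup Ω} {F : FusionSystem S}

/-- a subgroup normal in `F` and contained in `U` is normal in `N_F(U)` -/
theorem isNormal_normalizerSys_of_le [Finite S] {Q U : Subgroup Ω} (hQ : F.IsNormal Q)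
    (hQU : Q ≤ U) (hUS : U ≤ S) {E : FusionSystem (normalizerIn S U)}
    (hE : F.IsNormalizerSystem U E) : E.IsNormal Q := by
  have hsc := Cfsg.Agent.Lib.Helper90.stronglyClosed_of_isNormal hQ
  have hUN : U ≤ normalizerIn S U := le_normalizerIn hUS
  have : Finite (normalizerIn S U) := finite_of_le inf_le_left
  refine isNormal_of_extQ (hQU.trans hUN) (fun P f hf => ?_)
  obtain ⟨hfF, hPN, hfN, f', hf', hf'P, hf'U⟩ := (isNormalizerSystem_mor_iff hUS hE).1 hf
  have hle : P ⊔ Q ≤ P ⊔ U := sup_le_sup_left hQU P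
  have hf'Q : ∀ x ∈ Q, f' x ∈ Q := fun x hx =>
    stronglyClosed_mor_mem hsc (hf'.restrict (hQU.trans le_sup_right)) le_rfl hx
  refine ⟨f', ?_, hf'P, hf'Q⟩
  refine (isNormalizerSystem_mor_iff hUS hE).2
    ⟨hf'.restrict hle, sup_le hPN (hQU.trans hUN), ?_, ?_⟩
  · intro z hz
    have h1 := (hf'.restrict hle).map_sup_le (P' := normalizerIn S U) (Q' := normalizerIn S U)
      (fun x hx => by rw [hf'P x hx]; exact hfN x hx) (fun x hx => hUN (hQU (hf'Q x hx))) z hz
    rwa [sup_idem] at h1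
  · refine ⟨f', ?_, fun _ _ => rfl, hf'U⟩
    have e : P ⊔ Q ⊔ U = P ⊔ U := by rw [sup_assoc, sup_eq_right.mpr hQU]
    rw [e]
    exact hf'

end normal

section model

variable {W : ∀ (Q : Type u) [Group Q], Subgroup Q} {p : ℕ}
  {Ω : Type u} [Group Ω] {S : Subgroup Ω}

/-- In a realization `ι : S → L` of `E` with `C_L(O_p(L)) ≤ O_p(L)`: if `ι y ∈ O_p(L)` and
`ι z` is `L`-conjugate to `ι y`, then `y⁻¹ z` lies in the focal subgroup of `N_E(W(S))`. -/
theorem focN_of_model [Finite S] {E : FusionSystem S} [Fact p.Prime] (hW2 : FunctorIso p W)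
    (hT : HT p W) (hS : IsPGroup p S) {L : Type u} [Group L] [Finite L] {ι : ↥S →* L}
    (hreal : E.IsRealizedBy ι) (T : Sylow p L) (hTι : (T : Subgroup L) = ι.range)
    (hcore : Subgroup.centralizer ((pCore p L : Subgroup L) : Set L) ≤ pCore p L)
    {y z : Ω} (hy : y ∈ S) (hz : z ∈ S) (hyc : aFun ι y ∈ pCore p L) (g : L)
    (hg : aFun ι z = g * aFun ι y * g⁻¹) : y⁻¹ * z ∈ focN E (wOf W S) := by
  classical
  have hinj : Function.Injective ι := hreal.1
  have hmemT : ∀ s : ↥S, ι s ∈ (T : Subgroup L) := fun s => by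
    rw [hTι]
    exact ⟨s, rfl⟩
  have hbij : Function.Bijective (ι.codRestrict (T : Subgroup L) hmemT) := by
    constructor
    · intro a b hab
      exact hinj (congrArg Subtype.val hab)
    · rintro ⟨t, ht⟩
      have ht' : t ∈ ι.range := hTι ▸ ht
      obtain ⟨s, rfl⟩ := ht'
      exact ⟨s, rfl⟩
  have hwT : ∀ (x : Ω) (hx : x ∈ S), x ∈ wOf W S ↔ ι ⟨x, hx⟩ ∈ wOf W (T : Subgroup L) :=
    fun x hx => wOf_equiv W hW2 hS (MulEquiv.ofBijective _ hbij) ⟨x, hx⟩
  have hTp : IsPGroup p (T : Subgroup L) := T.isPGroup'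
  set N : Subgroup L := Subgroup.normalizer ((wOf W (T : Subgroup L) : Subgroup L) : Set L)
    with hNdef
  have hTN : (T : Subgroup L) ≤ N := by
    have h1 := normalizerIn_le_wOf W hW2 (S := (T : Subgroup L)) hTp (le_refl _)
    intro t ht
    exact (h1 ⟨ht, Subgroup.le_normalizer ht⟩).2
  have hNS : S ≤ normalizerIn S (wOf W S) := by
    have h1 := normalizerIn_le_wOf W hW2 hS (le_refl S)
    intro s hs
    exact h1 ⟨hs, Subgroup.le_normalizer hs⟩
  have key := hT L T hcore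
  have hyT : aFun ι y ∈ (T : Subgroup L) := by
    rw [aFun_apply' ι hy]
    exact hmemT _
  have hzT : aFun ι z ∈ (T : Subgroup L) := by
    rw [aFun_apply' ι hz]
    exact hmemT _
  have he1 : (aFun ι y)⁻¹ * (g * aFun ι y * g⁻¹) ∈ pCore p L :=
    Subgroup.mul_mem _ (Subgroup.inv_mem _ hyc) ((Cfsg.Agent.Lib.Helper87.pCore_normal_inst p L).conj_mem _ hyc g)
  have he2 : (aFun ι y)⁻¹ * (g * aFun ι y * g⁻¹) ∈ commutator L := by
    have e : (aFun ι y)⁻¹ * (g * aFun ι y * g⁻¹) = ⁅(aFun ι y)⁻¹, g⁆ := by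
      rw [commutatorElement_def]
      group
    rw [e, commutator_def]
    exact Subgroup.commutator_mem_commutator (Subgroup.mem_top _) (Subgroup.mem_top _)
  have he3 : (aFun ι y)⁻¹ * (g * aFun ι y * g⁻¹) ∈ (commutator ↥N).map N.subtype := by
    have h1 : (aFun ι y)⁻¹ * (g * aFun ι y * g⁻¹) ∈ pCore p L ⊓ commutator L := ⟨he1, he2⟩
    rw [key] at h1
    exact h1.2
  obtain ⟨e₁, he₁, he₁e⟩ := he3
  have heT : (aFun ι y)⁻¹ * (g * aFun ι y * g⁻¹) ∈ (T : Subgroup L) := by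
    rw [← hg]
    exact Subgroup.mul_mem _ (Subgroup.inv_mem _ hyT) hzT
  have he₁T : e₁ ∈ ((T.subtype hTN : Sylow p ↥N) : Subgroup ↥N) := by
    rw [Sylow.coe_subtype, Subgroup.mem_subgroupOf]
    have h1 : ((e₁ : ↥N) : L) = (aFun ι y)⁻¹ * (g * aFun ι y * g⁻¹) := he₁e
    rw [h1]
    exact heT
  have hfoc := Subgroup.commutator_inf_eq_focalSubgroup (T.subtype hTN : Sylow p ↥N)
  have he₁f : e₁ ∈ ((T.subtype hTN : Sylow p ↥N) : Subgroup ↥N).focalSubgroup := by
    rw [← hfoc]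
    exact ⟨he₁, he₁T⟩
  have hgen : ((T.subtype hTN : Sylow p ↥N) : Subgroup ↥N).focalSubgroup ≤
      (imageAlong ι (focN E (wOf W S))).comap N.subtype := by
    rw [Subgroup.focalSubgroup_def, Subgroup.closure_le]
    rintro g₁ ⟨hg₁T, x, hxT, u, rfl⟩
    rw [Sylow.coe_subtype, Subgroup.mem_subgroupOf] at hg₁T hxT
    have hxT' : ((x : ↥N) : L)⁻¹ ∈ (T : Subgroup L) := Subgroup.inv_mem _ hxT
    rw [hTι] at hxT'
    obtain ⟨a', ha'⟩ := hxT'
    have hua : (u : L) * ι a' * (u : L)⁻¹ ∈ (T : Subgroup L) := by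
      have h1 := Subgroup.mul_mem _ (Subgroup.inv_mem _ hxT) hg₁T
      have e : ((x : ↥N) : L)⁻¹ * ((⁅x, u⁆ : ↥N) : L) = (u : L) * ι a' * (u : L)⁻¹ := by
        rw [ha', commutatorElement_def]
        simp only [Subgroup.coe_mul, Subgroup.coe_inv]
        group
      rwa [e] at h1
    -- the source of the map
    have hWS : wOf W S ≤ S := wOf_le W S
    have hP : Subgroup.zpowers (a' : Ω) ⊔ wOf W S ≤ S :=
      sup_le (Subgroup.zpowers_le.mpr a'.2) hWS
    have hconjW : ∀ w ∈ wOf W S, (u : L) * aFun ι w * (u : L)⁻¹ ∈ wOf W (T : Subgroup L) := by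
      intro w hw
      rw [aFun_apply' ι (hWS hw)]
      exact (Subgroup.mem_normalizer_iff.1 u.2 _).1 ((hwT w (hWS hw)).1 hw)
    have hconj : ∀ x ∈ Subgroup.zpowers (a' : Ω) ⊔ wOf W S,
        (u : L) * aFun ι x * (u : L)⁻¹ ∈ ι.range := by
      have hle : Subgroup.zpowers (a' : Ω) ⊔ wOf W S ≤
          (((T : Subgroup L).comap ((MulAut.conj (u : L)).toMonoidHom.comp ι)).map S.subtype) := by
        apply sup_le
        · rw [Subgroup.zpowers_le]
          exact ⟨a', hua, rfl⟩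
        · intro w hw
          refine ⟨⟨w, hWS hw⟩, ?_, rfl⟩
          have h1 := hconjW w hw
          rw [aFun_apply' ι (hWS hw)] at h1
          show (u : L) * ι ⟨w, hWS hw⟩ * (u : L)⁻¹ ∈ (T : Subgroup L)
          exact wOf_le W (T : Subgroup L) h1
      intro x hx
      obtain ⟨s, hs, hsx⟩ := hle hx
      have h1 : (u : L) * ι s * (u : L)⁻¹ ∈ (T : Subgroup L) := hs
      have h2 : aFun ι x = ι s := by
        rw [← hsx]
        exact aFun_apply ι s
      rw [h2, ← hTι]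
      exact h1
    obtain ⟨f, hf, hfc⟩ := exists_mor_of_conj hreal hP (u : L) hconj
    have hfW : ∀ w ∈ wOf W S, f w ∈ wOf W S := by
      intro w hw
      have hfS : f w ∈ S := hf.mem (Subgroup.mem_sup_right hw)
      rw [hwT _ hfS, ← aFun_apply' ι hfS, hfc w (Subgroup.mem_sup_right hw)]
      exact hconjW w hw
    have hnm : NMor E (wOf W S) (Subgroup.zpowers (a' : Ω)) f := by
      refine ⟨hf.restrict le_sup_left, (Subgroup.zpowers_le.mpr a'.2).trans hNS,
        fun x hx => hNS (hf.mem (Subgroup.mem_sup_left hx)), f, hf, fun _ _ => rfl, hfW⟩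
    have hd := mem_focN hnm (Subgroup.mem_zpowers (a' : Ω))
    show ((⁅x, u⁆ : ↥N) : L) ∈ imageAlong ι (focN E (wOf W S))
    rw [mem_imageAlong]
    have hfa'S : f (a' : Ω) ∈ S := hf.mem (Subgroup.mem_sup_left (Subgroup.mem_zpowers _))
    refine ⟨(a' : Ω)⁻¹ * f (a' : Ω), hd, S.mul_mem (S.inv_mem a'.2) hfa'S, ?_⟩
    rw [aFun_mul ι (S.inv_mem a'.2) hfa'S, aFun_inv ι a'.2,
      hfc _ (Subgroup.mem_sup_left (Subgroup.mem_zpowers _)), aFun_apply ι a', ha']
    rw [commutatorElement_def]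
    simp only [Subgroup.coe_mul, Subgroup.coe_inv]
    group
  have h1 := hgen he₁f
  rw [Subgroup.mem_comap, mem_imageAlong] at h1
  obtain ⟨d, hd, hdS, hde⟩ := h1
  have h2 : aFun ι d = aFun ι (y⁻¹ * z) := by
    rw [hde, aFun_mul ι (S.inv_mem hy) hz, aFun_inv ι hy, hg]
    exact he₁e
  have h3 := aFun_injOn hinj hdS (S.mul_mem (S.inv_mem hy) hz) h2
  rw [← h3]
  exact hd

variable {F : FusionSystem S}

/-- **Model step.** For `Q` normal in the saturated system `F`, the elements `y⁻¹ ψ(y)` with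
`y ∈ Q` and `ψ` an `F`-automorphism of `Q` lie in the focal subgroup of `N_F(W(S))`. -/
theorem aut_normal_focN [Finite S] [Fact p.Prime] (hW2 : FunctorIso p W) (hT : HT p W)
    (hS : IsPGroup p S) (hF : F.IsSaturated p) {Q : Subgroup Ω} (hQ : F.IsNormal Q) :
    ∀ ψ : Ω → Ω, Mor F Q ψ → (∀ y ∈ Q, ψ y ∈ Q) → ∀ y ∈ Q, y⁻¹ * ψ y ∈ focN F (wOf W S) := by
  intro ψ hψ hψQ y hy
  have hQS : Q ≤ S := hQ.1
  have : Finite Q := finite_of_le hQS
  have hQn : S ≤ Subgroup.normalizer (Q : Set Ω) := normalizer_of_isNormal hQ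
  have hrecQ : F.IsReceptive Q :=
    (fa_rec_of_fullyNormalized hS hF (fullyNormalized_of_normal hQS hQn)).2
  have hUS : Q ⊔ centralizerIn S Q ≤ S := sup_le hQS inf_le_left
  have hUn : S ≤ Subgroup.normalizer ((Q ⊔ centralizerIn S Q : Subgroup Ω) : Set Ω) :=
    normalizer_sup_centralizer hQS hQn
  have hUc : centralizerIn S (Q ⊔ centralizerIn S Q) ≤ Q ⊔ centralizerIn S Q := by
    intro z hz
    exact Subgroup.mem_sup_right
      ⟨hz.1, Subgroup.centralizer_le (fun y hy => Subgroup.mem_sup_left hy) hz.2⟩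
  have hUfn : F.IsFullyNormalized (Q ⊔ centralizerIn S Q) := fullyNormalized_of_normal hUS hUn
  obtain ⟨hUfa, hUrec⟩ := fa_rec_of_fullyNormalized hS hF hUfn
  have hUcen : F.IsCentric (Q ⊔ centralizerIn S Q) := centric_of_rec hUrec hUc
  have hNS : normalizerIn S (Q ⊔ centralizerIn S Q) = S := normalizerIn_eq_of_normal hUn
  have hRS : normalizerIn S (Q ⊔ centralizerIn S Q) ≤ S := inf_le_left
  have : Finite (normalizerIn S (Q ⊔ centralizerIn S Q)) := finite_of_le hRS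
  have hRp : IsPGroup p (normalizerIn S (Q ⊔ centralizerIn S Q)) := hS.to_le hRS
  have hE : F.IsNormalizerSystem (Q ⊔ centralizerIn S Q)
      (normalizerSys F (Q ⊔ centralizerIn S Q) hUS) := normalizerSys_isNormalizerSystem hUS
  have hEsat := Cfsg.Agent.S5098.result p hS F hF _ hUfn _ hE
  have hEn := Cfsg.Agent.S5126.normal_in_normalizer F _ hUS _ hE
  have hEc := Cfsg.Agent.S5126.centric_in_normalizer F _ hUcen _ hE
  obtain ⟨L, instL, ι, hmodel⟩ := Cfsg.Agent.S5090.result p hRp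
    (normalizerSys F (Q ⊔ centralizerIn S Q) hUS) ⟨hEsat, _, hEn, hEc⟩
  obtain ⟨hfin, hreal, ⟨T, hTι⟩, hcore⟩ := id hmodel
  have himg : img Q ψ = Q := hψ.img_eq_self hψQ
  obtain ⟨ψ₂, hψ₂, hψ₂eq⟩ := receptive_extend' hrecQ hψ himg
  have hUle : Q ⊔ centralizerIn S Q ≤ extFn S Q ψ :=
    sup_le hψ.le_extFn hψ.centralizerIn_le_extFn
  have hψ₂U : Mor F (Q ⊔ centralizerIn S Q) ψ₂ := hψ₂.restrict hUle
  have himg₂ : img Q ψ₂ = Q := by
    rw [img_congr hψ₂eq]
    exact himg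
  have hUU : ∀ z ∈ Q ⊔ centralizerIn S Q, ψ₂ z ∈ Q ⊔ centralizerIn S Q := by
    refine hψ₂U.map_sup_le (fun y hy => by rw [hψ₂eq y hy]; exact hψQ y hy) (fun c hc => ?_)
    have := map_centralizerIn hψ₂U (le_sup_left : Q ≤ Q ⊔ centralizerIn S Q)
      (le_sup_right (a := Q) hc) hc.2
    rwa [himg₂] at this
  have hψ₂E : Mor (normalizerSys F (Q ⊔ centralizerIn S Q) hUS) (Q ⊔ centralizerIn S Q) ψ₂ :=
    (mor_normalizerSys_iff hUS).2
      ⟨hψ₂U, le_normalizerIn hUS, fun y hy => le_normalizerIn hUS (hUU y hy),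
        extQ_of_le le_rfl hψ₂U hUU⟩
  obtain ⟨g, hg⟩ := exists_conj_of_mor hreal hψ₂E
  have hQE : (normalizerSys F (Q ⊔ centralizerIn S Q) hUS).IsNormal Q :=
    isNormal_normalizerSys_of_le hQ le_sup_left hUS hE
  have hyU : y ∈ Q ⊔ centralizerIn S Q := Subgroup.mem_sup_left hy
  have hyS' : y ∈ normalizerIn S (Q ⊔ centralizerIn S Q) := le_normalizerIn hUS hyU
  have hzS' : ψ₂ y ∈ normalizerIn S (Q ⊔ centralizerIn S Q) :=
    le_normalizerIn hUS (hUU y hyU)
  have hyc : aFun ι y ∈ pCore p L := by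
    have h1 := Cfsg.Agent.Lib.Helper87.normal_le_coreQ p _ ι hmodel hQE hy
    rw [aFun_apply' ι hyS']
    exact (Cfsg.Agent.Lib.Helper87.mem_coreQ_iff p ι ⟨y, hyS'⟩).1 h1
  have : Finite L := hfin
  have h1 := focN_of_model hW2 hT hRp hreal T hTι hcore hyS' hzS' hyc g (hg y hyU)
  rw [hψ₂eq y hy] at h1
  have h2 := focN_mono hRS (fun P f hf => mor_of_normalizerSys hUS hE hf)
    (wOf W (normalizerIn S (Q ⊔ centralizerIn S Q))) h1
  have e : wOf W (normalizerIn S (Q ⊔ centralizerIn S Q)) = wOf W S :=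
    congrArg (fun K : Subgroup Ω => wOf W K) hNS
  rw [e] at h2
  exact h2

end model

end Cfsg.Agent.Lib.Helper30
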