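import Mathlib

/-!
# Automorphisms acting trivially on the Frattini quotient (Burnside)

* `aut_eq_one_of_frattini`: an automorphism `β` of a finite `p`-group with `β ^ n = 1`, `n` prime
  to `p`, that acts trivially modulo the Frattini subgroup is trivial.
* `sq_fix_of_card_le_four`: in a group of order at most 4 and exponent 2, an automorphism fixing a
  nonidentity element has square the identity.
-/

set_option autoImplicit false

namespace Cfsg.Agent.Lib.Helper30

theorem frattini_mem_of_equiv {R : Type*} [Group R] (κ : MulAut R) {x : R} :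
    κ x ∈ frattini R ↔ x ∈ frattini R := by
  have h1 := Subgroup.characteristic_iff_comap_eq.mp (frattini_characteristic (G := R)) κ
  constructor
  · intro h
    rw [← h1]
    exact h
  · intro h
    rw [← h1] at h
    exact h

theorem aut_eq_one_of_frattini_prime {R : Type*} [Group R] [Finite R] {p q : ℕ}
    [hp : Fact p.Prime] [hq : Fact q.Prime] (hpq : q ≠ p) (hR : IsPGroup p R) (β : MulAut R)
    (k : ℕ) (hβ : β ^ q ^ k = 1) (h : ∀ x, β x * x⁻¹ ∈ frattini R) : β = 1 := by
  classical
  by_contra hne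
  let C : Subgroup R :=
    { carrier := {x | β x = x}
      one_mem' := map_one β
      mul_mem' := by
        intro x y hx hy
        simp only [Set.mem_ofPred_eq] at *
        rw [map_mul, hx, hy]
      inv_mem' := by
        intro x hx
        simp only [Set.mem_ofPred_eq] at *
        rw [map_inv, hx] }
  have hC : C ≠ ⊤ := by
    intro hC
    apply hne
    ext x
    have h0 : x ∈ C := by rw [hC]; trivial
    exact h0
  obtain ⟨M, hM, hCM⟩ := (eq_top_or_exists_le_coatom C).resolve_left hC
  have hΦM : frattini R ≤ M := frattini_le_coatom hM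
  obtain ⟨x, hx⟩ : ∃ x, x ∉ M := by
    by_contra hcon
    push Not at hcon
    exact hM.1 (eq_top_iff.mpr fun x _ => hcon x)
  have hΦn : (frattini R).Normal := inferInstance
  have hmem : ∀ φ : frattini R, x⁻¹ * β (x * φ) ∈ frattini R := by
    intro φ
    have h1 := h (x * φ)
    have h2 : x⁻¹ * β (x * φ) = x⁻¹ * (β (x * φ) * (x * φ)⁻¹) * x⁻¹⁻¹ * φ := by group
    rw [h2]
    exact (frattini R).mul_mem (hΦn.conj_mem _ h1 _) φ.2
  let f : frattini R → frattini R := fun φ => ⟨x⁻¹ * β (x * φ), hmem φ⟩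
  have hf : Function.Injective f := by
    intro φ₁ φ₂ h12
    have h1 : x⁻¹ * β (x * φ₁) = x⁻¹ * β (x * φ₂) := congrArg Subtype.val h12
    have h2 := β.injective (mul_left_cancel h1)
    exact Subtype.ext (mul_left_cancel h2)
  let σ : Equiv.Perm (frattini R) := Equiv.ofBijective f (Finite.injective_iff_bijective.mp hf)
  have hσ : ∀ φ, ((σ φ : frattini R) : R) = x⁻¹ * β (x * φ) := fun φ => rfl
  have hpow : ∀ n : ℕ, ∀ φ : frattini R, (((σ ^ n) φ : frattini R) : R) = x⁻¹ * (β ^ n) (x * φ) := by
    intro n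
    induction n with
    | zero => intro φ; simp
    | succ n ih =>
      intro φ
      rw [pow_succ', Equiv.Perm.mul_apply, hσ, ih, pow_succ', MulAut.mul_apply]
      congr 2
      group
  have hσ1 : σ ^ q ^ k = 1 := by
    ext φ
    rw [hpow, hβ]
    simp
  have : Fintype (frattini R) := Fintype.ofFinite _
  have hcard : ¬ q ∣ Fintype.card (frattini R) := by
    obtain ⟨j, hj⟩ := IsPGroup.iff_card.mp (hR.to_subgroup (frattini R))
    rw [← Nat.card_eq_fintype_card, hj]
    intro hdvd
    have h1 := hq.out.dvd_of_dvd_pow hdvd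
    exact hpq ((Nat.prime_dvd_prime_iff_eq hq.out hp.out).mp h1)
  obtain ⟨φ₀, hφ₀⟩ := Equiv.Perm.exists_fixed_point_of_prime (p := q) (n := k) hcard hσ1
  have h1 : x⁻¹ * β (x * φ₀) = φ₀ := by rw [← hσ, hφ₀]
  have h2 : β (x * φ₀) = x * φ₀ := by
    have h0 : β (x * φ₀) = x * (x⁻¹ * β (x * φ₀)) := by group
    rw [h0, h1]
  have h3 : x * φ₀ ∈ M := hCM h2
  apply hx
  have h4 : x = (x * φ₀) * (φ₀ : R)⁻¹ := by group
  rw [h4]
  exact M.mul_mem h3 (M.inv_mem (hΦM φ₀.2))

theorem aut_pow_mem_frattini {R : Type*} [Group R] (β : MulAut R)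
    (h : ∀ x, β x * x⁻¹ ∈ frattini R) (j : ℕ) : ∀ x, (β ^ j) x * x⁻¹ ∈ frattini R := by
  induction j with
  | zero => intro x; simp
  | succ j ih =>
    intro x
    rw [pow_succ', MulAut.mul_apply]
    have h1 : β ((β ^ j) x) * x⁻¹ = (β ((β ^ j) x) * ((β ^ j) x)⁻¹) * ((β ^ j) x * x⁻¹) := by group
    rw [h1]
    exact (frattini R).mul_mem (h _) (ih x)

/-- **Burnside**: an automorphism of a finite `p`-group of order prime to `p` acting trivially on
the Frattini quotient is trivial. -/
theorem aut_eq_one_of_frattini {R : Type*} [Group R] [Finite R] {p : ℕ} [hp : Fact p.Prime]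
    (hR : IsPGroup p R) (β : MulAut R) {n : ℕ} (hn : n.Coprime p) (hβ : β ^ n = 1)
    (h : ∀ x, β x * x⁻¹ ∈ frattini R) : β = 1 := by
  by_contra hne
  have hm1 : orderOf β ≠ 1 := fun h1 => hne (orderOf_eq_one_iff.mp h1)
  have hmn : orderOf β ∣ n := orderOf_dvd_of_pow_eq_one hβ
  obtain ⟨q, hq, hqm⟩ := Nat.exists_prime_and_dvd hm1
  have hqp : q ≠ p := by
    rintro rfl
    have h1 : q ∣ n := dvd_trans hqm hmn
    have h2 : q ∣ Nat.gcd n q := Nat.dvd_gcd h1 dvd_rfl
    rw [hn] at h2
    exact hq.one_lt.ne' (Nat.dvd_one.mp h2)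
  have : Fact q.Prime := ⟨hq⟩
  obtain ⟨d, hd⟩ := hqm
  have hpos : 0 < orderOf β := orderOf_pos β
  have hd0 : 0 < d := by
    rcases Nat.eq_zero_or_pos d with h0 | h0
    · rw [h0, mul_zero] at hd; omega
    · exact h0
  have h1 : (β ^ d) ^ q ^ 1 = 1 := by
    rw [pow_one, ← pow_mul, mul_comm, ← hd]
    exact pow_orderOf_eq_one β
  have h2 := aut_eq_one_of_frattini_prime hqp hR (β ^ d) 1 h1 (aut_pow_mem_frattini β h d)
  have h3 : orderOf β ∣ d := orderOf_dvd_of_pow_eq_one h2
  have h4 : orderOf β ≤ d := Nat.le_of_dvd hd0 h3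
  have h5 : d < q * d := by
    have := hq.one_lt
    nlinarith
  omega

/-- In a group of order at most 4 and exponent 2, an automorphism fixing a nonidentity element is
an involution. -/
theorem sq_fix_of_card_le_four {Q : Type*} [Group Q] [Finite Q] (hcard : Nat.card Q ≤ 4)
    (hsq : ∀ q : Q, q ^ 2 = 1) (e : Q ≃* Q) (y : Q) (hy : y ≠ 1) (hfix : e y = y) (x : Q) :
    e (e x) = x := by
  classical
  by_cases hx1 : x = 1
  · rw [hx1, map_one, map_one]
  by_cases hxy : x = y
  · rw [hxy, hfix, hfix]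
  by_cases h1 : e x = x
  · rw [h1, h1]
  by_cases h2 : e x = x * y
  · rw [h2, map_mul, h2, hfix, mul_assoc, ← pow_two, hsq, mul_one]
  exfalso
  have hex1 : e x ≠ 1 := by
    intro h0
    apply hx1
    apply e.injective
    rw [h0, map_one]
  have hexy : e x ≠ y := by
    intro h0
    apply hxy
    apply e.injective
    rw [h0, hfix]
  have hyinv : y⁻¹ = y := by
    have h0 := hsq y
    rw [pow_two] at h0
    exact inv_eq_of_mul_eq_one_left h0
  have hxy1 : x * y ≠ 1 := by
    intro h0
    apply hxy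
    have h3 : x = y⁻¹ := eq_inv_of_mul_eq_one_left h0
    rw [h3, hyinv]
  have hxyy : x * y ≠ y := by
    intro h0
    apply hx1
    exact mul_eq_right.mp h0
  have hxyx : x * y ≠ x := by
    intro h0
    apply hy
    exact mul_eq_left.mp h0
  have : Fintype Q := Fintype.ofFinite Q
  have h5 : ({1, y, x, x * y, e x} : Finset Q).card = 5 := by
    rw [Finset.card_insert_of_notMem, Finset.card_insert_of_notMem, Finset.card_insert_of_notMem,
      Finset.card_insert_of_notMem, Finset.card_singleton]
    · simp only [Finset.mem_singleton]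
      exact fun h0 => h2 h0.symm
    · simp only [Finset.mem_insert, Finset.mem_singleton]
      push Not
      exact ⟨hxyx.symm, fun h0 => h1 h0.symm⟩
    · simp only [Finset.mem_insert, Finset.mem_singleton]
      push Not
      exact ⟨fun h0 => hxy h0.symm, hxyy.symm, hexy.symm⟩
    · simp only [Finset.mem_insert, Finset.mem_singleton]
      push Not
      exact ⟨hy.symm, fun h0 => hx1 h0.symm, hxy1.symm, hex1.symm⟩
  have h6 := Finset.card_le_univ ({1, y, x, x * y, e x} : Finset Q)
  rw [← Nat.card_eq_fintype_card] at h6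
  omega

end Cfsg.Agent.Lib.Helper30
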