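import Cfsg.Agent.Lib.Helper30.MetaPair
import Cfsg.Agent.Lib.Helper30.FratAut
import Cfsg.Agent.Lib.Helper90.CR
import Cfsg.Agent.Lib.Helper72.Frattini

/-!
# Strongly closed metacyclic 2-subgroups

`le_of_centric_radical_meta`: a strongly closed metacyclic 2-subgroup `P` of a fusion system that
is not dihedral, generalized quaternion or quasidihedral is contained in every centric radical
subgroup `E`.  (Hence `P` is normal in the system when the system is saturated.)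
-/

set_option autoImplicit false

namespace Cfsg.Agent.Lib.Helper30

open Cfsg Cfsg.FusionSystem Cfsg.Agent.Lib.Helper90

variable {Ω : Type*} [Group Ω] {S : Subgroup Ω} {F : FusionSystem S} {E P Φ : Subgroup Ω}

/-- The automorphisms in `Aut_F(E)` acting trivially on `E/(E ∩ P)` and on `(E ∩ P)/Φ`. -/
def stab2 (F : FusionSystem S) (E P Φ : Subgroup Ω) : Subgroup (MulAut E) where
  carrier := {β | β ∈ F.autGroup E ∧ (∀ x : E, ((β x : E) : Ω) * (x : Ω)⁻¹ ∈ P) ∧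
      ∀ x : E, (x : Ω) ∈ P → ((β x : E) : Ω) * (x : Ω)⁻¹ ∈ Φ}
  one_mem' := ⟨one_mem _, fun x => by simp [P.one_mem], fun x _ => by simp [Φ.one_mem]⟩
  mul_mem' := by
    rintro β₁ β₂ ⟨h1, h2, h3⟩ ⟨k1, k2, k3⟩
    have h0 : ∀ x : E, (((β₁ * β₂) x : E) : Ω) * (x : Ω)⁻¹ =
        ((β₁ (β₂ x) : E) : Ω) * ((β₂ x : E) : Ω)⁻¹ * (((β₂ x : E) : Ω) * (x : Ω)⁻¹) := by
      intro x
      rw [MulAut.mul_apply]; group
    refine ⟨mul_mem h1 k1, fun x => ?_, fun x hx => ?_⟩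
    · rw [h0]; exact P.mul_mem (h2 _) (k2 x)
    · have hx' : ((β₂ x : E) : Ω) ∈ P := by
        have h0' : ((β₂ x : E) : Ω) = (((β₂ x : E) : Ω) * (x : Ω)⁻¹) * x := by group
        rw [h0']; exact P.mul_mem (k2 x) hx
      rw [h0]; exact Φ.mul_mem (h3 _ hx') (k3 x hx)
  inv_mem' := by
    rintro β ⟨h1, h2, h3⟩
    have h0 : ∀ x : E, ((β⁻¹ x : E) : Ω) * (x : Ω)⁻¹ =
        (((β (β⁻¹ x) : E) : Ω) * ((β⁻¹ x : E) : Ω)⁻¹)⁻¹ := by
      intro x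
      rw [MulAut.apply_inv_self]; group
    have hP' : ∀ x : E, ((β⁻¹ x : E) : Ω) * (x : Ω)⁻¹ ∈ P := by
      intro x
      rw [h0]; exact P.inv_mem (h2 _)
    refine ⟨inv_mem h1, hP', fun x hx => ?_⟩
    have hx' : ((β⁻¹ x : E) : Ω) ∈ P := by
      have h0' : ((β⁻¹ x : E) : Ω) = (((β⁻¹ x : E) : Ω) * (x : Ω)⁻¹) * x := by group
      rw [h0']; exact P.mul_mem (hP' x) hx
    rw [h0]; exact Φ.inv_mem (h3 _ hx')

theorem mem_stab2 {β : MulAut E} : β ∈ stab2 F E P Φ ↔ β ∈ F.autGroup E ∧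
    (∀ x : E, ((β x : E) : Ω) * (x : Ω)⁻¹ ∈ P) ∧
      ∀ x : E, (x : Ω) ∈ P → ((β x : E) : Ω) * (x : Ω)⁻¹ ∈ Φ := Iff.rfl

theorem aut_mem_of_stronglyClosed (hP : F.StronglyClosed P) (hE : E ≤ S) {α : MulAut E}
    (hα : α ∈ F.autGroup E) (x : E) (hx : (x : Ω) ∈ P) : ((α x : E) : Ω) ∈ P := by
  have hf := (mem_autGroup_iff F hE α).mp hα
  have h1 := stronglyClosed_mor_mem hP (hf.restrict (inf_le_left : E ⊓ P ≤ E)) inf_le_right
    (⟨x.2, hx⟩ : (x : Ω) ∈ E ⊓ P)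
  rwa [autFun_apply] at h1

theorem stab2_conj (hP : F.StronglyClosed P) (hE : E ≤ S)
    (hΦ : ∀ α ∈ F.autGroup E, ∀ x : E, (x : Ω) ∈ Φ → ((α x : E) : Ω) ∈ Φ)
    {α : MulAut E} (hα : α ∈ F.autGroup E) {β : MulAut E} (hβ : β ∈ stab2 F E P Φ) :
    α * β * α⁻¹ ∈ stab2 F E P Φ := by
  obtain ⟨h1, h2, h3⟩ := hβ
  have hkey : ∀ x : E, (((α * β * α⁻¹) x : E) : Ω) * (x : Ω)⁻¹ =
      ((α (β (α⁻¹ x) * (α⁻¹ x)⁻¹) : E) : Ω) := by
    intro x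
    rw [MulAut.mul_apply, MulAut.mul_apply, map_mul, map_inv, MulAut.apply_inv_self]
    simp
  refine ⟨mul_mem (mul_mem hα h1) (inv_mem hα), fun x => ?_, fun x hx => ?_⟩
  · rw [hkey]
    apply aut_mem_of_stronglyClosed hP hE hα
    simpa using h2 (α⁻¹ x)
  · have hy : ((α⁻¹ x : E) : Ω) ∈ P := aut_mem_of_stronglyClosed hP hE (inv_mem hα) x hx
    rw [hkey]
    apply hΦ α hα
    simpa using h3 (α⁻¹ x) hy

theorem aut_eq_one_of_fix_inf [Finite S] {p : ℕ} [Fact p.Prime] (hS : IsPGroup p S)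
    (hP : F.StronglyClosed P) (hE : E ≤ S) (β : MulAut E) {n : ℕ} (hn : n.Coprime p)
    (hβn : β ^ n = 1) (h1 : ∀ x : E, ((β x : E) : Ω) * (x : Ω)⁻¹ ∈ P)
    (h2 : ∀ x : E, (x : Ω) ∈ P → β x = x) : β = 1 := by
  ext x
  have hxS : (x : Ω) ∈ S := hE x.2
  obtain ⟨k, hk⟩ := hS ⟨((x⁻¹ * β x : E) : Ω), hE (x⁻¹ * β x).2⟩
  have h3 : ((x⁻¹ * β x : E) : Ω) ∈ P := by
    have h0 : ((x⁻¹ * β x : E) : Ω) =
        (x : Ω)⁻¹ * (((β x : E) : Ω) * (x : Ω)⁻¹) * ((x : Ω)⁻¹)⁻¹ := by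
      push_cast
      group
    rw [h0]
    exact stronglyClosed_conj_mem hP (S.inv_mem hxS) (h1 x)
  have h4 := aut_fix_of_fix_comm β hn x (h2 _ h3) (by rw [hβn]; rfl) (k := k) (by
    apply Subtype.ext
    have h5 := congrArg Subtype.val hk
    simpa using h5)
  rw [h4]
  rfl

theorem exists_restrict_aut [Finite S] (hP : F.StronglyClosed P) (hE : E ≤ S) {β : MulAut E}
    (hβ : β ∈ F.autGroup E) :
    ∃ κ : MulAut ↥(E ⊓ P), ∀ (y : Ω) (hy : y ∈ E ⊓ P),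
      ((κ ⟨y, hy⟩ : ↥(E ⊓ P)) : Ω) = ((β ⟨y, hy.1⟩ : E) : Ω) := by
  have hR : E ⊓ P ≤ S := inf_le_left.trans hE
  have : Finite ↥(E ⊓ P) := finite_of_le hR
  have hf := ((mem_autGroup_iff F hE β).mp hβ).restrict (inf_le_left : E ⊓ P ≤ E)
  obtain ⟨κ, -, hκ⟩ := exists_aut_of_mor hf (fun x hx => ⟨autFun_mem β hx.1, by
    have h0 := aut_mem_of_stronglyClosed hP hE hβ ⟨x, hx.1⟩ hx.2
    rwa [← autFun_apply] at h0⟩)
  refine ⟨κ, fun y hy => ?_⟩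
  rw [hκ ⟨y, hy⟩, autFun_apply' β hy.1]

theorem restrict_pow {β : MulAut E} {κ : MulAut ↥(E ⊓ P)}
    (hκ : ∀ (y : Ω) (hy : y ∈ E ⊓ P),
      ((κ ⟨y, hy⟩ : ↥(E ⊓ P)) : Ω) = ((β ⟨y, hy.1⟩ : E) : Ω)) (j : ℕ) :
    ∀ (y : Ω) (hy : y ∈ E ⊓ P),
      (((κ ^ j) ⟨y, hy⟩ : ↥(E ⊓ P)) : Ω) = (((β ^ j) ⟨y, hy.1⟩ : E) : Ω) := by
  induction j with
  | zero => intro y hy; simp
  | succ j ih =>
    intro y hy
    rw [pow_succ', MulAut.mul_apply, pow_succ', MulAut.mul_apply]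
    have h1 := ih y hy
    have h2 : ((κ ((κ ^ j) ⟨y, hy⟩) : ↥(E ⊓ P)) : Ω) =
        ((β ⟨((κ ^ j) ⟨y, hy⟩ : ↥(E ⊓ P)), ((κ ^ j) ⟨y, hy⟩).2.1⟩ : E) : Ω) := hκ _ _
    rw [h2]
    have h3 : (⟨((κ ^ j) ⟨y, hy⟩ : ↥(E ⊓ P)), ((κ ^ j) ⟨y, hy⟩).2.1⟩ : E) =
        (β ^ j) ⟨y, hy.1⟩ := Subtype.ext h1
    rw [h3]

/-- A strongly closed metacyclic 2-subgroup that is not dihedral, generalized quaternion or
quasidihedral lies in every centric radical subgroup. -/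
theorem le_of_centric_radical_meta [Finite S] (hS : IsPGroup 2 S) (hP : F.StronglyClosed P)
    (hcen : F.IsCentric E) (hrad : F.IsRadical 2 E) (hm : Cfsg.IsMetacyclic ↥P)
    (hshape : ¬ ((∃ m : ℕ, Nonempty (↥P ≃* DihedralGroup m)) ∨
      (∃ m : ℕ, Nonempty (↥P ≃* QuaternionGroup m)) ∨ Cfsg.IsQuasiDihedral ↥P)) : P ≤ E := by
  have hp2 : Fact (Nat.Prime 2) := ⟨Nat.prime_two⟩
  have hE : E ≤ S := hcen.1
  have hPS : P ≤ S := hP.1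
  have hfinE : Finite E := finite_of_le hE
  have hfinP : Finite P := finite_of_le hPS
  have hP2 : IsPGroup 2 P := hS.to_le hPS
  have hPn : ∀ s ∈ S, ∀ q ∈ P, s * q * s⁻¹ ∈ P :=
    fun s hs q hq => stronglyClosed_conj_mem hP hs hq
  have hRS : E ⊓ P ≤ S := inf_le_left.trans hE
  have hfinR : Finite ↥(E ⊓ P) := finite_of_le hRS
  have hR2 : IsPGroup 2 ↥(E ⊓ P) := hS.to_le hRS
  have hRm : Cfsg.IsMetacyclic ↥(E ⊓ P) :=
    Helper78.MC.isMetacyclic_of_inj (Subgroup.inclusion (inf_le_right : E ⊓ P ≤ P))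
      (Subgroup.inclusion_injective _) hm
  obtain ⟨ΦR, hΦR⟩ : ∃ ΦR : Subgroup Ω, ΦR = (frattini ↥(E ⊓ P)).map (E ⊓ P).subtype :=
    ⟨_, rfl⟩
  have hmemΦ : ∀ (y : Ω) (hy : y ∈ E ⊓ P),
      y ∈ ΦR ↔ (⟨y, hy⟩ : ↥(E ⊓ P)) ∈ frattini ↥(E ⊓ P) := by
    intro y hy
    rw [hΦR]
    constructor
    · rintro ⟨z, hz, hzy⟩
      have h0 : z = ⟨y, hy⟩ := Subtype.ext hzy
      rwa [← h0]
    · intro h
      exact ⟨⟨y, hy⟩, h, rfl⟩
  have hΦle : ΦR ≤ E ⊓ P := by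
    rw [hΦR]
    rintro _ ⟨z, -, rfl⟩
    exact z.2
  have hαΦ : ∀ α ∈ F.autGroup E, ∀ x : E, (x : Ω) ∈ ΦR → ((α x : E) : Ω) ∈ ΦR := by
    intro α hα x hx
    obtain ⟨κ, hκ⟩ := exists_restrict_aut hP hE hα
    have hxR : (x : Ω) ∈ E ⊓ P := hΦle hx
    have h1 := (hmemΦ _ hxR).mp hx
    have h2 := (frattini_mem_of_equiv κ).mpr h1
    have h3 := (hmemΦ _ (κ ⟨x, hxR⟩).2).mpr h2
    rw [hκ] at h3
    exact h3
  have hB₁n : ∀ α ∈ F.autGroup E, ∀ β ∈ stab2 F E P ΦR, α * β * α⁻¹ ∈ stab2 F E P ΦR :=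
    fun α hα β hβ => stab2_conj hP hE hαΦ hα hβ
  have hBn : ∀ α ∈ F.autGroup E, ∀ β ∈ stab2 F E P P, α * β * α⁻¹ ∈ stab2 F E P P :=
    fun α hα β hβ => stab2_conj hP hE
      (fun α hα x hx => aut_mem_of_stronglyClosed hP hE hα x hx) hα hβ
  have hT1 : ∀ β ∈ stab2 F E P P, (orderOf β).Coprime 2 →
      (∀ x : E, (x : Ω) ∈ P → β x = x) → β = 1 := by
    intro β hβ hcop hfix
    exact aut_eq_one_of_fix_inf hS hP hE β hcop (pow_orderOf_eq_one β) hβ.2.1 hfix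
  have hκpow : ∀ (β : MulAut E) (κ : MulAut ↥(E ⊓ P)),
      (∀ (y : Ω) (hy : y ∈ E ⊓ P), ((κ ⟨y, hy⟩ : ↥(E ⊓ P)) : Ω) = ((β ⟨y, hy.1⟩ : E) : Ω)) →
      κ ^ orderOf β = 1 := by
    intro β κ hκ
    ext y
    have h0 := restrict_pow hκ (orderOf β) y y.2
    rw [pow_orderOf_eq_one] at h0
    simpa using h0
  have hB₁triv : ∀ β ∈ stab2 F E P ΦR, (orderOf β).Coprime 2 → β = 1 := by
    intro β hβ hcop
    have hβB : β ∈ stab2 F E P P := ⟨hβ.1, hβ.2.1, fun x _ => hβ.2.1 x⟩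
    apply hT1 β hβB hcop
    obtain ⟨κ, hκ⟩ := exists_restrict_aut hP hE hβ.1
    have hκn := hκpow β κ hκ
    have hκ1 : κ = 1 := by
      apply aut_eq_one_of_frattini hR2 κ hcop hκn
      intro y
      have h1 := hβ.2.2 ⟨y, y.2.1⟩ y.2.2
      rw [← hκ y y.2] at h1
      have h2 : ((κ y * y⁻¹ : ↥(E ⊓ P)) : Ω) ∈ ΦR := by simpa using h1
      exact (hmemΦ _ (κ y * y⁻¹).2).mp h2
    intro x hx
    have h1 := hκ x ⟨x.2, hx⟩
    rw [hκ1] at h1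
    exact Subtype.ext h1.symm
  have hB₁Inn : stab2 F E P ΦR ≤ Inn E := by
    have h1 := le_pCore_map_of_coprime_trivial (F := F) (stab2 F E P ΦR) (fun β hβ => hβ.1)
      hB₁n hB₁triv
    rwa [hrad.2] at h1
  have hconjP : ∀ a ∈ P, ∀ x : E, a * (x : Ω) * a⁻¹ * (x : Ω)⁻¹ ∈ P := by
    intro a haP x
    have h0 : a * (x : Ω) * a⁻¹ * (x : Ω)⁻¹ = a * ((x : Ω) * a⁻¹ * (x : Ω)⁻¹) := by group
    rw [h0]
    exact P.mul_mem haP (hPn _ (hE x.2) _ (P.inv_mem haP))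
  by_contra hPE
  by_cases hodd : ∀ β ∈ stab2 F E P P, (orderOf β).Coprime 2 → β = 1
  · apply hPE
    refine le_of_centric_radical hS hcen hrad hPS hPn (fun a haP haN κ hκ => ?_)
    refine le_pCore_map_of_coprime_trivial (F := F) (stab2 F E P P) (fun β hβ => hβ.1) hBn
      hodd ?_
    have hκF : κ ∈ F.autGroup E := by
      rw [mem_autGroup_iff F hE]
      exact (mor_conj F hE (hPS haP)).congr (fun x hx => by rw [autFun_apply' κ hx, hκ])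
    have hκP : ∀ x : E, ((κ x : E) : Ω) * (x : Ω)⁻¹ ∈ P := by
      intro x
      rw [hκ]
      exact hconjP a haP x
    exact ⟨hκF, hκP, fun x _ => hκP x⟩
  · push Not at hodd
    obtain ⟨β, hβB, hβcop, hβ1⟩ := hodd
    obtain ⟨a₀, ha₀P, ha₀N, ha₀E⟩ := exists_normalizing_not_mem hS hE hPS hPn hPE
    have hex : ∃ k : ℕ, a₀ ^ 2 ^ k ∈ E := by
      obtain ⟨k, hk⟩ := hS ⟨a₀, hPS ha₀P⟩
      refine ⟨k, ?_⟩
      have h0 : a₀ ^ 2 ^ k = 1 := by simpa using congrArg Subtype.val hk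
      rw [h0]
      exact E.one_mem
    classical
    obtain ⟨k, hk, hkmin⟩ : ∃ k, a₀ ^ 2 ^ k ∈ E ∧ ∀ j < k, a₀ ^ 2 ^ j ∉ E :=
      ⟨Nat.find hex, Nat.find_spec hex, fun j hj => Nat.find_min hex hj⟩
    have hk0 : k ≠ 0 := by
      rintro rfl
      exact ha₀E (by simpa using hk)
    obtain ⟨k', rfl⟩ : ∃ k', k = k' + 1 := ⟨k - 1, by omega⟩
    obtain ⟨a, ha⟩ : ∃ a, a = a₀ ^ 2 ^ k' := ⟨_, rfl⟩
    have haP : a ∈ P := by rw [ha]; exact P.pow_mem ha₀P _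
    have haN : a ∈ Subgroup.normalizer (E : Set Ω) := by
      rw [ha]; exact Subgroup.pow_mem _ ha₀N _
    have haE : a ∉ E := by rw [ha]; exact hkmin k' (by omega)
    have ha2E : a ^ 2 ∈ E := by rw [ha, ← pow_mul, ← pow_succ]; exact hk
    have haS : a ∈ S := hPS haP
    have haR : a ∉ E ⊓ P := fun h => haE h.1
    have ha2R : a ^ 2 ∈ E ⊓ P := ⟨ha2E, P.pow_mem haP 2⟩
    have haNP : a ∈ Subgroup.normalizer (P : Set Ω) := by
      rw [Subgroup.mem_normalizer_iff]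
      intro x
      constructor
      · exact fun hx => hPn a haS x hx
      · intro hx
        have h1 := hPn a⁻¹ (S.inv_mem haS) _ hx
        have h0 : a⁻¹ * (a * x * a⁻¹) * a⁻¹⁻¹ = x := by group
        rwa [h0] at h1
    have haNR : a ∈ Subgroup.normalizer ((E ⊓ P : Subgroup Ω) : Set Ω) := by
      rw [Subgroup.mem_normalizer_iff]
      intro x
      have h1 := Subgroup.mem_normalizer_iff.mp haN x
      have h2 := Subgroup.mem_normalizer_iff.mp haNP x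
      constructor
      · exact fun hx => ⟨h1.mp hx.1, h2.mp hx.2⟩
      · exact fun hx => ⟨h1.mpr hx.1, h2.mpr hx.2⟩
    obtain ⟨κa, hκaF, hκa⟩ := exists_aut_of_mor (mor_conj F hE haS)
      (fun x hx => conj_mem_of_mem_normalizer haN hx)
    have hκaP : ∀ x : E, ((κa x : E) : Ω) * (x : Ω)⁻¹ ∈ P := by
      intro x
      rw [hκa]
      exact hconjP a haP x
    have hκaInn : κa ∉ Inn E := by
      intro hc
      obtain ⟨y, hy, hκy⟩ := (mem_Inn_iff κa).mp hc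
      have hcz : y⁻¹ * a ∈ centralizerIn S E := by
        refine ⟨S.mul_mem (S.inv_mem (hE hy)) haS, ?_⟩
        show y⁻¹ * a ∈ Subgroup.centralizer (E : Set Ω)
        rw [Subgroup.mem_centralizer_iff]
        intro x hx
        have h1 : a * x * a⁻¹ = y * x * y⁻¹ := by rw [← hκa ⟨x, hx⟩, hκy]
        calc x * (y⁻¹ * a) = y⁻¹ * (y * x * y⁻¹) * a := by group
          _ = y⁻¹ * (a * x * a⁻¹) * a := by rw [h1]
          _ = y⁻¹ * a * x := by group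
      have h2 : y⁻¹ * a ∈ E := hcen.2 E (isConj_refl F hE) hcz
      have h3 : y * (y⁻¹ * a) ∈ E := E.mul_mem hy h2
      rw [mul_inv_cancel_left] at h3
      exact haE h3
    have hact : ∃ x ∈ E ⊓ P, a * x * a⁻¹ * x⁻¹ ∉ ΦR := by
      by_contra hcon
      push Not at hcon
      apply hκaInn
      apply hB₁Inn
      refine ⟨hκaF, hκaP, fun x hx => ?_⟩
      rw [hκa]
      exact hcon x ⟨x.2, hx⟩
    obtain ⟨κ, hκ⟩ := exists_restrict_aut hP hE hβB.1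
    have hκn := hκpow β κ hκ
    have hκne : κ ≠ 1 := by
      intro hκ1
      apply hβ1
      apply hT1 β hβB hβcop
      intro x hx
      have h1 := hκ x ⟨x.2, hx⟩
      rw [hκ1] at h1
      exact Subtype.ext h1.symm
    have hidx : (frattini ↥(E ⊓ P)).index ≤ 2 ^ 2 :=
      Helper78.MC.index_frattini_le_of_metacyclic 2 hR2 hRm
    have hstar : ∀ y : ↥(E ⊓ P), y ∉ frattini ↥(E ⊓ P) →
        κ y * y⁻¹ ∉ frattini ↥(E ⊓ P) := by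
      intro y hy hyκ
      apply hκne
      have hmap : (frattini ↥(E ⊓ P)).map κ.toMonoidHom = frattini ↥(E ⊓ P) :=
        Subgroup.characteristic_iff_map_eq.mp frattini_characteristic κ
      let ē : (↥(E ⊓ P) ⧸ frattini ↥(E ⊓ P)) ≃* (↥(E ⊓ P) ⧸ frattini ↥(E ⊓ P)) :=
        QuotientGroup.congr _ _ κ hmap
      have hē : ∀ z : ↥(E ⊓ P), ē (z : ↥(E ⊓ P) ⧸ frattini ↥(E ⊓ P)) =
          ((κ z : ↥(E ⊓ P)) : ↥(E ⊓ P) ⧸ frattini ↥(E ⊓ P)) := fun z => rfl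
      have hsqQ : ∀ q : ↥(E ⊓ P) ⧸ frattini ↥(E ⊓ P), q ^ 2 = 1 := by
        intro q
        obtain ⟨z, rfl⟩ := QuotientGroup.mk_surjective q
        rw [← QuotientGroup.mk_pow]
        exact (QuotientGroup.eq_one_iff _).mpr (Helper72.pow_mem_frattini hR2 z)
      have hcardQ : Nat.card (↥(E ⊓ P) ⧸ frattini ↥(E ⊓ P)) ≤ 4 := by
        have h0 : Nat.card (↥(E ⊓ P) ⧸ frattini ↥(E ⊓ P)) = (frattini ↥(E ⊓ P)).index := rfl
        rw [h0]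
        exact hidx
      have hy1 : ((y : ↥(E ⊓ P)) : ↥(E ⊓ P) ⧸ frattini ↥(E ⊓ P)) ≠ 1 :=
        fun h => hy ((QuotientGroup.eq_one_iff _).mp h)
      have hyfix : ē (y : ↥(E ⊓ P) ⧸ frattini ↥(E ⊓ P)) = (y : ↥(E ⊓ P) ⧸ frattini ↥(E ⊓ P)) := by
        rw [hē]
        have h0 : ((κ y : ↥(E ⊓ P)) : ↥(E ⊓ P) ⧸ frattini ↥(E ⊓ P)) =
            ((κ y * y⁻¹ : ↥(E ⊓ P)) : ↥(E ⊓ P) ⧸ frattini ↥(E ⊓ P)) *
              (y : ↥(E ⊓ P) ⧸ frattini ↥(E ⊓ P)) := by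
          rw [← QuotientGroup.mk_mul]
          congr 1
          group
        rw [h0, (QuotientGroup.eq_one_iff _).mpr hyκ, one_mul]
      have h2 := sq_fix_of_card_le_four hcardQ hsqQ ē _ hy1 hyfix
      have hκ2 : κ ^ 2 = 1 := by
        apply aut_eq_one_of_frattini hR2 (κ ^ 2) hβcop (n := orderOf β)
          (by rw [← pow_mul, mul_comm, pow_mul, hκn, one_pow])
        intro z
        have h3 := h2 (z : ↥(E ⊓ P) ⧸ frattini ↥(E ⊓ P))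
        rw [hē, hē] at h3
        have h4 : (((κ ^ 2) z * z⁻¹ : ↥(E ⊓ P)) : ↥(E ⊓ P) ⧸ frattini ↥(E ⊓ P)) = 1 := by
          rw [QuotientGroup.mk_mul, QuotientGroup.mk_inv, pow_two, MulAut.mul_apply, h3,
            mul_inv_cancel]
        exact (QuotientGroup.eq_one_iff _).mp h4
      obtain ⟨m, hm⟩ := Nat.coprime_two_left.mp hβcop.symm
      have h5 : κ = κ ^ orderOf β * ((κ ^ 2) ^ m)⁻¹ := by
        rw [hm, pow_succ, pow_mul]; group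
      rw [h5, hκn, hκ2]
      simp
    have hsq : ∀ x ∈ E ⊓ P, x ^ 2 ∈ ΦR := by
      intro x hx
      exact (hmemΦ _ (Subgroup.pow_mem _ hx 2)).mpr (Helper72.pow_mem_frattini hR2 ⟨x, hx⟩)
    have hcomm : ∀ x ∈ E ⊓ P, ∀ y ∈ E ⊓ P, x * y * x⁻¹ * y⁻¹ ∈ ΦR := by
      intro x hx y hy
      have h1 := Helper72.comm_mem_frattini hR2 (⟨x, hx⟩ : ↥(E ⊓ P)) ⟨y, hy⟩
      exact (hmemΦ _ ((⟨x, hx⟩ : ↥(E ⊓ P)) * ⟨y, hy⟩ * (⟨x, hx⟩ : ↥(E ⊓ P))⁻¹ *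
        (⟨y, hy⟩ : ↥(E ⊓ P))⁻¹).2).mpr h1
    have hsym : ∀ h ∈ E ⊓ P, h ∉ ΦR → (∀ x ∈ E ⊓ P, x * h * x⁻¹ ∈ Subgroup.zpowers h) →
        ∃ h₁ ∈ E ⊓ P, orderOf h₁ = orderOf h ∧
          (∀ x ∈ E ⊓ P, x * h₁ * x⁻¹ ∈ Subgroup.zpowers h₁) ∧ h₁ ∉ ΦR ∧ h₁ * h⁻¹ ∉ ΦR := by
      intro h hhR hhΦ hnorm
      have hy : (⟨h, hhR⟩ : ↥(E ⊓ P)) ∉ frattini ↥(E ⊓ P) :=
        fun hc => hhΦ ((hmemΦ h hhR).mpr hc)
      refine ⟨(κ ⟨h, hhR⟩ : ↥(E ⊓ P)), (κ ⟨h, hhR⟩).2, ?_, ?_, ?_, ?_⟩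
      · rw [Subgroup.orderOf_coe, MulEquiv.orderOf_eq, ← Subgroup.orderOf_coe]
      · intro x hx
        obtain ⟨z, hz⟩ := Subgroup.mem_zpowers_iff.mp
          (hnorm ((κ.symm ⟨x, hx⟩ : ↥(E ⊓ P)) : Ω) (κ.symm ⟨x, hx⟩).2)
        have h1 : (κ.symm ⟨x, hx⟩) * ⟨h, hhR⟩ * (κ.symm ⟨x, hx⟩)⁻¹ =
            (⟨h, hhR⟩ : ↥(E ⊓ P)) ^ z := by
          apply Subtype.ext
          rw [Subgroup.coe_zpow]
          simpa using hz.symm
        have h2 := congrArg κ h1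
        rw [map_mul, map_mul, map_inv, map_zpow, MulEquiv.apply_symm_apply] at h2
        have h3 := congrArg Subtype.val h2
        rw [Subgroup.coe_zpow] at h3
        rw [Subgroup.mem_zpowers_iff]
        exact ⟨z, by rw [← h3]; simp⟩
      · intro hc
        have h1 := (hmemΦ _ (κ ⟨h, hhR⟩).2).mp hc
        exact hy ((frattini_mem_of_equiv κ).mp h1)
      · intro hc
        have h1 : ((κ ⟨h, hhR⟩ * (⟨h, hhR⟩ : ↥(E ⊓ P))⁻¹ : ↥(E ⊓ P)) : Ω) ∈ ΦR := by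
          simpa using hc
        exact hstar _ hy ((hmemΦ _ (κ ⟨h, hhR⟩ * (⟨h, hhR⟩ : ↥(E ⊓ P))⁻¹).2).mp h1)
    obtain ⟨w, hwP, t, htP, hw4, hinv, ht2⟩ := exists_invert_of_meta P hP2 hm (E ⊓ P) ΦR
      inf_le_right hΦle hsq hcomm a haP haR ha2R haNR hact hsym
    apply hshape
    refine shape_of_meta hP2 hm ⟨w, hwP⟩ ⟨t, htP⟩ ?_ ?_ ?_
    · rw [← hw4, ← Subgroup.orderOf_coe]
    · apply Subtype.ext
      simpa using hinv
    · obtain ⟨z, hz⟩ := Subgroup.mem_zpowers_iff.mp ht2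
      rw [Subgroup.mem_zpowers_iff]
      exact ⟨z, Subtype.ext (by rw [Subgroup.coe_zpow]; simpa using hz)⟩

end Cfsg.Agent.Lib.Helper30
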