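import Cfsg.Agent.Lib.Helper30.MetaShape
import Cfsg.Agent.Lib.Helper69.MetaCyc
import Cfsg.Agent.Lib.Helper78.MC1

/-!
# Finding a nonabelian pair of order 8 inside a metacyclic 2-group

`exists_invert_of_meta`: let `P` be a metacyclic 2-group, `R ≤ P`, `Φ ≤ R` containing all squares
and commutators of `R`, `a ∈ N_P(R) \ R` with `a² ∈ R` acting nontrivially on `R/Φ`, and suppose
that `R` has the symmetry `hsym` (any element `h ∈ R \ Φ` generating a normal subgroup of `R` has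
a companion `h₁` of the same order, generating a normal subgroup, independent of `h` mod `Φ`).
Then `P` contains `w` of order 4 and `t` with `t w t⁻¹ = w⁻¹`, `t² ∈ ⟨w⟩`.
-/

set_option autoImplicit false

namespace Cfsg.Agent.Lib.Helper30

variable {Ω : Type*} [Group Ω]

/-- `R ∪ aR` as a subgroup, for `a` normalizing `R` with `a² ∈ R`. -/
def twoExt (R : Subgroup Ω) (a : Ω) (ha2 : a ^ 2 ∈ R)
    (haN : a ∈ Subgroup.normalizer (R : Set Ω)) : Subgroup Ω where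
  carrier := {x | x ∈ R ∨ a⁻¹ * x ∈ R}
  one_mem' := Or.inl R.one_mem
  mul_mem' := by
    intro x y hx hy
    have hN : ∀ z, z ∈ R → a⁻¹ * z * a ∈ R := by
      intro z hz
      have := (Subgroup.mem_normalizer_iff.mp (Subgroup.inv_mem _ haN) z).mp hz
      simpa using this
    rcases hx with hx | hx <;> rcases hy with hy | hy
    · exact Or.inl (R.mul_mem hx hy)
    · right
      have h0 : a⁻¹ * (x * y) = (a⁻¹ * x * a) * (a⁻¹ * y) := by group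
      show a⁻¹ * (x * y) ∈ R
      rw [h0]; exact R.mul_mem (hN x hx) hy
    · right
      have h0 : a⁻¹ * (x * y) = (a⁻¹ * x) * y := by group
      show a⁻¹ * (x * y) ∈ R
      rw [h0]; exact R.mul_mem hx hy
    · left
      have h0 : x * y = a ^ 2 * (a⁻¹ * (a⁻¹ * x) * a) * (a⁻¹ * y) := by rw [pow_two]; group
      show x * y ∈ R
      rw [h0]; exact R.mul_mem (R.mul_mem ha2 (hN _ hx)) hy
  inv_mem' := by
    intro x hx
    have hN : ∀ z, z ∈ R → a⁻¹ * z * a ∈ R := by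
      intro z hz
      have := (Subgroup.mem_normalizer_iff.mp (Subgroup.inv_mem _ haN) z).mp hz
      simpa using this
    rcases hx with hx | hx
    · exact Or.inl (R.inv_mem hx)
    · right
      have h0 : a⁻¹ * x⁻¹ = (a⁻¹ * (a⁻¹ * x)⁻¹ * a) * (a ^ 2)⁻¹ := by rw [pow_two]; group
      show a⁻¹ * x⁻¹ ∈ R
      rw [h0]; exact R.mul_mem (hN _ (R.inv_mem hx)) (R.inv_mem ha2)

theorem mem_twoExt {R : Subgroup Ω} {a : Ω} {ha2 : a ^ 2 ∈ R}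
    {haN : a ∈ Subgroup.normalizer (R : Set Ω)} {x : Ω} :
    x ∈ twoExt R a ha2 haN ↔ x ∈ R ∨ a⁻¹ * x ∈ R := Iff.rfl

theorem exists_invert_of_meta (P : Subgroup Ω) [Finite P] (hP2 : IsPGroup 2 P)
    (hm : Cfsg.IsMetacyclic ↥P) (R Φ : Subgroup Ω) (hRP : R ≤ P) (hΦR : Φ ≤ R)
    (hsq : ∀ x ∈ R, x ^ 2 ∈ Φ) (hcomm : ∀ x ∈ R, ∀ y ∈ R, x * y * x⁻¹ * y⁻¹ ∈ Φ)
    (a : Ω) (haP : a ∈ P) (haR : a ∉ R) (ha2 : a ^ 2 ∈ R)
    (haN : a ∈ Subgroup.normalizer (R : Set Ω))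
    (hact : ∃ x ∈ R, a * x * a⁻¹ * x⁻¹ ∉ Φ)
    (hsym : ∀ h ∈ R, h ∉ Φ → (∀ x ∈ R, x * h * x⁻¹ ∈ Subgroup.zpowers h) →
      ∃ h₁ ∈ R, orderOf h₁ = orderOf h ∧ (∀ x ∈ R, x * h₁ * x⁻¹ ∈ Subgroup.zpowers h₁) ∧
        h₁ ∉ Φ ∧ h₁ * h⁻¹ ∉ Φ) :
    ∃ w ∈ P, ∃ t ∈ P, orderOf w = 4 ∧ t * w * t⁻¹ = w⁻¹ ∧ t ^ 2 ∈ Subgroup.zpowers w := by
  have hp2 : Fact (Nat.Prime 2) := ⟨Nat.prime_two⟩
  obtain ⟨T, hT⟩ : ∃ T, T = twoExt R a ha2 haN := ⟨_, rfl⟩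
  have hmemT : ∀ x, x ∈ T ↔ x ∈ R ∨ a⁻¹ * x ∈ R := by
    intro x; rw [hT]; exact mem_twoExt
  have hRT : R ≤ T := fun x hx => (hmemT x).mpr (Or.inl hx)
  have haT : a ∈ T := (hmemT a).mpr (Or.inr (by simp [R.one_mem]))
  have hTP : T ≤ P := by
    intro x hx
    rcases (hmemT x).mp hx with hx | hx
    · exact hRP hx
    · have h0 : x = a * (a⁻¹ * x) := by group
      rw [h0]; exact P.mul_mem haP (hRP hx)
  have hTout : ∀ x ∈ T, x ∉ R → a⁻¹ * x ∈ R := fun x hx hxR => ((hmemT x).mp hx).resolve_left hxR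
  have hTdiff : ∀ x ∈ T, x ∉ R → ∀ y ∈ T, y ∉ R → x⁻¹ * y ∈ R := by
    intro x hx hxR y hy hyR
    have h1 := hTout x hx hxR
    have h2 := hTout y hy hyR
    have h0 : x⁻¹ * y = (a⁻¹ * x)⁻¹ * (a⁻¹ * y) := by group
    rw [h0]; exact R.mul_mem (R.inv_mem h1) h2
  have hTsq : ∀ x ∈ T, x ^ 2 ∈ R := by
    intro x hx
    by_cases hxR : x ∈ R
    · exact R.pow_mem hxR 2
    · have h1 := hTout x hx hxR
      have hN : a⁻¹ * (a⁻¹ * x) * a ∈ R := by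
        have := (Subgroup.mem_normalizer_iff.mp (Subgroup.inv_mem _ haN) (a⁻¹ * x)).mp h1
        simpa using this
      have h0 : x ^ 2 = a ^ 2 * (a⁻¹ * (a⁻¹ * x) * a) * (a⁻¹ * x) := by
        rw [pow_two, pow_two]; group
      rw [h0]; exact R.mul_mem (R.mul_mem ha2 hN) h1
  have htriv : ∀ u : Ω, u⁻¹ * a ∈ R → (∀ y ∈ R, u * y * u⁻¹ * y⁻¹ ∈ Φ) → False := by
    intro u hu hy
    obtain ⟨x, hx, hxΦ⟩ := hact
    apply hxΦ
    have h1 : (u⁻¹ * a) * x * (u⁻¹ * a)⁻¹ ∈ R := R.mul_mem (R.mul_mem hu hx) (R.inv_mem hu)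
    have h2 : a * x * a⁻¹ * x⁻¹ = (u * ((u⁻¹ * a) * x * (u⁻¹ * a)⁻¹) * u⁻¹ *
        ((u⁻¹ * a) * x * (u⁻¹ * a)⁻¹)⁻¹) * ((u⁻¹ * a) * x * (u⁻¹ * a)⁻¹ * x⁻¹) := by group
    rw [h2]
    exact Φ.mul_mem (hy _ h1) (hcomm _ hu _ hx)
  have hfinT : Finite T :=
    Finite.of_injective (Subgroup.inclusion hTP) (Subgroup.inclusion_injective hTP)
  have hT2 : IsPGroup 2 T :=
    hP2.of_injective (Subgroup.inclusion hTP) (Subgroup.inclusion_injective hTP)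
  have hTm : Cfsg.IsMetacyclic ↥T :=
    Cfsg.Agent.Lib.Helper78.MC.isMetacyclic_of_inj (Subgroup.inclusion hTP)
      (Subgroup.inclusion_injective hTP) hm
  obtain ⟨M⟩ := Cfsg.Agent.Lib.Helper69.exists_MC hT2 hTm
  obtain ⟨g, hg⟩ : ∃ g : Ω, g = (M.a : Ω) := ⟨_, rfl⟩
  obtain ⟨b, hb⟩ : ∃ b : Ω, b = (M.b : Ω) := ⟨_, rfl⟩
  obtain ⟨r, hr⟩ : ∃ r : ℕ, r = M.r := ⟨_, rfl⟩
  have hgT : g ∈ T := by rw [hg]; exact M.a.2
  have hbT : b ∈ T := by rw [hb]; exact M.b.2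
  have hconj : b * g * b⁻¹ = g ^ r := by
    have h0 := congrArg Subtype.val M.conj
    rw [hg, hb, hr]
    simpa using h0
  have hrodd : r % 2 = 1 := by
    have h1 := M.hr
    have h2 := M.hr1
    rw [← hr] at h1 h2
    omega
  have hgen : ∀ x ∈ T, ∃ i j : ℕ, x = g ^ i * b ^ j := by
    intro x hx
    obtain ⟨i, j, hij⟩ := M.gen ⟨x, hx⟩
    refine ⟨i, j, ?_⟩
    have h0 := congrArg Subtype.val hij
    rw [hg, hb]
    simpa using h0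
  have hbj : ∀ j : ℕ, b ^ j * g * (b ^ j)⁻¹ = g ^ (r ^ j) := by
    intro j
    induction j with
    | zero => simp
    | succ j ih =>
      have h1 : b ^ (j + 1) * g * (b ^ (j + 1))⁻¹ = b * (b ^ j * g * (b ^ j)⁻¹) * b⁻¹ := by
        rw [pow_succ']; group
      rw [h1, ih, ← conj_pow, hconj, ← pow_mul, pow_succ']
  have hxg : ∀ i j : ℕ, (g ^ i * b ^ j) * g * (g ^ i * b ^ j)⁻¹ = g ^ (r ^ j) := by
    intro i j
    have h1 : (g ^ i * b ^ j) * g * (g ^ i * b ^ j)⁻¹ =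
        g ^ i * (b ^ j * g * (b ^ j)⁻¹) * (g ^ i)⁻¹ := by group
    rw [h1, hbj]
    have h2 : Commute (g ^ i) (g ^ (r ^ j)) := (Commute.refl g).pow_pow i (r ^ j)
    rw [h2.eq]; group
  have hrj_odd : ∀ j : ℕ, r ^ j % 2 = 1 := by
    intro j
    rw [Nat.pow_mod, hrodd]; simp
  have hgR : g ∉ R := by
    intro hgR
    have hbR : b ∉ R := by
      intro hbR
      apply haR
      obtain ⟨i, j, rfl⟩ := hgen a haT
      exact R.mul_mem (R.pow_mem hgR i) (R.pow_mem hbR j)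
    apply htriv b (hTdiff b hbT hbR a haT haR)
    intro y hy
    obtain ⟨i, j, rfl⟩ := hgen y (hRT hy)
    have h1 : b * (g ^ i * b ^ j) * b⁻¹ * (g ^ i * b ^ j)⁻¹ = (b * g * b⁻¹) ^ i * (g ^ i)⁻¹ := by
      rw [conj_pow]; group
    rw [h1, hconj, ← pow_mul]
    obtain ⟨s, hs⟩ : ∃ s, r = 2 * s + 1 := ⟨r / 2, by omega⟩
    have h2 : g ^ (r * i) * (g ^ i)⁻¹ = (g ^ (s * i)) ^ 2 := by
      rw [hs, ← pow_mul]
      have h0 : (2 * s + 1) * i = s * i * 2 + i := by ring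
      rw [h0, pow_add]; group
    rw [h2]
    exact hsq _ (R.pow_mem hgR _)
  have hr0 : g⁻¹ * a ∈ R := hTdiff g hgT hgR a haT haR
  obtain ⟨h, hh⟩ : ∃ h, h = g ^ 2 := ⟨_, rfl⟩
  have hhR : h ∈ R := by rw [hh]; exact hTsq g hgT
  have hheven : ∀ s : ℕ, h ^ (2 * s) ∈ Φ := by
    intro s
    rw [mul_comm, pow_mul]; exact hsq _ (R.pow_mem hhR s)
  have key : ∃ y ∈ R, g * y * g⁻¹ * y⁻¹ ∉ Φ := by
    by_contra hcon
    push Not at hcon
    exact htriv g hr0 hcon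
  obtain ⟨y, hyR, hyΦ⟩ := key
  obtain ⟨i₀, j₀, rfl⟩ := hgen y (hRT hyR)
  have hcomm_g : ∀ i j : ℕ, ∃ q, r ^ j = 2 * q + 1 ∧
      g * (g ^ i * b ^ j) * g⁻¹ * (g ^ i * b ^ j)⁻¹ = (h ^ q)⁻¹ := by
    intro i j
    obtain ⟨q, hq⟩ : ∃ q, r ^ j = 2 * q + 1 := ⟨r ^ j / 2, by have := hrj_odd j; omega⟩
    refine ⟨q, hq, ?_⟩
    have h1 : g * (g ^ i * b ^ j) * g⁻¹ * (g ^ i * b ^ j)⁻¹ =
        g * ((g ^ i * b ^ j) * g * (g ^ i * b ^ j)⁻¹)⁻¹ := by group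
    rw [h1, hxg, hq, hh, ← pow_mul, pow_succ]; group
  obtain ⟨q, hq, hq'⟩ := hcomm_g i₀ j₀
  have hqΦ : h ^ q ∉ Φ := fun hc => hyΦ (by rw [hq']; exact Φ.inv_mem hc)
  have hqodd : q % 2 = 1 := by
    by_contra hc
    obtain ⟨s, hs⟩ : ∃ s, q = 2 * s := ⟨q / 2, by omega⟩
    exact hqΦ (by rw [hs]; exact hheven s)
  have hhΦ : h ∉ Φ := fun hc => hqΦ (Φ.pow_mem hc q)
  have hr4 : r % 4 = 3 := by
    have h1 : r ^ j₀ % 4 = 3 := by omega
    by_contra hc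
    have h2 : r % 4 = 1 := by omega
    have h3 : r ^ j₀ % 4 = 1 := by rw [Nat.pow_mod, h2]; simp
    omega
  have hhnorm : ∀ x ∈ R, x * h * x⁻¹ ∈ Subgroup.zpowers h := by
    intro x hx
    obtain ⟨i, j, rfl⟩ := hgen x (hRT hx)
    have h1 : (g ^ i * b ^ j) * h * (g ^ i * b ^ j)⁻¹ =
        ((g ^ i * b ^ j) * g * (g ^ i * b ^ j)⁻¹) ^ 2 := by
      rw [hh, conj_pow]
    rw [h1, hxg, ← pow_mul, mul_comm, pow_mul, ← hh]
    exact Subgroup.pow_mem _ (Subgroup.mem_zpowers h) _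
  obtain ⟨h₁, hh₁R, hord, hh₁norm, hh₁Φ, hh₁h⟩ := hsym h hhR hhΦ hhnorm
  obtain ⟨i₁, j₁, hh₁⟩ := hgen h₁ (hRT hh₁R)
  have hb2Φ : b ^ 2 ∈ Φ := by
    by_cases hbR : b ∈ R
    · exact hsq b hbR
    · have hy₀ : g⁻¹ * b ∈ R := hTdiff g hgT hgR b hbT hbR
      have h1 := hsq _ hy₀
      obtain ⟨s, hs⟩ : ∃ s, r + 1 = 2 * (2 * s) := ⟨(r + 1) / 4, by omega⟩
      have h2 : b ^ 2 = g ^ (r + 1) * (g⁻¹ * b) ^ 2 := by
        have h3 : (g⁻¹ * b) ^ 2 = g⁻¹ * (b * g * b⁻¹)⁻¹ * b ^ 2 := by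
          rw [pow_two, pow_two]; group
        rw [h3, hconj, pow_succ]; group
      rw [h2]
      refine Φ.mul_mem ?_ h1
      rw [hs, pow_mul, ← hh]
      exact hheven s
  have hj₁ : j₁ % 2 = 1 := by
    by_contra hc
    obtain ⟨e, he⟩ : ∃ e, j₁ = 2 * e := ⟨j₁ / 2, by omega⟩
    have hbΦ : b ^ j₁ ∈ Φ := by rw [he, pow_mul]; exact Φ.pow_mem hb2Φ e
    have hgi : g ^ i₁ ∈ R := by
      have h0 : g ^ i₁ = h₁ * (b ^ j₁)⁻¹ := by rw [hh₁]; group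
      rw [h0]; exact R.mul_mem hh₁R (R.inv_mem (hΦR hbΦ))
    have hi₁ : i₁ % 2 = 0 := by
      by_contra hc'
      obtain ⟨f, hf⟩ : ∃ f, i₁ = 2 * f + 1 := ⟨i₁ / 2, by omega⟩
      apply hgR
      have h0 : g = (g ^ (2 * f))⁻¹ * g ^ i₁ := by rw [hf, pow_succ]; group
      rw [h0]
      refine R.mul_mem (R.inv_mem ?_) hgi
      rw [pow_mul, ← hh]; exact R.pow_mem hhR f
    obtain ⟨f, hf⟩ : ∃ f, i₁ = 2 * f := ⟨i₁ / 2, by omega⟩
    have hh₁' : h₁ = h ^ f * b ^ j₁ := by rw [hh₁, hf, pow_mul, ← hh]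
    rcases Nat.even_or_odd' f with ⟨f', hf' | hf'⟩
    · apply hh₁Φ
      rw [hh₁', hf']
      exact Φ.mul_mem (hheven f') hbΦ
    · apply hh₁h
      have h0 : h₁ * h⁻¹ = h ^ (2 * f') * (h * b ^ j₁ * h⁻¹ * (b ^ j₁)⁻¹) * b ^ j₁ := by
        rw [hh₁', hf', pow_succ]; group
      rw [h0]
      exact Φ.mul_mem (Φ.mul_mem (hheven f') (hcomm h hhR _ (hΦR hbΦ))) hbΦ
  obtain ⟨w, hw⟩ : ∃ w, w = r ^ j₁ := ⟨_, rfl⟩
  have hw4 : w % 4 = 3 := by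
    obtain ⟨e, he⟩ : ∃ e, j₁ = 2 * e + 1 := ⟨j₁ / 2, by omega⟩
    have h0 : r ^ 2 % 4 = 1 := by rw [Nat.pow_mod, hr4]
    rw [hw, he, pow_succ, pow_mul, Nat.mul_mod, Nat.pow_mod, h0, hr4]
    simp
  have hh₁g : h₁ * g * h₁⁻¹ = g ^ w := by rw [hh₁, hxg, hw]
  have hh₁h' : h₁ * h * h₁⁻¹ = h ^ w := by
    rw [hh, ← conj_pow, hh₁g, ← pow_mul, mul_comm, pow_mul]
  have hh1 : h ≠ 1 := fun hc => hhΦ (hc ▸ Φ.one_mem)
  have hgP : g ∈ P := hTP hgT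
  have hhP : h ∈ P := hRP hhR
  have hh₁P : h₁ ∈ P := hRP hh₁R
  obtain ⟨s, hs⟩ : ∃ s, w = 4 * s + 3 := ⟨w / 4, by omega⟩
  by_cases hh2 : h ^ 2 = 1
  · have hg4 : g ^ 4 = 1 := by
      have h0 : g ^ 4 = (g ^ 2) ^ 2 := by rw [← pow_mul]
      rw [h0, ← hh, hh2]
    refine ⟨g, hgP, h₁, hh₁P, ?_, ?_, ?_⟩
    · refine orderOf_eq_prime_pow (p := 2) (n := 1) (by rw [pow_one, ← hh]; exact hh1) ?_
      exact hg4
    · rw [hh₁g]
      apply eq_inv_of_mul_eq_one_left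
      rw [← pow_succ, hs, show 4 * s + 3 + 1 = 4 * (s + 1) by ring, pow_mul, hg4, one_pow]
    · have h0 : orderOf h = 2 := orderOf_eq_prime hh2 hh1
      have h2 : h₁ ^ 2 = 1 := by rw [← h0, ← hord]; exact pow_orderOf_eq_one h₁
      rw [h2]; exact Subgroup.one_mem _
  · have hc1 : h ^ (w - 1) ∈ Subgroup.zpowers h₁ := by
      have h1 : h ^ (w - 1) = h₁ * (h * h₁ * h⁻¹)⁻¹ := by
        have h2 : h₁ * (h * h₁ * h⁻¹)⁻¹ = (h₁ * h * h₁⁻¹) * h⁻¹ := by group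
        have h3 : h ^ w = h ^ (w - 1) * h := by
          rw [← pow_succ]; congr 1; omega
        rw [h2, hh₁h', h3]; group
      rw [h1]
      exact Subgroup.mul_mem _ (Subgroup.mem_zpowers h₁) (Subgroup.inv_mem _ (hh₁norm h hhR))
    have hw1 : w - 1 = 2 * (2 * s + 1) := by omega
    rw [hw1, pow_mul] at hc1
    obtain ⟨k, hk⟩ := hP2 ⟨h, hhP⟩
    have hk' : h ^ 2 ^ k = 1 := by simpa using congrArg Subtype.val hk
    have hcop : ∀ z : Ω, z ^ 2 ^ k = 1 → Nat.Coprime (2 * s + 1) (orderOf z) := by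
      intro z hz
      have h1 : orderOf z ∣ 2 ^ k := orderOf_dvd_of_pow_eq_one hz
      have h2 : Nat.Coprime (2 * s + 1) (2 ^ k) := by
        apply Nat.Coprime.pow_right
        exact (Nat.coprime_two_left.mpr ⟨s, rfl⟩).symm
      exact Nat.Coprime.coprime_dvd_right h1 h2
    have hh2mem : h ^ 2 ∈ Subgroup.zpowers h₁ := by
      have hz : (h ^ 2) ^ 2 ^ k = 1 := by rw [← pow_mul, mul_comm, pow_mul, hk', one_pow]
      obtain ⟨m, hm⟩ := exists_pow_eq_self_of_coprime (hcop _ hz)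
      rw [← hm]
      exact Subgroup.pow_mem _ hc1 m
    have hcm : h₁ * h ^ 2 * h₁⁻¹ = h ^ 2 := by
      obtain ⟨z, hz⟩ := Subgroup.mem_zpowers_iff.mp hh2mem
      rw [← hz]
      have h0 : Commute h₁ (h₁ ^ z) := (Commute.refl h₁).zpow_right z
      rw [h0.eq]; group
    have h4 : h ^ 4 = 1 := by
      have h1 : h ^ (2 * w) = h ^ 2 := by
        rw [mul_comm, pow_mul, ← hh₁h', conj_pow, hcm]
      have h2 : (h ^ 4) ^ (2 * s + 1) = 1 := by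
        have h0 : 2 * w = 2 + 4 * (2 * s + 1) := by omega
        rw [h0, pow_add] at h1
        rw [← pow_mul]
        exact mul_left_cancel (a := h ^ 2) (by rw [h1, mul_one])
      have hz : (h ^ 4) ^ 2 ^ k = 1 := by rw [← pow_mul, mul_comm, pow_mul, hk', one_pow]
      obtain ⟨m, hm⟩ := exists_pow_eq_self_of_coprime (hcop _ hz)
      rw [← hm, h2, one_pow]
    have hord4 : orderOf h = 4 := by
      refine orderOf_eq_prime_pow (p := 2) (n := 1) (by rw [pow_one]; exact hh2) ?_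
      exact h4
    refine ⟨h, hhP, h₁, hh₁P, hord4, ?_, ?_⟩
    · rw [hh₁h']
      apply eq_inv_of_mul_eq_one_left
      rw [← pow_succ, hs, show 4 * s + 3 + 1 = 4 * (s + 1) by ring, pow_mul, h4, one_pow]
    · have hord₁ : orderOf h₁ = 4 := by rw [hord, hord4]
      have h1 : h₁ ^ 2 ≠ 1 := by
        intro hc
        have := orderOf_dvd_of_pow_eq_one hc
        rw [hord₁] at this
        norm_num at this
      have hzP : Subgroup.zpowers h₁ ≤ P := (Subgroup.zpowers_le).mpr hh₁P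
      have hfinz : Finite (Subgroup.zpowers h₁) :=
        Finite.of_injective (Subgroup.inclusion hzP) (Subgroup.inclusion_injective hzP)
      have hc3 := cyc_sq_one_cases (⟨h ^ 2, hh2mem⟩ : Subgroup.zpowers h₁)
        ⟨h₁ ^ 2, Subgroup.pow_mem _ (Subgroup.mem_zpowers h₁) 2⟩
        (Subtype.ext (by
          show (h ^ 2) ^ 2 = 1
          rw [← pow_mul]; exact h4))
        (Subtype.ext (by
          show (h₁ ^ 2) ^ 2 = 1
          rw [← pow_mul, show 2 * 2 = 4 by norm_num, ← hord₁]; exact pow_orderOf_eq_one h₁))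
      rcases hc3 with hc3 | hc3 | hc3
      · exact absurd (congrArg Subtype.val hc3) hh2
      · exact absurd (congrArg Subtype.val hc3) h1
      · have h0 : h ^ 2 = h₁ ^ 2 := congrArg Subtype.val hc3
        rw [← h0]; exact Subgroup.pow_mem _ (Subgroup.mem_zpowers h) 2

end Cfsg.Agent.Lib.Helper30
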