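import Mathlib
import Cfsg.Prelude.Def_OddOrderLocal
import Cfsg.Prelude.Def_CaseTheorems
import Cfsg.Agent.Lib.Helper12.NormAbCyc2

/-!
# Metacyclic 2-groups containing a nonabelian subgroup of order 8

A finite metacyclic 2-group containing elements `w`, `t` with `w` of order 4, `t w t⁻¹ = w⁻¹` and
`t² ∈ ⟨w⟩` is dihedral, generalized quaternion or quasidihedral.
-/

set_option autoImplicit false

namespace Cfsg.Agent.Lib.Helper30

/-- In a finite cyclic group of order divisible by 4, every element of square 1 is a square. -/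
theorem cyc_sq_of_four_dvd {Q : Type*} [Group Q] [Finite Q] [IsCyclic Q] (h4 : 4 ∣ Nat.card Q)
    (q : Q) (hq : q ^ 2 = 1) : ∃ y : Q, y ^ 2 = q := by
  obtain ⟨γ, hγ⟩ := IsCyclic.exists_generator (α := Q)
  obtain ⟨j, hj⟩ := Subgroup.mem_zpowers_iff.mp (hγ q)
  have hord : orderOf γ = Nat.card Q := orderOf_eq_card_of_forall_mem_zpowers hγ
  have h1 : γ ^ (j * 2) = 1 := by
    rw [zpow_mul, hj]; exact_mod_cast hq
  have h2 : (orderOf γ : ℤ) ∣ j * 2 := orderOf_dvd_iff_zpow_eq_one.mpr h1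
  have h3 : (4 : ℤ) ∣ j * 2 := dvd_trans (by rw [hord]; exact_mod_cast h4) h2
  have h4' : (2 : ℤ) ∣ j := by omega
  obtain ⟨i, rfl⟩ := h4'
  refine ⟨γ ^ i, ?_⟩
  rw [← hj, ← zpow_natCast, ← zpow_mul]
  congr 1
  push_cast
  ring

/-- A finite cyclic group has at most one element of order 2. -/
theorem cyc_sq_one_cases {Q : Type*} [Group Q] [Finite Q] [IsCyclic Q] (x y : Q)
    (hx : x ^ 2 = 1) (hy : y ^ 2 = 1) : x = 1 ∨ y = 1 ∨ x = y := by
  classical
  by_contra hcon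
  push Not at hcon
  obtain ⟨h1, h2, h3⟩ := hcon
  have : Fintype Q := Fintype.ofFinite Q
  have hle := IsCyclic.card_pow_eq_one_le (α := Q) (n := 2) (by norm_num)
  have hsub : ({1, x, y} : Finset Q) ⊆ Finset.univ.filter (fun a : Q => a ^ 2 = 1) := by
    intro a ha
    simp only [Finset.mem_insert, Finset.mem_singleton] at ha
    simp only [Finset.mem_filter, Finset.mem_univ, true_and]
    rcases ha with rfl | rfl | rfl
    · exact one_pow 2
    · exact hx
    · exact hy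
  have hcard : ({1, x, y} : Finset Q).card = 3 := by
    rw [Finset.card_insert_of_notMem, Finset.card_insert_of_notMem, Finset.card_singleton]
    · simpa using h3
    · simp only [Finset.mem_insert, Finset.mem_singleton]
      push Not
      exact ⟨Ne.symm h1, Ne.symm h2⟩
  have := Finset.card_le_card hsub
  omega

/-- Normalisation step: inside a group with a cyclic normal subgroup `N` with cyclic quotient,
a "nonabelian order 8" pair can be chosen with the order 4 element inside `N`. -/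
theorem meta_pick {G : Type*} [Group G] [Finite G] (N : Subgroup G) [N.Normal] [IsCyclic N]
    [IsCyclic (G ⧸ N)] (w t : G) (hw : orderOf w = 4) (hinv : t * w * t⁻¹ = w⁻¹)
    (ht : t ^ 2 ∈ Subgroup.zpowers w) :
    ∃ w' t' : G, w' ∈ N ∧ orderOf w' = 4 ∧ t' ∉ N ∧ t' ^ 2 ∈ N ∧ t' * w' * t'⁻¹ = w'⁻¹ := by
  have hw4 : w ^ 4 = 1 := by rw [← hw]; exact pow_orderOf_eq_one w
  have hw2 : w ^ 2 ≠ 1 := by
    intro h
    have := orderOf_dvd_of_pow_eq_one h
    rw [hw] at this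
    norm_num at this
  have hNcomm : ∀ x ∈ N, ∀ y ∈ N, x * y = y * x := by
    intro x hx y hy
    exact congrArg Subtype.val (mul_comm' (⟨x, hx⟩ : N) ⟨y, hy⟩)
  have hw2N : w ^ 2 ∈ N := by
    have h1 : ((t * w * t⁻¹ * w⁻¹ : G) : G ⧸ N) = 1 := by
      have h0 := mul_comm' ((t : G ⧸ N)) (w : G ⧸ N)
      rw [QuotientGroup.mk_mul, QuotientGroup.mk_mul, QuotientGroup.mk_mul, QuotientGroup.mk_inv,
        QuotientGroup.mk_inv, h0]
      group
    have h2 : t * w * t⁻¹ * w⁻¹ ∈ N := (QuotientGroup.eq_one_iff _).mp h1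
    rw [hinv] at h2
    have h3 : (w⁻¹ * w⁻¹)⁻¹ ∈ N := N.inv_mem h2
    have h4 : (w⁻¹ * w⁻¹)⁻¹ = w ^ 2 := by group
    rwa [h4] at h3
  have ht2 : t ^ 2 = 1 ∨ t ^ 2 = w ^ 2 := by
    obtain ⟨i, hi⟩ := Subgroup.mem_zpowers_iff.mp ht
    have h1 : t * w ^ i * t⁻¹ = (w ^ i)⁻¹ := by
      have := map_zpow (MulAut.conj t) w i
      simp only [MulAut.conj_apply] at this
      rw [this, hinv, inv_zpow]
    rw [hi] at h1
    have h2 : t * t ^ 2 * t⁻¹ = t ^ 2 := by group
    rw [h2] at h1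
    have h3 : w ^ (i * 2) = 1 := by
      rw [zpow_mul, hi]
      have h0 : (t ^ 2) ^ (2 : ℤ) = t ^ 2 * t ^ 2 := by
        rw [show (2 : ℤ) = ((2 : ℕ) : ℤ) by norm_num, zpow_natCast, pow_two]
      rw [h0]
      nth_rewrite 1 [h1]
      group
    have h4 : ((orderOf w : ℕ) : ℤ) ∣ i * 2 := orderOf_dvd_iff_zpow_eq_one.mpr h3
    rw [hw] at h4
    have h5 : (2 : ℤ) ∣ i := by
      have : ((4 : ℕ) : ℤ) = 4 := by norm_num
      rw [this] at h4
      omega
    obtain ⟨l, rfl⟩ := h5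
    rcases Int.emod_two_eq_zero_or_one l with hl | hl
    · left
      obtain ⟨l', rfl⟩ : (2 : ℤ) ∣ l := Int.dvd_of_emod_eq_zero hl
      rw [← hi]
      have h6 : w ^ (2 * (2 * l')) = (w ^ (4 : ℕ)) ^ l' := by
        rw [← zpow_natCast, ← zpow_mul]
        congr 1
        push_cast
        ring
      rw [h6, hw4, one_zpow]
    · right
      rw [← hi]
      have h6 : w ^ (2 * l) = (w ^ (4 : ℕ)) ^ (l / 2) * w ^ 2 := by
        rw [← zpow_natCast, ← zpow_mul, ← zpow_natCast w 2, ← zpow_add]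
        congr 1
        push_cast
        omega
      rw [h6, hw4, one_zpow, one_mul]
  have htN : t ^ 2 ∈ N := by
    rcases ht2 with h | h
    · rw [h]; exact N.one_mem
    · rw [h]; exact hw2N
  have hne : t * w * t⁻¹ ≠ w := by
    rw [hinv]
    intro h
    apply hw2
    have h0 : w ^ 2 = w * w := pow_two w
    rw [h0]
    nth_rewrite 1 [← h]
    group
  have hq1 : ((w : G ⧸ N)) ^ 2 = 1 := by
    rw [← QuotientGroup.mk_pow]; exact (QuotientGroup.eq_one_iff _).mpr hw2N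
  have hq2 : ((t : G ⧸ N)) ^ 2 = 1 := by
    rw [← QuotientGroup.mk_pow]; exact (QuotientGroup.eq_one_iff _).mpr htN
  have hNinv : ∀ x ∈ N, x ^ 2 = 1 → x = 1 ∨ x = w ^ 2 := by
    intro x hx hx2
    have h := cyc_sq_one_cases (⟨x, hx⟩ : N) ⟨w ^ 2, hw2N⟩ (Subtype.ext (by simpa using hx2))
      (Subtype.ext (by
        show (w ^ 2) ^ 2 = 1
        rw [← pow_mul]; exact hw4))
    rcases h with h | h | h
    · left; exact congrArg Subtype.val h
    · exact absurd (congrArg Subtype.val h) hw2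
    · right; exact congrArg Subtype.val h
  have hp2 : Fact (Nat.Prime 2) := ⟨Nat.prime_two⟩
  by_cases hwN : w ∈ N
  · refine ⟨w, t, hwN, hw, ?_, htN, hinv⟩
    intro htN'
    apply hne
    rw [hNcomm t htN' w hwN]
    group
  by_cases htN' : t ∈ N
  · have ht2' : t ^ 2 = w ^ 2 := by
      rcases ht2 with h | h
      · exfalso
        rcases hNinv t htN' h with h1 | h1
        · apply hne; rw [h1]; group
        · apply hne; rw [h1]; group
      · exact h
    refine ⟨t, w, htN', ?_, hwN, hw2N, ?_⟩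
    · refine orderOf_eq_prime_pow (p := 2) (n := 1) (by rw [pow_one, ht2']; exact hw2) ?_
      have h0 : t ^ 2 ^ (1 + 1) = (t ^ 2) ^ 2 := by rw [← pow_mul]; rfl
      rw [h0, ht2', ← pow_mul]
      exact hw4
    · have h1 : t * w = w⁻¹ * t := by rw [← hinv]; group
      have h2 : t * w * t = w := by
        rw [h1, mul_assoc, ← pow_two, ht2']; group
      calc w * t * w⁻¹ = t⁻¹ * (t * w * t) * w⁻¹ := by group
        _ = t⁻¹ := by rw [h2]; group
  · have hwt : w * t ∈ N := by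
      rcases cyc_sq_one_cases (w : G ⧸ N) (t : G ⧸ N) hq1 hq2 with h | h | h
      · exact absurd ((QuotientGroup.eq_one_iff _).mp h) hwN
      · exact absurd ((QuotientGroup.eq_one_iff _).mp h) htN'
      · apply (QuotientGroup.eq_one_iff _).mp
        rw [QuotientGroup.mk_mul, ← h, ← pow_two]
        exact hq1
    have hwt2 : (w * t) ^ 2 = t ^ 2 := by
      have h0 : (w * t) ^ 2 = w * (t * w * t⁻¹) * t ^ 2 := by rw [pow_two, pow_two]; group
      rw [h0, hinv]; group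
    have ht2' : t ^ 2 = w ^ 2 := by
      rcases ht2 with h | h
      · exfalso
        rcases hNinv (w * t) hwt (by rw [hwt2, h]) with h1 | h1
        · have h0 : t = w⁻¹ := eq_inv_of_mul_eq_one_right h1
          apply hne; rw [h0]; group
        · have h0 : t = w := by
            have h2 : w * t = w * w := by rw [h1, pow_two]
            exact mul_left_cancel h2
          apply hne; rw [h0]; group
      · exact h
    refine ⟨w * t, w, hwt, ?_, hwN, hw2N, ?_⟩
    · refine orderOf_eq_prime_pow (p := 2) (n := 1) (by rw [pow_one, hwt2, ht2']; exact hw2) ?_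
      have h0 : (w * t) ^ 2 ^ (1 + 1) = ((w * t) ^ 2) ^ 2 := by rw [← pow_mul]; rfl
      rw [h0, hwt2, ht2', ← pow_mul]
      exact hw4
    · have h1 : t * w ^ 2 * t = 1 := by
        rw [← ht2']
        have h0 : t * t ^ 2 * t = (t ^ 2) ^ 2 := by group
        rw [h0, ht2', ← pow_mul]
        exact hw4
      calc w * (w * t) * w⁻¹ = t⁻¹ * (t * w ^ 2 * t) * w⁻¹ := by rw [pow_two]; group
        _ = (w * t)⁻¹ := by rw [h1]; group

/-- Number theory: `4 ∣ u + 1`, `u² ≡ 1 (mod 2^k)`, `u < 2^k` force `u + 1 ∈ {2^k, 2^(k-1)}`. -/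
theorem u_cases {k u : ℕ} (hk : 1 ≤ k) (hult : u < 2 ^ k) (hu4 : 4 ∣ u + 1)
    (huu : u * u ≡ 1 [MOD 2 ^ k]) : u + 1 = 2 ^ k ∨ u + 1 = 2 ^ (k - 1) := by
  obtain ⟨m', hm'⟩ := hu4
  obtain ⟨m'', rfl⟩ : ∃ m'', m' = m'' + 1 := ⟨m' - 1, by omega⟩
  have hu' : u = 4 * m'' + 3 := by omega
  have h1 : 2 ^ k ∣ u * u - 1 := (Nat.modEq_iff_dvd' (by rw [hu']; nlinarith)).mp huu.symm
  have h2 : u * u - 1 = (2 * (u + 1)) * (2 * m'' + 1) := by
    rw [hu']
    have h0 : (4 * m'' + 3) * (4 * m'' + 3) = (2 * (4 * m'' + 3 + 1)) * (2 * m'' + 1) + 1 := by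
      ring
    omega
  rw [h2] at h1
  have hcop : Nat.Coprime (2 ^ k) (2 * m'' + 1) := by
    apply Nat.Coprime.pow_left
    exact (Nat.coprime_two_left.mpr ⟨m'', rfl⟩)
  have h3 : 2 ^ k ∣ 2 * (u + 1) := hcop.dvd_of_dvd_mul_right h1
  obtain ⟨k', rfl⟩ : ∃ k', k = k' + 1 := ⟨k - 1, by omega⟩
  rw [pow_succ, mul_comm (2 ^ k') 2] at h3
  have h4 : 2 ^ k' ∣ u + 1 := Nat.dvd_of_mul_dvd_mul_left (by norm_num) h3
  obtain ⟨e, he⟩ := h4
  have hpos : 0 < 2 ^ k' := by positivity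
  have h5 : u + 1 ≤ 2 ^ (k' + 1) := hult
  rw [he, pow_succ] at h5
  have he2 : e ≤ 2 := by
    by_contra hlt
    push Not at hlt
    nlinarith
  have he0 : e ≠ 0 := by
    rintro rfl
    omega
  have hcases : e = 1 ∨ e = 2 := by omega
  rcases hcases with rfl | rfl
  · right
    rw [he]
    simp
  · left
    rw [he, pow_succ]

/-- Number theory: `4 ∣ u + 1` and `j ≡ j u (mod 2^k)` force `2^(k-1) ∣ j`. -/
theorem j_dvd {k u j : ℕ} (hk : 1 ≤ k) (hu4 : 4 ∣ u + 1) (h : j ≡ j * u [MOD 2 ^ k]) :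
    2 ^ (k - 1) ∣ j := by
  obtain ⟨m', hm'⟩ := hu4
  obtain ⟨m'', rfl⟩ : ∃ m'', m' = m'' + 1 := ⟨m' - 1, by omega⟩
  have hu' : u = 4 * m'' + 3 := by omega
  have h1 : 2 ^ k ∣ j * u - j := (Nat.modEq_iff_dvd' (by rw [hu']; nlinarith)).mp h
  have h2 : j * u - j = (2 * j) * (2 * m'' + 1) := by
    rw [hu']
    have h0 : j * (4 * m'' + 3) = (2 * j) * (2 * m'' + 1) + j := by ring
    omega
  rw [h2] at h1
  have hcop : Nat.Coprime (2 ^ k) (2 * m'' + 1) := by
    apply Nat.Coprime.pow_left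
    exact (Nat.coprime_two_left.mpr ⟨m'', rfl⟩)
  have h3 : 2 ^ k ∣ 2 * j := hcop.dvd_of_dvd_mul_right h1
  obtain ⟨k', rfl⟩ : ∃ k', k = k' + 1 := ⟨k - 1, by omega⟩
  rw [pow_succ, mul_comm (2 ^ k') 2] at h3
  simpa using Nat.dvd_of_mul_dvd_mul_left (by norm_num) h3

/-- A finite metacyclic 2-group containing `w` of order 4 and `t` with `t w t⁻¹ = w⁻¹`,
`t² ∈ ⟨w⟩` is dihedral, generalized quaternion or quasidihedral. -/
theorem shape_of_meta {G : Type*} [Group G] [Finite G] (hG : IsPGroup 2 G)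
    (hm : Cfsg.IsMetacyclic G) (w t : G) (hw : orderOf w = 4) (hinv : t * w * t⁻¹ = w⁻¹)
    (ht : t ^ 2 ∈ Subgroup.zpowers w) :
    (∃ m : ℕ, Nonempty (G ≃* DihedralGroup m)) ∨ (∃ m : ℕ, Nonempty (G ≃* QuaternionGroup m)) ∨
      Cfsg.IsQuasiDihedral G := by
  obtain ⟨N, hN, hNc, hQc⟩ := hm
  obtain ⟨w', t', hw'N, hw'4, ht'N, ht'2, hinv'⟩ := meta_pick N w t hw hinv ht
  have hp2 : Fact (Nat.Prime 2) := ⟨Nat.prime_two⟩
  obtain ⟨⟨c, hcN⟩, hc⟩ := hNc.exists_generator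
  have hNc' : ∀ x ∈ N, ∃ j : ℕ, x = c ^ j := by
    intro x hx
    have h1 : x ∈ Subgroup.zpowers c := by
      obtain ⟨z, hz⟩ := Subgroup.mem_zpowers_iff.mp (hc ⟨x, hx⟩)
      have h2 := congrArg Subtype.val hz
      rw [Subgroup.coe_zpow] at h2
      exact Subgroup.mem_zpowers_iff.mpr ⟨z, h2⟩
    obtain ⟨j, hj⟩ := (isOfFinOrder_of_finite c).mem_powers_iff_mem_zpowers.mpr h1
    exact ⟨j, hj.symm⟩
  have hNeq : N = Subgroup.zpowers c := by
    apply le_antisymm
    · intro x hx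
      obtain ⟨j, rfl⟩ := hNc' x hx
      exact Subgroup.pow_mem _ (Subgroup.mem_zpowers c) j
    · rw [Subgroup.zpowers_le]; exact hcN
  obtain ⟨k, hk⟩ := (IsPGroup.iff_orderOf.mp hG) c
  have hcardN : Nat.card N = 2 ^ k := by rw [hNeq, Nat.card_zpowers, hk]
  have hk2 : 2 ≤ k := by
    have h1 : orderOf w' ∣ Nat.card N := by
      have := orderOf_dvd_natCard (⟨w', hw'N⟩ : N)
      rwa [Subgroup.orderOf_mk] at this
    rw [hw'4, hcardN] at h1
    by_contra hlt
    have hk' : k = 0 ∨ k = 1 := by omega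
    rcases hk' with rfl | rfl <;> norm_num at h1
  obtain ⟨u₀, hu₀⟩ := hNc' _ (hN.conj_mem c hcN t')
  obtain ⟨u, hu_def⟩ : ∃ u, u = u₀ % 2 ^ k := ⟨_, rfl⟩
  have hu : t' * c * t'⁻¹ = c ^ u := by
    rw [hu₀, hu_def, ← hk, pow_mod_orderOf]
  have hult : u < 2 ^ k := by rw [hu_def]; exact Nat.mod_lt _ (by positivity)
  have hconj : ∀ x ∈ N, t' * x * t'⁻¹ = x ^ u := by
    intro x hx
    obtain ⟨j, rfl⟩ := hNc' x hx
    rw [← conj_pow, hu, ← pow_mul, ← pow_mul, mul_comm]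
  have hu4 : 4 ∣ u + 1 := by
    have h1 := hconj w' hw'N
    rw [hinv'] at h1
    have h2 : w' ^ (u + 1) = 1 := by rw [pow_succ, ← h1]; group
    have := orderOf_dvd_of_pow_eq_one h2
    rwa [hw'4] at this
  have hNcomm : ∀ x ∈ N, ∀ y ∈ N, x * y = y * x := by
    intro x hx y hy
    exact congrArg Subtype.val (mul_comm' (⟨x, hx⟩ : N) ⟨y, hy⟩)
  have huu : u * u ≡ 1 [MOD 2 ^ k] := by
    have h1 : t' ^ 2 * c * (t' ^ 2)⁻¹ = c := by
      rw [hNcomm _ ht'2 c hcN]; group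
    have h2 : t' ^ 2 * c * (t' ^ 2)⁻¹ = c ^ (u * u) := by
      have h0 : t' ^ 2 * c * (t' ^ 2)⁻¹ = t' * (t' * c * t'⁻¹) * t'⁻¹ := by rw [pow_two]; group
      rw [h0, hu, hconj _ (N.pow_mem hcN u), ← pow_mul]
    rw [h1] at h2
    have h3 : c ^ (u * u) = c ^ 1 := by rw [← h2, pow_one]
    rw [pow_eq_pow_iff_modEq, hk] at h3
    exact h3
  have hu_cases := u_cases (by omega : 1 ≤ k) hult hu4 huu
  have hz2 : (c ^ 2 ^ (k - 1)) ^ 2 = 1 := by
    rw [← pow_mul, ← pow_succ, show k - 1 + 1 = k by omega, ← hk]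
    exact pow_orderOf_eq_one c
  have ht'sq : t' ^ 2 = 1 ∨ t' ^ 2 = c ^ 2 ^ (k - 1) := by
    obtain ⟨j, hj⟩ := hNc' _ ht'2
    have h1 : t' * t' ^ 2 * t'⁻¹ = t' ^ 2 := by group
    have h2 := hconj _ ht'2
    rw [h1, hj, ← pow_mul, pow_eq_pow_iff_modEq, hk] at h2
    obtain ⟨e, rfl⟩ := j_dvd (by omega : 1 ≤ k) hu4 h2
    rw [hj, pow_mul]
    rcases Nat.even_or_odd' e with ⟨e', rfl | rfl⟩
    · left
      rw [pow_mul, hz2, one_pow]
    · right
      rw [pow_succ, pow_mul, hz2, one_pow, one_mul]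
  have hidx : N.index = 2 := by
    have hQ : IsPGroup 2 (G ⧸ N) := hG.to_quotient N
    obtain ⟨l, hl⟩ := IsPGroup.iff_card.mp hQ
    have hidx' : N.index = 2 ^ l := by rw [← hl]; rfl
    have hl0 : l ≠ 0 := by
      rintro rfl
      rw [pow_zero] at hidx'
      have h0 := Subgroup.index_eq_one.mp hidx'
      apply ht'N
      rw [h0]
      trivial
    by_contra hne
    have hl2 : 2 ≤ l := by
      by_contra hlt
      have h0 : l = 1 := by omega
      rw [h0] at hidx'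
      exact hne (by simpa using hidx')
    have h4 : 4 ∣ Nat.card (G ⧸ N) := by
      rw [hl]
      exact pow_dvd_pow 2 hl2
    obtain ⟨y, hy⟩ := cyc_sq_of_four_dvd h4 (t' : G ⧸ N)
      (by rw [← QuotientGroup.mk_pow]; exact (QuotientGroup.eq_one_iff _).mpr ht'2)
    obtain ⟨y', rfl⟩ := QuotientGroup.mk_surjective y
    rw [← QuotientGroup.mk_pow] at hy
    have hn : (y' ^ 2)⁻¹ * t' ∈ N := QuotientGroup.eq.mp hy
    obtain ⟨v, hv⟩ := hNc' _ (hN.conj_mem c hcN y')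
    have h1 : t' * c * t'⁻¹ = c ^ (v * v) := by
      have h3 : ((y' ^ 2)⁻¹ * t') * c * ((y' ^ 2)⁻¹ * t')⁻¹ = c := by
        rw [hNcomm _ hn c hcN]; group
      calc t' * c * t'⁻¹
          = y' ^ 2 * (((y' ^ 2)⁻¹ * t') * c * ((y' ^ 2)⁻¹ * t')⁻¹) * (y' ^ 2)⁻¹ := by group
        _ = y' * (y' * c * y'⁻¹) * y'⁻¹ := by rw [h3, pow_two]; group
        _ = c ^ (v * v) := by rw [hv, ← conj_pow, hv, ← pow_mul]
    rw [hu, pow_eq_pow_iff_modEq, hk] at h1
    have h5 : u ≡ v * v [MOD 4] := h1.of_dvd (by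
      have : (4 : ℕ) = 2 ^ 2 := by norm_num
      rw [this]
      exact pow_dvd_pow 2 hk2)
    have h6 : u % 4 = 3 := by omega
    have h7 : (v * v) % 4 = 0 ∨ (v * v) % 4 = 1 := by
      have h8 : v % 4 = 0 ∨ v % 4 = 1 ∨ v % 4 = 2 ∨ v % 4 = 3 := by omega
      rcases h8 with h | h | h | h <;> simp [Nat.mul_mod, h]
    unfold Nat.ModEq at h5
    omega
  have hcard : Nat.card G = 2 * 2 ^ k := by
    rw [← N.card_mul_index, hcardN, hidx, mul_comm]
  have ht'c : t' ∉ Subgroup.zpowers c := by rw [← hNeq]; exact ht'N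
  have hpk : 2 ^ k = 2 * 2 ^ (k - 1) := by
    rw [← pow_succ']
    congr 1
    omega
  rcases hu_cases with hu1 | hu1
  · -- inversion
    have hcinv : t' * c * t'⁻¹ = c⁻¹ := by
      rw [hu]
      apply eq_inv_of_mul_eq_one_left
      rw [← pow_succ, hu1, ← hk]
      exact pow_orderOf_eq_one c
    rcases ht'sq with hsq | hsq
    · left
      exact ⟨2 ^ k, Cfsg.Agent.Lib.Helper12.nonempty_mulEquiv_dihedral (by positivity) c t' hcard
        hk ht'c hsq hcinv⟩
    · right; left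
      refine ⟨2 ^ (k - 1), Cfsg.Agent.Lib.Helper12.nonempty_mulEquiv_quaternion ?_ c t' ?_ ?_ hsq
        hcinv⟩
      · calc 2 = 2 ^ 1 := by norm_num
          _ ≤ 2 ^ (k - 1) := Nat.pow_le_pow_right (by norm_num) (by omega)
      · rw [hcard, hpk]; ring
      · rw [hk, hpk]
  · -- quasidihedral
    right; right
    have hk3 : 3 ≤ k := by
      by_contra hlt
      have hk' : k = 2 := by omega
      rw [hk'] at hu1
      norm_num at hu1
      omega
    have hu' : u = 2 ^ (k - 1) - 1 := by omega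
    have hcard' : Nat.card G = 2 ^ (k + 1) := by rw [hcard, pow_succ']
    rcases ht'sq with hsq | hsq
    · refine ⟨k, hk3, hcard', c, t', hk, ?_, ?_⟩
      · apply orderOf_eq_prime hsq
        rintro rfl
        exact ht'N N.one_mem
      · rw [hu, hu']
    · refine ⟨k, hk3, hcard', c, t' * c, hk, ?_, ?_⟩
      · apply orderOf_eq_prime
        · have h0 : (t' * c) ^ 2 = (t' * c * t'⁻¹) * t' ^ 2 * c := by rw [pow_two, pow_two]; group
          rw [h0, hu, hsq, ← pow_add, ← pow_succ]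
          have h1 : u + 2 ^ (k - 1) + 1 = 2 ^ k := by omega
          rw [h1, ← hk]
          exact pow_orderOf_eq_one c
        · intro h0
          apply ht'N
          have h1 : t' = c⁻¹ := eq_inv_of_mul_eq_one_left h0
          rw [h1]
          exact N.inv_mem hcN
      · have h0 : t' * c * c * (t' * c)⁻¹ = t' * c * t'⁻¹ := by group
        rw [h0, hu, hu']

end Cfsg.Agent.Lib.Helper30
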