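import Mathlib
import Cfsg.Agent.S0215

/-!
# Project RC (helper48, S1157), piece RC-ZS

Fusion of a noncentral involution inside a Sylow 2-subgroup of a simple group, from Glauberman's
Z*-theorem (`Cfsg.Agent.S0215.result`).
-/

set_option autoImplicit false

namespace Cfsg.Agent.Lib.Helper48.RC

-- piece RC-ZS   (from `Cfsg.Agent.S0215.result`, Glauberman's Z*-theorem)
theorem exists_fusion {G : Type*} [Group G] [Finite G] (hs : IsSimpleGroup G) (S : Sylow 2 G)
    (J : G) (hJ : orderOf J = 2) (hJS : J ∈ S) (hnc : ∃ x : G, x * J ≠ J * x) :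
    ∃ g : G, g * J * g⁻¹ ∈ S ∧ g * J * g⁻¹ ≠ J := by
  by_contra hcon
  have hiso : ∀ g : G, g * J * g⁻¹ ∈ S → g * J * g⁻¹ = J := fun g hg =>
    by_contra (fun hne => hcon ⟨g, hg, hne⟩)
  obtain ⟨N, hN, hodd, hcomm⟩ := Cfsg.Agent.S0215.result S J hJ hJS hiso
  rcases hN.eq_bot_or_eq_top with h | h
  · obtain ⟨x, hx⟩ := hnc
    apply hx
    have h1 := hcomm x
    rw [h, Subgroup.mem_bot] at h1
    have h2 : J * x * J⁻¹ = x := mul_inv_eq_one.1 h1
    exact (mul_inv_eq_iff_eq_mul.1 h2).symm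
  · rw [h, Subgroup.card_top] at hodd
    have h2 : 2 ∣ Nat.card G := hJ ▸ orderOf_dvd_natCard J
    exact (Nat.not_even_iff_odd.2 hodd) (even_iff_two_dvd.2 h2)

end Cfsg.Agent.Lib.Helper48.RC
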