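import Mathlib
import Cfsg.Agent.Lib.Helper11.S983Tools
import Cfsg.Agent.Lib.Helper23.Syl
import Cfsg.Agent.Lib.Helper23.Syl2
import Cfsg.Agent.Lib.Helper23.SylInter
import Cfsg.Agent.Lib.Helper23.SimpleGen
import Cfsg.Agent.Lib.Helper76.SylPrime

/-!
# S0983 piece N4200 (helper30 for helper11): no simple group of order 4200
-/

set_option autoImplicit false

namespace Cfsg.Agent.S983

open Cfsg.Agent.Lib.Helper23

theorem ns4200 {G : Type*} [Group G] [Finite G] [IsSimpleGroup G] (h : Nat.card G = 4200) : False := by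
  have hG : ¬ IsMulCommutative G :=
    not_comm_of_simple_of_not_prime (by rw [h]; norm_num)
  have : Fact (Nat.Prime 5) := ⟨by norm_num⟩
  have h1 : Nat.card G = 5 ^ 2 * 168 := h.trans (by norm_num)
  have hm : ¬ 5 ∣ 168 := by norm_num
  have hmem := mem_candsPow hG h (show 4200 = 5 ^ 2 * 168 by norm_num) hm (le_refl 2)
  rw [show candsPow 4200 5 2 = [56] from by decide +kernel] at hmem
  have hn5 : Nat.card (Sylow 5 G) = 56 := by simpa using hmem
  obtain ⟨P⟩ : Nonempty (Sylow 5 G) := inferInstance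
  have hmod : ¬ Nat.card (Sylow 5 G) ≡ 1 [MOD 5 ^ 2] := by rw [hn5]; decide
  obtain ⟨R, hPR, hle⟩ := exists_sylow_pair_large_inter 5 2 hmod P
  have hPc : Nat.card (P : Subgroup G) = 5 ^ 2 := sylow_card_of_eq h1 hm P
  have hRc : Nat.card (R : Subgroup G) = 5 ^ 2 := sylow_card_of_eq h1 hm R
  have hNP := card_normalizer_sylow_mul P
  rw [hn5, h] at hNP
  have hNPc : Nat.card (Subgroup.normalizer ((P : Subgroup G) : Set G)) = 75 := by omega
  have hD := card_inf_mul_index_subgroupOf (P : Subgroup G) (R : Subgroup G)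
  generalize hDdef : ((P : Subgroup G) ⊓ (R : Subgroup G) : Subgroup G) = D at hD
  have hDP : D ≤ (P : Subgroup G) := hDdef ▸ inf_le_left
  have hDR : D ≤ (R : Subgroup G) := hDdef ▸ inf_le_right
  have hDcard : 5 ≤ Nat.card D := by
    rw [hPc] at hD
    norm_num at hle
    nlinarith
  obtain ⟨x, hxD, hx1⟩ : ∃ x ∈ D, x ≠ 1 := by
    by_contra hcon
    have hb : D = ⊥ := by
      rw [Subgroup.eq_bot_iff_forall]
      intro y hy
      by_contra hy1
      exact hcon ⟨y, hy, hy1⟩
    rw [hb, Subgroup.card_bot] at hDcard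
    omega
  have hPcomm : IsMulCommutative (P : Subgroup G) :=
    IsPGroup.isMulCommutative_of_card_eq_prime_sq hPc
  have hRcomm : IsMulCommutative (R : Subgroup G) :=
    IsPGroup.isMulCommutative_of_card_eq_prime_sq hRc
  have hPH : (P : Subgroup G) ≤ Subgroup.centralizer ({x} : Set G) := by
    intro y hy
    rw [Subgroup.mem_centralizer_iff]
    intro z hz
    rw [Set.mem_singleton_iff] at hz
    rw [hz]
    have h2 := hPcomm.is_comm.comm (⟨x, hDP hxD⟩ : (P : Subgroup G)) ⟨y, hy⟩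
    exact congrArg Subtype.val h2
  have hRH : (R : Subgroup G) ≤ Subgroup.centralizer ({x} : Set G) := by
    intro y hy
    rw [Subgroup.mem_centralizer_iff]
    intro z hz
    rw [Set.mem_singleton_iff] at hz
    rw [hz]
    have h2 := hRcomm.is_comm.comm (⟨x, hDR hxD⟩ : (R : Subgroup G)) ⟨y, hy⟩
    exact congrArg Subtype.val h2
  have hHtop : Subgroup.centralizer ({x} : Set G) ≠ ⊤ := simple_centralizer_ne_top hG hx1
  generalize hHdef : Subgroup.centralizer ({x} : Set G) = H at hPH hRH hHtop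
  have hidx : 10 ≤ H.index := by
    have h2 := simple_two_mul_card_dvd_factorial hG H hHtop
    rw [h] at h2
    by_contra hlt
    have hlt' : H.index < 10 := Nat.lt_of_not_le hlt
    interval_cases H.index <;> revert h2 <;> decide
  have hHc := Subgroup.card_mul_index H
  rw [h] at hHc
  have hH420 : Nat.card H ≤ 420 := by nlinarith
  have hHdvd : Nat.card H ∣ 4200 := Dvd.intro _ hHc
  -- the Sylow 5-subgroups inside `H`
  set F : Set (Sylow 5 G) := {Q : Sylow 5 G | (Q : Subgroup G) ≤ H} with hF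
  have hPF : P ∈ F := hPH
  have hRF : R ∈ F := hRH
  have hDF : ∀ d ∈ H, ∀ Q ∈ F, d • Q ∈ F := by
    intro d hd Q hQ
    exact Sylow.smul_le hQ (⟨d, hd⟩ : H)
  have hQD : ∀ Q ∈ F, (Q : Subgroup G) ≤ H := fun Q hQ => hQ
  have hcard := Cfsg.Agent.Lib.Helper76.SylPrime.card_eq_of_orbit P H F hPF hDF hQD
  have hmod1 : F.ncard % 5 = 1 :=
    Cfsg.Agent.Lib.Helper76.SylPrime.ncard_mod_of_mem P F
      (fun y hy δ hδ => hDF y (hPH hy) δ hδ) hPF
  have hF2 : 1 < F.ncard := by
    rw [Set.one_lt_ncard_iff (Set.toFinite F)]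
    exact ⟨P, R, hPF, hRF, hPR⟩
  -- `k = |H ⊓ N(P)|`
  have hk1 : Nat.card (P : Subgroup G) ∣
      Nat.card (H ⊓ Subgroup.normalizer ((P : Subgroup G) : Set G) : Subgroup G) :=
    Subgroup.card_dvd_of_le (le_inf hPH Subgroup.le_normalizer)
  have hk2 : Nat.card (H ⊓ Subgroup.normalizer ((P : Subgroup G) : Set G) : Subgroup G) ∣
      Nat.card (Subgroup.normalizer ((P : Subgroup G) : Set G)) :=
    Subgroup.card_dvd_of_le inf_le_right
  rw [hPc] at hk1
  rw [hNPc] at hk2
  generalize Nat.card (H ⊓ Subgroup.normalizer ((P : Subgroup G) : Set G) : Subgroup G) = k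
    at hcard hk1 hk2
  generalize F.ncard = f at hcard hmod1 hF2
  obtain ⟨a, rfl⟩ := hk1
  have ha : a = 1 ∨ a = 3 := by
    have h3 : a ∣ 3 := by
      have h4 : 5 ^ 2 * a ∣ 5 ^ 2 * 3 := by norm_num at hk2 ⊢; exact hk2
      exact Nat.dvd_of_mul_dvd_mul_left (by norm_num) h4
    have h5 : a ≤ 3 := Nat.le_of_dvd (by norm_num) h3
    interval_cases a <;> simp_all
  have hH150 : Nat.card H = 2 * 75 := by
    rcases ha with rfl | rfl
    · -- k = 25
      rw [hcard] at hH420 hHdvd
      have hf16 : f ≤ 16 := by omega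
      have hf : f = 6 := by
        interval_cases f <;> simp_all
      rw [hcard, hf]
      norm_num
    · rw [hcard] at hH420
      omega
  obtain ⟨K, hKH, hKc, hKodd⟩ := exists_odd_index_two_subgroup H 75 hH150 (by norm_num)
  have hPK : (P : Subgroup G) ≤ K := by
    intro y hy
    refine hKodd y (hPH hy) ⟨25, by decide, ?_⟩
    have h2 : (⟨y, hy⟩ : (P : Subgroup G)) ^ Nat.card (P : Subgroup G) = 1 := pow_card_eq_one'
    rw [hPc] at h2
    exact congrArg Subtype.val h2
  have hRK : (R : Subgroup G) ≤ K := by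
    intro y hy
    refine hKodd y (hRH hy) ⟨25, by decide, ?_⟩
    have h2 : (⟨y, hy⟩ : (R : Subgroup G)) ^ Nat.card (R : Subgroup G) = 1 := pow_card_eq_one'
    rw [hRc] at h2
    exact congrArg Subtype.val h2
  obtain ⟨j, hj1, hj2, hj3, hj4⟩ := card_sylow_subgroup_facts K P R hPK hRK hPR
  rw [hKc, hPc] at hj1
  have hj : j = 3 := by omega
  rw [hj] at hj2
  have h6 : Nat.card (Sylow 5 ↥K) ≤ 3 := Nat.le_of_dvd (by norm_num) hj2
  generalize Nat.card (Sylow 5 ↥K) = n' at hj2 hj3 hj4 h6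
  interval_cases n' <;> omega

end Cfsg.Agent.S983
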