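import Mathlib
import Cfsg.Agent.Lib.Helper4.TPDefs

/-!
# Project TP (S4033), piece IDX

For a Sylow `t`-subgroup `T` (`t ≠ p`) and a noncentral `y ∈ T` with `[T, y] ≤ Z(G)`:
`|T : T ∩ C_G(y)| = t ^ v_t(m)`.
-/

set_option autoImplicit false

namespace Cfsg.Agent.Lib.Helper4.TP

universe u

/-- if `T` normalizes `C` then `|T : T ∩ C|` divides `|G : C|` -/
theorem idx_helper30_dvd {G : Type u} [Group G] [Finite G] (C T : Subgroup G)
    (hTC : T ≤ Subgroup.normalizer (C : Set G)) : C.relIndex T ∣ C.index := by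
  have hCN : C ≤ Subgroup.normalizer (C : Set G) := Subgroup.le_normalizer
  haveI : (C.subgroupOf (Subgroup.normalizer (C : Set G))).Normal :=
    Subgroup.normal_in_normalizer
  have h1 : (C.subgroupOf (Subgroup.normalizer (C : Set G))).relIndex
      (T.subgroupOf (Subgroup.normalizer (C : Set G))) = C.relIndex T :=
    Subgroup.relIndex_subgroupOf hTC
  have h2 := Subgroup.relIndex_dvd_index_of_normal
    (C.subgroupOf (Subgroup.normalizer (C : Set G)))
    (T.subgroupOf (Subgroup.normalizer (C : Set G)))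
  rw [h1] at h2
  have h3 : C.relIndex (Subgroup.normalizer (C : Set G)) *
      (Subgroup.normalizer (C : Set G)).index = C.index := Subgroup.relIndex_mul_index hCN
  rw [← h3]
  exact h2.trans (Dvd.intro _ rfl)

/-- a Sylow subgroup normalizing `C` meets `C` in a Sylow subgroup: index form -/
theorem idx_helper30_sylow {G : Type u} [Group G] [Finite G] (t : ℕ) (ht : t.Prime)
    (T : Sylow t G) (C : Subgroup G)
    (hTC : (T : Subgroup G) ≤ Subgroup.normalizer (C : Set G)) :
    C.relIndex (T : Subgroup G) = t ^ (C.index).factorization t := by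
  haveI : Fact t.Prime := ⟨ht⟩
  have hdvd := idx_helper30_dvd C (T : Subgroup G) hTC
  have hT : Nat.card (T : Subgroup G) = t ^ (Nat.card G).factorization t :=
    Sylow.card_eq_multiplicity T
  have hG : Nat.card C * C.index = Nat.card G := Subgroup.card_mul_index C
  have hCpos : Nat.card C ≠ 0 := Nat.card_pos.ne'
  have hIpos : C.index ≠ 0 := by
    intro h0; rw [h0, mul_zero] at hG; exact (Nat.card_pos (α := G)).ne' hG.symm
  have hfac : (Nat.card G).factorization t =
      (Nat.card C).factorization t + (C.index).factorization t := by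
    rw [← hG, Nat.factorization_mul hCpos hIpos]; rfl
  have h4 : C.relIndex (T : Subgroup G) * Nat.card ((T : Subgroup G) ⊓ C : Subgroup G) =
      Nat.card (T : Subgroup G) := by
    rw [← Subgroup.inf_relIndex_left, ← Subgroup.relIndex_bot_left, mul_comm,
      ← Subgroup.relIndex_bot_left]
    exact Subgroup.relIndex_mul_relIndex ⊥ ((T : Subgroup G) ⊓ C) (T : Subgroup G) bot_le
      inf_le_left
  -- both factors are powers of `t`
  have hr : C.relIndex (T : Subgroup G) ∣ t ^ (Nat.card G).factorization t := by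
    rw [← hT, ← h4]; exact Dvd.intro _ rfl
  have hi : Nat.card ((T : Subgroup G) ⊓ C : Subgroup G) ∣ t ^ (Nat.card G).factorization t := by
    rw [← hT, ← h4]; exact Dvd.intro_left _ rfl
  obtain ⟨b, hb, hrb⟩ := (Nat.dvd_prime_pow ht).1 hr
  obtain ⟨a, ha, hia⟩ := (Nat.dvd_prime_pow ht).1 hi
  have hb' : b ≤ (C.index).factorization t := by
    rw [hrb] at hdvd
    exact (ht.pow_dvd_iff_le_factorization hIpos).1 hdvd
  have ha' : a ≤ (Nat.card C).factorization t := by
    have : Nat.card ((T : Subgroup G) ⊓ C : Subgroup G) ∣ Nat.card C :=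
      Subgroup.card_dvd_of_le inf_le_right
    rw [hia] at this
    exact (ht.pow_dvd_iff_le_factorization hCpos).1 this
  have hsum : b + a = (Nat.card G).factorization t := by
    have : t ^ (b + a) = t ^ (Nat.card G).factorization t := by
      rw [pow_add, ← hrb, ← hia, h4, hT]
    exact Nat.pow_right_injective ht.two_le this
  rw [hrb]
  congr 1
  omega

theorem idx : IdxStmt.{u} := by
  intro G _ _ p m t hp hH ht htp T y hyT hyZ hcomm
  haveI : Fact t.Prime := ⟨ht⟩
  -- `y` is `p`-regular
  have hreg : PReg p y := by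
    obtain ⟨k, hk⟩ := T.isPGroup' ⟨y, hyT⟩
    have hk' : y ^ t ^ k = 1 := by
      have := congrArg (Subtype.val) hk
      simpa using this
    have hdvd : orderOf y ∣ t ^ k := orderOf_dvd_of_pow_eq_one hk'
    obtain ⟨j, -, hj⟩ := (Nat.dvd_prime_pow ht).1 hdvd
    unfold PReg
    rw [hj]
    exact Nat.Coprime.pow_left _ ((Nat.coprime_primes ht hp).2 htp)
  have hidx : (Cen y).index = m := hH.2.2 y ⟨hreg, hyZ⟩
  -- `T` normalizes `Cen y`
  have hmem : ∀ c : G, c ∈ Cen y ↔ y * c = c * y := by
    intro c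
    simp [Cen, Subgroup.mem_centralizer_iff]
  have key : ∀ g ∈ (T : Subgroup G), ∀ c ∈ Cen y, g⁻¹ * c * g ∈ Cen y := by
    intro g hg c hc
    rw [hmem] at hc ⊢
    have hz := hcomm g hg
    rw [Subgroup.mem_center_iff] at hz
    have hzc := hz c
    have h1 : y * g⁻¹ = g⁻¹ * (g * y * g⁻¹ * y⁻¹) * y := by group
    have h2 : (g * y * g⁻¹ * y⁻¹) * y * g = g * y := by group
    calc y * (g⁻¹ * c * g) = (y * g⁻¹) * c * g := by group
      _ = g⁻¹ * (g * y * g⁻¹ * y⁻¹) * y * c * g := by rw [h1]
      _ = g⁻¹ * (g * y * g⁻¹ * y⁻¹) * (y * c) * g := by simp only [mul_assoc]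
      _ = g⁻¹ * (g * y * g⁻¹ * y⁻¹) * (c * y) * g := by rw [hc]
      _ = g⁻¹ * ((g * y * g⁻¹ * y⁻¹) * c) * y * g := by simp only [mul_assoc]
      _ = g⁻¹ * (c * (g * y * g⁻¹ * y⁻¹)) * y * g := by rw [hzc]
      _ = g⁻¹ * c * ((g * y * g⁻¹ * y⁻¹) * y * g) := by simp only [mul_assoc]
      _ = g⁻¹ * c * (g * y) := by rw [h2]
      _ = g⁻¹ * c * g * y := by simp only [mul_assoc]
  have hnorm : (T : Subgroup G) ≤ Subgroup.normalizer ((Cen y : Subgroup G) : Set G) := by
    intro g hg
    rw [Subgroup.mem_normalizer_iff]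
    intro c
    constructor
    · intro hc
      have := key g⁻¹ (inv_mem hg) c hc
      simpa using this
    · intro hc
      have := key g hg _ hc
      have e : g⁻¹ * (g * c * g⁻¹) * g = c := by group
      rwa [e] at this
  have := idx_helper30_sylow t ht T (Cen y) hnorm
  rw [this, hidx]

end Cfsg.Agent.Lib.Helper4.TP
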