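import Mathlib
import Cfsg.Agent.Lib.Helper4.TPDefs

/-!
# Project TP (S4033), piece N4C

A group `K` of automorphisms of a finite abelian group `A` in which all nonidentity elements have
the same fixed points, and which moves an `s`-element and a `t`-element (`s ≠ t`), has at most one
involution.
-/

set_option autoImplicit false

namespace Cfsg.Agent.Lib.Helper4.TP

universe u

/-- `k` fixes the `i`-fixed points and moves every element by an `i`-fixed element -/
def n4c_helper30_S {A : Type u} [CommGroup A] (i k : MulAut A) : Prop :=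
  (∀ v : A, i v = v → k v = v) ∧ ∀ a : A, i (k a * a⁻¹) = k a * a⁻¹

theorem n4c_helper30_S_one {A : Type u} [CommGroup A] (i : MulAut A) : n4c_helper30_S i 1 := by
  refine ⟨fun v _ => rfl, fun a => ?_⟩
  simp

theorem n4c_helper30_S_mul {A : Type u} [CommGroup A] (i k k' : MulAut A)
    (h : n4c_helper30_S i k) (h' : n4c_helper30_S i k') : n4c_helper30_S i (k * k') := by
  refine ⟨fun v hv => ?_, fun a => ?_⟩
  · rw [MulAut.mul_apply, h'.1 v hv, h.1 v hv]
  · have hf := h'.2 a
    have hkf := h.1 _ hf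
    have e1 : k' a = (k' a * a⁻¹) * a := by rw [inv_mul_cancel_right]
    have e : (k * k') a * a⁻¹ = (k' a * a⁻¹) * (k a * a⁻¹) := by
      calc (k * k') a * a⁻¹ = k (k' a) * a⁻¹ := by rw [MulAut.mul_apply]
        _ = k ((k' a * a⁻¹) * a) * a⁻¹ := by rw [← e1]
        _ = (k' a * a⁻¹) * k a * a⁻¹ := by rw [map_mul, hkf]
        _ = (k' a * a⁻¹) * (k a * a⁻¹) := mul_assoc _ _ _
    rw [e, map_mul, hf, h.2 a]

theorem n4c_helper30_S_pow {A : Type u} [CommGroup A] (i k : MulAut A)
    (h : n4c_helper30_S i k) (n : ℕ) : n4c_helper30_S i (k ^ n) := by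
  induction n with
  | zero => rw [pow_zero]; exact n4c_helper30_S_one i
  | succ n ih => rw [pow_succ]; exact n4c_helper30_S_mul i _ _ ih h

theorem n4c_helper30_core {A : Type u} [CommGroup A] [Finite A] (K : Subgroup (MulAut A))
    (hSF : SameFix K) (i g : MulAut A) (hg : g ∈ K) (hg1 : g ≠ 1) (l : ℕ) (hl : l.Prime)
    (hgl : g ^ l = 1) (hS : n4c_helper30_S i g) (s : ℕ) (hs : s.Prime) (hls : l ≠ s)
    (hM : Moves K s) : False := by
  obtain ⟨k, hk, a, ⟨e, he⟩, hka⟩ := hM
  have hk1 : k ≠ 1 := by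
    rintro rfl
    exact hka (MulAut.one_apply A a)
  have hiff := hSF k g hk hg hk1 hg1 a
  apply hka
  rw [hiff]
  -- show `g a = a`
  have hif : i (g a * a⁻¹) = g a * a⁻¹ := hS.2 a
  have hgf : g (g a * a⁻¹) = g a * a⁻¹ := hS.1 _ hif
  have hga : g a = a * (g a * a⁻¹) := by rw [mul_comm, inv_mul_cancel_right]
  have hpow : ∀ n : ℕ, (g ^ n) a = a * (g a * a⁻¹) ^ n := by
    intro n
    induction n with
    | zero => simp
    | succ n ih =>
      have hfix : (g ^ n) (g a * a⁻¹) = g a * a⁻¹ := (n4c_helper30_S_pow i g hS n).1 _ hif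
      calc (g ^ (n + 1)) a = (g ^ n) (g a) := by rw [pow_succ, MulAut.mul_apply]
        _ = (g ^ n) (a * (g a * a⁻¹)) := by rw [← hga]
        _ = a * (g a * a⁻¹) ^ n * (g a * a⁻¹) := by rw [map_mul, ih, hfix]
        _ = a * (g a * a⁻¹) ^ (n + 1) := by rw [pow_succ, mul_assoc]
  have hfl : (g a * a⁻¹) ^ l = 1 := by
    have h := hpow l
    rw [hgl, MulAut.one_apply] at h
    exact mul_left_cancel (a := a) (by rw [mul_one]; exact h.symm)
  have hfs : (g a * a⁻¹) ^ (s ^ e) = 1 := by
    have ha : a ^ (s ^ e) = 1 := by rw [← he]; exact pow_orderOf_eq_one a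
    rw [mul_pow, ← map_pow, inv_pow, ha, map_one, inv_one, mul_one]
  have hcop : l.Coprime (s ^ e) := Nat.Coprime.pow_right e ((Nat.coprime_primes hl hs).2 hls)
  have ho : orderOf (g a * a⁻¹) = 1 :=
    Nat.eq_one_of_dvd_coprimes hcop (orderOf_dvd_of_pow_eq_one hfl)
      (orderOf_dvd_of_pow_eq_one hfs)
  have hf1 : g a * a⁻¹ = 1 := orderOf_eq_one_iff.1 ho
  rw [hga, hf1, mul_one]

theorem n4c : N4CStmt.{u} := by
  intro A _ _ K s t hs ht hst hSF hMs hMt i hi j hj hoi hoj
  by_contra hij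
  have hi1 : i ≠ 1 := by
    rintro rfl
    rw [orderOf_one] at hoi
    exact absurd hoi (by norm_num)
  have hj1 : j ≠ 1 := by
    rintro rfl
    rw [orderOf_one] at hoj
    exact absurd hoj (by norm_num)
  have hi2 : i * i = 1 := by rw [← pow_two, ← hoi]; exact pow_orderOf_eq_one i
  have hj2 : j * j = 1 := by rw [← pow_two, ← hoj]; exact pow_orderOf_eq_one j
  have hii : ∀ a, i (i a) = a := fun a => by rw [← MulAut.mul_apply, hi2, MulAut.one_apply]
  have hjj : ∀ a, j (j a) = a := fun a => by rw [← MulAut.mul_apply, hj2, MulAut.one_apply]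
  have hgK : i * j ∈ K := mul_mem hi hj
  have hg1 : i * j ≠ 1 := by
    intro h
    apply hij
    have h1 : i = j⁻¹ := eq_inv_of_mul_eq_one_left h
    rw [h1]
    exact inv_eq_of_mul_eq_one_left hj2
  have hS : n4c_helper30_S i (i * j) := by
    refine ⟨fun v hv => ?_, fun a => ?_⟩
    · have hjv : j v = v := (hSF i j hi hj hi1 hj1 v).1 hv
      rw [MulAut.mul_apply, hjv, hv]
    · have h1 : j (j a * a) = j a * a := by rw [map_mul, hjj, mul_comm]
      have h2 : i (j a * a) = j a * a := (hSF i j hi hj hi1 hj1 _).2 h1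
      rw [map_mul] at h2
      rw [MulAut.mul_apply, map_mul, hii, map_inv]
      calc j a * (i a)⁻¹ = (j a * a) * a⁻¹ * (i a)⁻¹ := by rw [mul_inv_cancel_right]
        _ = (i (j a) * i a) * a⁻¹ * (i a)⁻¹ := by rw [h2]
        _ = i (j a) * a⁻¹ := by rw [mul_right_comm, mul_inv_cancel_right]
  have ho0 : orderOf (i * j) ≠ 0 := (orderOf_pos (i * j)).ne'
  have ho1 : orderOf (i * j) ≠ 1 := fun h => hg1 (orderOf_eq_one_iff.1 h)
  have hlp : (orderOf (i * j)).minFac.Prime := Nat.minFac_prime ho1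
  have hld : (orderOf (i * j)).minFac ∣ orderOf (i * j) := Nat.minFac_dvd _
  have hog' : orderOf ((i * j) ^ (orderOf (i * j) / (orderOf (i * j)).minFac)) =
      (orderOf (i * j)).minFac := orderOf_pow_orderOf_div ho0 hld
  have hg'1 : (i * j) ^ (orderOf (i * j) / (orderOf (i * j)).minFac) ≠ 1 := by
    intro h
    rw [h, orderOf_one] at hog'
    exact hlp.one_lt.ne' hog'.symm
  have hg'l : ((i * j) ^ (orderOf (i * j) / (orderOf (i * j)).minFac)) ^
      (orderOf (i * j)).minFac = 1 := by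
    have h := pow_orderOf_eq_one ((i * j) ^ (orderOf (i * j) / (orderOf (i * j)).minFac))
    rwa [hog'] at h
  have hS' := n4c_helper30_S_pow i (i * j) hS (orderOf (i * j) / (orderOf (i * j)).minFac)
  have hg'K : (i * j) ^ (orderOf (i * j) / (orderOf (i * j)).minFac) ∈ K := pow_mem hgK _
  by_cases hls : (orderOf (i * j)).minFac = s
  · exact n4c_helper30_core K hSF i _ hg'K hg'1 _ hlp hg'l hS' t ht (by rw [hls]; exact hst) hMt
  · exact n4c_helper30_core K hSF i _ hg'K hg'1 _ hlp hg'l hS' s hs hls hMs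

end Cfsg.Agent.Lib.Helper4.TP
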