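import Mathlib
import Cfsg.Agent.Lib.Helper87.TransferCount

set_option autoImplicit false

/-!
Fixed-point formulas for the transfer: when the orbits of `g` of length `> 1` on `G ⧸ H`
contribute trivially, the transfer of `g` is the product of the labels `ϕ (y⁻¹ g y)` over the
cosets `y` fixed by `g`; and the product of these labels over an orbit of a subgroup `L ∋ g`
is a transfer inside `L`.
-/

namespace Cfsg.Agent.Lib.Helper30

open MulAction Cfsg.Agent.Lib.Helper87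

section

variable {G : Type*} [Group G] {A : Type*} [CommGroup A] (H : Subgroup G) (ϕ : H →* A)

theorem dite_mem_congr {x x' : G} (e : x = x') :
    (open Classical in if h : x ∈ H then ϕ ⟨x, h⟩ else 1) =
      (open Classical in if h : x' ∈ H then ϕ ⟨x', h⟩ else 1) := by
  subst e; rfl

theorem lbl_of_mem (g : G) (k : ℕ) (a : G) (h : a⁻¹ * g ^ k * a ∈ H) :
    lbl H ϕ g k (a : G ⧸ H) = ϕ ⟨_, h⟩ := by
  rw [lbl_mk, dif_pos h]

theorem lbl_of_not_mem (g : G) (k : ℕ) (a : G) (h : a⁻¹ * g ^ k * a ∉ H) :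
    lbl H ϕ g k (a : G ⧸ H) = 1 := by
  rw [lbl_mk, dif_neg h]

theorem lbl_eq_one_of_not_fixed (g : G) (k : ℕ) (y : G ⧸ H) (h : g ^ k • y ≠ y) :
    lbl H ϕ g k y = 1 := by
  induction y using QuotientGroup.induction_on with
  | H a =>
    apply lbl_of_not_mem
    intro h'
    exact h ((pow_smul_mk_eq_iff H g k a).mpr h')

/-- the label of a translated coset -/
theorem lbl_smul (g a : G) (k : ℕ) (y : G ⧸ H) :
    lbl H ϕ g k (a • y) = lbl H ϕ (a⁻¹ * g * a) k y := by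
  induction y using QuotientGroup.induction_on with
  | H b =>
    have h1 : a • (b : G ⧸ H) = ((a * b : G) : G ⧸ H) := rfl
    rw [h1, lbl_mk, lbl_mk]
    apply dite_mem_congr
    have e : (a⁻¹ * g * a) ^ k = a⁻¹ * g ^ k * a := by
      have := conj_pow (a := a⁻¹) (b := g) (i := k)
      simpa using this
    rw [e]
    group

/-- **Fixed-point formula**: if the orbits of `g` of length `≠ 1` have trivial label, the transfer
of `g` is the product of the labels of the fixed cosets. -/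
theorem transfer_eq_prod_lbl_one [H.FiniteIndex] [Fintype (G ⧸ H)] (g : G)
    (hvan : ∀ y : G ⧸ H, per H g y ≠ 1 → lbl H ϕ g (per H g y) y = 1) :
    MonoidHom.transfer ϕ g = ∏ y : G ⧸ H, lbl H ϕ g 1 y := by
  classical
  let _ : Fintype (Quotient (orbitRel (Subgroup.zpowers g) (G ⧸ H))) := Fintype.ofFinite _
  rw [MonoidHom.transfer_eq_prod_quotient_orbitRel_zpowers_quot]
  have h1 : ∀ q : Quotient (orbitRel (Subgroup.zpowers g) (G ⧸ H)),
      ϕ ⟨q.out.out⁻¹ * g ^ Function.minimalPeriod (g • ·) q.out * q.out.out,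
        QuotientGroup.out_conj_pow_minimalPeriod_mem H g q.out⟩ =
      lbl H ϕ g (per H g q.out) q.out := by
    intro q
    unfold lbl
    rw [dif_pos]
    rfl
  simp_rw [h1]
  rw [← Finset.prod_fiberwise (Finset.univ : Finset (G ⧸ H))
    (fun y => (Quotient.mk (orbitRel (Subgroup.zpowers g) (G ⧸ H)) y))
    (fun y => lbl H ϕ g 1 y)]
  apply Finset.prod_congr rfl
  intro q _
  by_cases hq : per H g q.out = 1
  · rw [hq]
    symm
    have hfix : g • q.out = q.out := by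
      have := (per_dvd_iff H g q.out 1).mp (by rw [hq])
      simpa using this
    apply Finset.prod_eq_single_of_mem q.out
    · rw [Finset.mem_filter]
      exact ⟨Finset.mem_univ _, Quotient.out_eq q⟩
    · intro y hy hne
      exfalso
      apply hne
      rw [Finset.mem_filter] at hy
      have h2 : y ∈ orbit (Subgroup.zpowers g) q.out := by
        have h3 : (Quotient.mk (orbitRel (Subgroup.zpowers g) (G ⧸ H)) y) =
            Quotient.mk (orbitRel (Subgroup.zpowers g) (G ⧸ H)) q.out := by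
          rw [hy.2]; exact (Quotient.out_eq q).symm
        exact Quotient.exact h3
      obtain ⟨⟨c, hc⟩, hcy⟩ := h2
      obtain ⟨i, rfl⟩ := Subgroup.mem_zpowers_iff.mp hc
      rw [← hcy]
      show g ^ i • q.out = q.out
      exact zpow_smul_eq_iff_minimalPeriod_dvd.mpr (by
        have : Function.minimalPeriod (g • ·) q.out = 1 := hq
        rw [this]; simp)
  · rw [hvan _ hq]
    symm
    apply Finset.prod_eq_one
    intro y hy
    rw [Finset.mem_filter] at hy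
    apply lbl_eq_one_of_not_fixed
    intro hfix
    apply hq
    have h4 : per H g q.out = per H g y := by
      rw [← hy.2]; exact per_out H g y
    rw [h4]
    exact Nat.dvd_one.mp ((per_dvd_iff H g y 1).mpr hfix)

end

section orbit

variable {G : Type*} [Group G] {A : Type*} [CommGroup A] (H : Subgroup G) (ϕ : H →* A)
  (L : Subgroup G) (x₀ : G)

theorem mem_stabilizer_mk_iff (l : ↥L) :
    l ∈ stabilizer ↥L (x₀ : G ⧸ H) ↔ x₀⁻¹ * (l : G) * x₀ ∈ H := by
  rw [mem_stabilizer_iff]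
  have h1 : l • (x₀ : G ⧸ H) = (((l : G) * x₀ : G) : G ⧸ H) := rfl
  rw [h1, eq_comm, QuotientGroup.eq]
  simp [mul_assoc]

/-- The conjugation map from the stabilizer in `L` of the coset `x₀ H` to `H`. -/
def stabHom : ↥(stabilizer ↥L (x₀ : G ⧸ H)) →* H where
  toFun l := ⟨x₀⁻¹ * ((l : ↥L) : G) * x₀, (mem_stabilizer_mk_iff H L x₀ l).mp l.2⟩
  map_one' := by
    apply Subtype.ext
    simp
  map_mul' := by
    intro a b
    apply Subtype.ext
    simp only [Subgroup.coe_mul]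
    group

theorem stabHom_coe (l : ↥(stabilizer ↥L (x₀ : G ⧸ H))) :
    ((stabHom H L x₀ l : H) : G) = x₀⁻¹ * ((l : ↥L) : G) * x₀ := rfl

theorem conj_stab_coe (g : G) (hg : g ∈ L) (k : ℕ) (l : ↥L) :
    x₀⁻¹ * ((l⁻¹ * (⟨g, hg⟩ : ↥L) ^ k * l : ↥L) : G) * x₀ =
      ((l : G) * x₀)⁻¹ * g ^ k * ((l : G) * x₀) := by
  simp only [Subgroup.coe_mul, Subgroup.coe_inv, Subgroup.coe_pow]
  group

theorem lbl_stab (g : G) (hg : g ∈ L) (k : ℕ) (l : ↥L) :
    lbl (stabilizer ↥L (x₀ : G ⧸ H)) (ϕ.comp (stabHom H L x₀)) ⟨g, hg⟩ k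
        (l : ↥L ⧸ stabilizer ↥L (x₀ : G ⧸ H)) =
      lbl H ϕ g k (((l : G) * x₀ : G) : G ⧸ H) := by
  by_cases h : ((l : G) * x₀)⁻¹ * g ^ k * ((l : G) * x₀) ∈ H
  · have h' : l⁻¹ * (⟨g, hg⟩ : ↥L) ^ k * l ∈ stabilizer ↥L (x₀ : G ⧸ H) := by
      rw [mem_stabilizer_mk_iff, conj_stab_coe]
      exact h
    rw [lbl_of_mem _ _ _ _ _ h', lbl_of_mem _ _ _ _ _ h]
    show ϕ (stabHom H L x₀ ⟨_, h'⟩) = ϕ ⟨_, h⟩
    congr 1
    apply Subtype.ext
    rw [stabHom_coe]
    exact conj_stab_coe L x₀ g hg k l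
  · have h' : l⁻¹ * (⟨g, hg⟩ : ↥L) ^ k * l ∉ stabilizer ↥L (x₀ : G ⧸ H) := by
      rw [mem_stabilizer_mk_iff, conj_stab_coe]
      exact h
    rw [lbl_of_not_mem _ _ _ _ _ h', lbl_of_not_mem _ _ _ _ _ h]

theorem per_stab (g : G) (hg : g ∈ L) (l : ↥L) :
    per (stabilizer ↥L (x₀ : G ⧸ H)) (⟨g, hg⟩ : ↥L) (l : ↥L ⧸ stabilizer ↥L (x₀ : G ⧸ H)) =
      per H g (((l : G) * x₀ : G) : G ⧸ H) := by
  have key : ∀ k : ℕ, per (stabilizer ↥L (x₀ : G ⧸ H)) (⟨g, hg⟩ : ↥L)
      (l : ↥L ⧸ stabilizer ↥L (x₀ : G ⧸ H)) ∣ k ↔ per H g (((l : G) * x₀ : G) : G ⧸ H) ∣ k := by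
    intro k
    rw [per_dvd_iff, per_dvd_iff, pow_smul_mk_eq_iff, pow_smul_mk_eq_iff, mem_stabilizer_mk_iff,
      conj_stab_coe]
  exact Nat.dvd_antisymm ((key _).mpr dvd_rfl) ((key _).mp dvd_rfl)

theorem prod_orbit_lbl [Fintype (G ⧸ H)] [Fintype (↥L ⧸ stabilizer ↥L (x₀ : G ⧸ H))]
    (g : G) (hg : g ∈ L) (k : ℕ) :
    (open Classical in ∏ y ∈ Finset.univ.filter (fun y : G ⧸ H => y ∈ orbit ↥L (x₀ : G ⧸ H)),
        lbl H ϕ g k y) =
      ∏ q : ↥L ⧸ stabilizer ↥L (x₀ : G ⧸ H),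
        lbl (stabilizer ↥L (x₀ : G ⧸ H)) (ϕ.comp (stabHom H L x₀)) ⟨g, hg⟩ k q := by
  classical
  let _ : Fintype (orbit ↥L (x₀ : G ⧸ H)) := Fintype.ofFinite _
  rw [Finset.prod_subtype (Finset.univ.filter (fun y : G ⧸ H => y ∈ orbit ↥L (x₀ : G ⧸ H)))
    (p := fun y => y ∈ orbit ↥L (x₀ : G ⧸ H)) (by simp) (fun y => lbl H ϕ g k y)]
  rw [← (orbitEquivQuotientStabilizer ↥L (x₀ : G ⧸ H)).symm.prod_comp]
  apply Finset.prod_congr rfl
  intro q _
  induction q using QuotientGroup.induction_on with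
  | H l =>
    rw [lbl_stab]
    congr 1

/-- the product of the fixed-point labels over an `L`-orbit is a transfer inside `L`, if the
orbits of `g` of length `≠ 1` inside this `L`-orbit have trivial label -/
theorem prod_orbit_eq_transfer [Finite G] [Fintype (G ⧸ H)] (g : G) (hg : g ∈ L)
    (hvan : ∀ l : ↥L, per H g (((l : G) * x₀ : G) : G ⧸ H) ≠ 1 →
      lbl H ϕ g (per H g (((l : G) * x₀ : G) : G ⧸ H)) (((l : G) * x₀ : G) : G ⧸ H) = 1) :
    (open Classical in ∏ y ∈ Finset.univ.filter (fun y : G ⧸ H => y ∈ orbit ↥L (x₀ : G ⧸ H)),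
        lbl H ϕ g 1 y) =
      MonoidHom.transfer (ϕ.comp (stabHom H L x₀)) (⟨g, hg⟩ : ↥L) := by
  classical
  let _ : Fintype (↥L ⧸ stabilizer ↥L (x₀ : G ⧸ H)) := Fintype.ofFinite _
  rw [prod_orbit_lbl H ϕ L x₀ g hg 1]
  symm
  apply transfer_eq_prod_lbl_one
  intro y
  induction y using QuotientGroup.induction_on with
  | H l =>
    rw [per_stab, lbl_stab]
    exact hvan l

end orbit

end Cfsg.Agent.Lib.Helper30
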