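import Cfsg.Agent.Lib.Helper30.CommBinom
import Cfsg.Agent.Lib.Helper88.FratA
import Cfsg.Agent.Lib.Helper72.Frattini
import Cfsg.Agent.Lib.Helper69.MaxCent

set_option autoImplicit false

/-!
A finite `p`-group `Q` with a subgroup `Q₀` of index `p`, an element `z` and `u ∈ Q₀` such that
the iterated commutator `[u, z; p-1]` is not in `Φ(Q₀)` has `Z_p ≀ Z_p` (a Sylow `p`-subgroup of
the symmetric group of degree `p²`) as a homomorphic image.
-/

namespace Cfsg.Agent.Lib.Helper30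

open Cfsg.Agent.Lib.Helper88

section WreathImage

/-- an element outside the Frattini subgroup of a finite `p`-group survives in some quotient of
order `p` -/
theorem exists_hom_zmod_ne_one_of_not_mem_frattini {X : Type*} [Group X] [Finite X] {p : ℕ}
    [hp : Fact p.Prime] (hX : IsPGroup p X) {x : X} (hx : x ∉ frattini X) :
    ∃ ψ : X →* Multiplicative (ZMod p), ψ x ≠ 1 := by
  rw [Cfsg.Agent.Lib.Helper72.mem_frattini_iff] at hx
  simp only [not_forall] at hx
  obtain ⟨M, hM, hxM⟩ := hx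
  haveI : Group.IsNilpotent X := hX.isNilpotent
  haveI hMn : M.Normal :=
    Subgroup.NormalizerCondition.normal_of_coatom M Group.normalizerCondition_of_isNilpotent hM
  have hprime := Cfsg.Agent.Lib.Helper69.MaxCent.card_quotient_prime_of_coatom M hM
  have hq : Nat.card (X ⧸ M) = p := by
    obtain ⟨n, hn⟩ := IsPGroup.iff_card.mp (hX.to_quotient M)
    rw [hn] at hprime ⊢
    rcases n with _ | n
    · rw [pow_zero] at hprime
      exact absurd hprime Nat.not_prime_one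
    · have h1 : p ∣ p ^ (n + 1) := dvd_pow_self p (Nat.succ_ne_zero n)
      exact ((Nat.prime_dvd_prime_iff_eq hp.out hprime).mp h1).symm
  let e : X ⧸ M ≃* Multiplicative (ZMod p) := mulEquivOfPrimeCardEq hq (card_mult_zmod p)
  refine ⟨e.toMonoidHom.comp (QuotientGroup.mk' M), fun h => hxM ?_⟩
  have h1 : e (QuotientGroup.mk' M x) = 1 := h
  have h2 : QuotientGroup.mk' M x = 1 := (MulEquiv.map_eq_one_iff e).mp h1
  exact (QuotientGroup.eq_one_iff x).1 h2

theorem padicValNat_factorial_sq (p : ℕ) [Fact p.Prime] :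
    padicValNat p (Nat.factorial (p ^ 2)) = p + 1 := by
  have h1 := padicValNat_factorial_mul (p := p) p
  have h2 := padicValNat_factorial_mul (p := p) 1
  rw [mul_one] at h2
  rw [pow_two, h1, h2]
  simp [add_comm]

variable {Q : Type*} [Group Q] [Finite Q] {p : ℕ} [hp : Fact p.Prime]

theorem exists_wreath_image (hQ : IsPGroup p Q) (Q₀ : Subgroup Q) (hidx : Q₀.index = p) (z u : Q)
    (hu : u ∈ Q₀)
    (helt : ∀ h : (fun y : Q => y⁻¹ * z⁻¹ * y * z)^[p - 1] u ∈ Q₀,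
      (⟨_, h⟩ : ↥Q₀) ∉ frattini ↥Q₀) :
    ∃ (P : Sylow p (Equiv.Perm (Fin (p ^ 2))))
      (f : Q →* ↥(P : Subgroup (Equiv.Perm (Fin (p ^ 2))))), Function.Surjective f := by
  classical
  have hp2 : 2 ≤ p := hp.out.two_le
  obtain ⟨n, hn⟩ := IsPGroup.iff_card.mp hQ
  have hn0 : n ≠ 0 := by
    rintro rfl
    have h1 : Q₀.index ∣ Nat.card Q := Subgroup.index_dvd_card Q₀
    rw [hn, pow_zero, hidx] at h1
    exact hp.out.one_lt.ne' (Nat.dvd_one.mp h1)
  haveI hQ₀n : Q₀.Normal := by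
    apply Subgroup.normal_of_index_eq_minFac_card
    rw [hidx, hn, Nat.Prime.pow_minFac hp.out hn0]
  have hzp : z ^ p ∈ Q₀ := by
    have h1 : ((z : Q ⧸ Q₀)) ^ p = 1 := by
      have := pow_card_eq_one' (G := Q ⧸ Q₀) (x := (z : Q ⧸ Q₀))
      rwa [← Subgroup.index_eq_card, hidx] at this
    rw [← QuotientGroup.mk_pow] at h1
    exact (QuotientGroup.eq_one_iff _).1 h1
  set T : Q → Q := fun y => y⁻¹ * z⁻¹ * y * z with hT
  have hcj : ∀ y ∈ Q₀, z⁻¹ * y * z ∈ Q₀ := by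
    intro y hy
    have := hQ₀n.conj_mem y hy z⁻¹
    simpa using this
  have hcji : ∀ (i : ℕ), ∀ y ∈ Q₀, (z ^ i)⁻¹ * y * z ^ i ∈ Q₀ := by
    intro i y hy
    have := hQ₀n.conj_mem y hy (z ^ i)⁻¹
    simpa using this
  have hTe : ∀ y : Q, T y = y⁻¹ * (z⁻¹ * y * z) := fun y => by simp [hT, mul_assoc]
  have hTQ : ∀ y ∈ Q₀, T y ∈ Q₀ := by
    intro y hy
    rw [hTe]
    exact Q₀.mul_mem (Q₀.inv_mem hy) (hcj y hy)
  have hTk : ∀ k : ℕ, ∀ y ∈ Q₀, T^[k] y ∈ Q₀ := by
    intro k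
    induction k with
    | zero => intro y hy; exact hy
    | succ k ih => intro y hy; rw [Function.iterate_succ_apply]; exact ih _ (hTQ y hy)
  have he := hTk (p - 1) u hu
  obtain ⟨ψ, hψ⟩ := exists_hom_zmod_ne_one_of_not_mem_frattini (hQ.to_subgroup Q₀) (helt he)
  -- the operator `D` on homomorphisms
  let cz : ↥Q₀ →* ↥Q₀ :=
    { toFun := fun s => ⟨z⁻¹ * (s : Q) * z, hcj _ s.2⟩
      map_one' := by apply Subtype.ext; simp
      map_mul' := fun a b => by apply Subtype.ext; simp [mul_assoc] }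
  let Dop : (↥Q₀ →* Multiplicative (ZMod p)) → (↥Q₀ →* Multiplicative (ZMod p)) :=
    fun χ => χ.comp cz * χ⁻¹
  let T₀ : ↥Q₀ → ↥Q₀ := fun s => ⟨T s, hTQ _ s.2⟩
  have hD : ∀ (χ : ↥Q₀ →* Multiplicative (ZMod p)) (s : ↥Q₀), Dop χ s = χ (T₀ s) := by
    intro χ s
    have e : T₀ s = s⁻¹ * cz s := by
      apply Subtype.ext
      show T (s : Q) = (s : Q)⁻¹ * (z⁻¹ * (s : Q) * z)
      exact hTe _
    rw [e, map_mul, map_inv, mul_comm]
    rfl
  have hDk : ∀ (k : ℕ) (χ : ↥Q₀ →* Multiplicative (ZMod p)) (s : ↥Q₀),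
      Dop^[k] χ s = χ (T₀^[k] s) := by
    intro k
    induction k with
    | zero => intro χ s; rfl
    | succ k ih =>
      intro χ s
      rw [Function.iterate_succ_apply, ih, hD, Function.iterate_succ_apply']
  have hT₀k : ∀ (k : ℕ) (s : ↥Q₀), ((T₀^[k] s : ↥Q₀) : Q) = T^[k] (s : Q) := by
    intro k
    induction k with
    | zero => intro s; rfl
    | succ k ih =>
      intro s
      rw [Function.iterate_succ_apply, Function.iterate_succ_apply, ih]
  -- `D^p = 0`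
  have hDp : ∀ (χ : ↥Q₀ →* Multiplicative (ZMod p)) (w : ↥Q₀), χ (T₀^[p] w) = 1 := by
    intro χ w
    let χ₀ : Q → Multiplicative (ZMod p) := fun g => if h : g ∈ Q₀ then χ ⟨g, h⟩ else 1
    have hχ₀ : ∀ (g : Q) (h : g ∈ Q₀), χ₀ g = χ ⟨g, h⟩ := fun g h => dif_pos h
    have hmul : MulOn Q₀ χ₀ := by
      intro a ha b hb
      rw [hχ₀ _ (Q₀.mul_mem ha hb), hχ₀ _ ha, hχ₀ _ hb, ← map_mul]
      rfl
    have e1 : p = (p - 1) + 1 := by omega
    have e2 : T₀^[p] w = T₀^[p - 1] (T₀ w) := by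
      conv_lhs => rw [e1]
      rw [Function.iterate_succ_apply]
    set a : ↥Q₀ := T₀ w with ha
    have hc : (a : Q)⁻¹ * z⁻¹ * (a : Q) * z ∈ Q₀ := hTQ _ a.2
    have key := prod_comm_pow_eq p (pow_p_mult_zmod p) Q₀ χ₀ hmul z (a : Q) hcj hc
    have hR : χ₀ ((fun y : Q => y⁻¹ * z⁻¹ * y * z)^[p - 1] (a : Q)) = χ (T₀^[p - 1] a) := by
      rw [hχ₀ _ (hTk (p - 1) _ a.2)]
      congr 1
      apply Subtype.ext
      exact (hT₀k (p - 1) a).symm
    rw [e2, ← hR, ← key]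
    let g : ℕ → Multiplicative (ZMod p) := fun i => χ₀ ((z ^ i)⁻¹ * (w : Q) * z ^ i)
    have hterm : ∀ i ∈ Finset.range p, χ₀ ((a : Q)⁻¹ * (z ^ i)⁻¹ * (a : Q) * z ^ i) =
        (χ a)⁻¹ * (g (i + 1) / g i) := by
      intro i _
      have ea : (a : Q) = (w : Q)⁻¹ * z⁻¹ * (w : Q) * z := rfl
      have e3 : (a : Q)⁻¹ * (z ^ i)⁻¹ * (a : Q) * z ^ i =
          (a : Q)⁻¹ * (((z ^ i)⁻¹ * (w : Q) * z ^ i)⁻¹ *
            ((z ^ (i + 1))⁻¹ * (w : Q) * z ^ (i + 1))) := by
        rw [ea, pow_succ]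
        group
      rw [e3, hmul _ (Q₀.inv_mem a.2) _
        (Q₀.mul_mem (Q₀.inv_mem (hcji i _ w.2)) (hcji (i + 1) _ w.2)),
        hmul.map_inv a.2, hχ₀ _ a.2,
        hmul _ (Q₀.inv_mem (hcji i _ w.2)) _ (hcji (i + 1) _ w.2), hmul.map_inv (hcji i _ w.2)]
      show (χ a)⁻¹ * ((g i)⁻¹ * g (i + 1)) = (χ a)⁻¹ * (g (i + 1) / g i)
      rw [div_eq_mul_inv, mul_comm (g i)⁻¹]
    rw [Finset.prod_congr rfl hterm, Finset.prod_mul_distrib, Finset.prod_const,
      Finset.card_range, pow_p_mult_zmod, one_mul, Finset.prod_range_div]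
    have hg0 : g 0 = χ w := by
      show χ₀ ((z ^ 0)⁻¹ * (w : Q) * z ^ 0) = χ w
      have e4 : (z ^ 0)⁻¹ * (w : Q) * z ^ 0 = (w : Q) := by simp
      rw [e4, hχ₀ _ w.2]
    have hgp : g p = χ w := by
      show χ₀ ((z ^ p)⁻¹ * (w : Q) * z ^ p) = χ w
      rw [hmul _ (Q₀.mul_mem (Q₀.inv_mem hzp) w.2) _ hzp, hmul _ (Q₀.inv_mem hzp) _ w.2,
        hmul.map_inv hzp, hχ₀ _ w.2, mul_comm, mul_inv_cancel_left]
    rw [hg0, hgp, div_self']
  -- the chain of subgroups
  let u₀ : ↥Q₀ := ⟨u, hu⟩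
  have hψe : ψ (T₀^[p - 1] u₀) ≠ 1 := by
    have e : T₀^[p - 1] u₀ = ⟨T^[p - 1] u, he⟩ := Subtype.ext (hT₀k (p - 1) u₀)
    rw [e]
    exact hψ
  let χk : ℕ → (↥Q₀ →* Multiplicative (ZMod p)) := fun k => Dop^[k] ψ
  have hχk : ∀ (k : ℕ) (s : ↥Q₀), χk k s = ψ (T₀^[k] s) := fun k s => hDk k ψ s
  let E : ℕ → Subgroup ↥Q₀ := fun k => ⨅ j : Fin k, (χk (p - 1 - (j : ℕ))).ker
  have hmemE : ∀ k, ∀ s : ↥Q₀, s ∈ E k ↔ ∀ j < k, χk (p - 1 - j) s = 1 := by
    intro k s
    show s ∈ ⨅ j : Fin k, (χk (p - 1 - (j : ℕ))).ker ↔ _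
    rw [Subgroup.mem_iInf]
    constructor
    · intro h j hj
      exact MonoidHom.mem_ker.mp (h ⟨j, hj⟩)
    · intro h j
      exact MonoidHom.mem_ker.mpr (h j j.2)
  have hinE : ∀ k ≤ p, T₀^[k] u₀ ∈ E k := by
    intro k hk
    rw [hmemE]
    intro j hj
    rw [hχk, ← Function.iterate_add_apply]
    have e : p - 1 - j + k = p + (k - 1 - j) := by omega
    rw [e, Function.iterate_add_apply]
    exact hDp ψ _
  have hnotE : ∀ k < p, T₀^[k] u₀ ∉ (χk (p - 1 - k)).ker := by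
    intro k hk hmem
    rw [MonoidHom.mem_ker, hχk, ← Function.iterate_add_apply] at hmem
    have e : p - 1 - k + k = p - 1 := by omega
    rw [e] at hmem
    exact hψe hmem
  have hQ₀p : IsPGroup p ↥Q₀ := hQ.to_subgroup Q₀
  have hindex : ∀ k ≤ p, p ^ k ∣ (E k).index := by
    intro k
    induction k with
    | zero => intro _; simp
    | succ k ih =>
      intro hk
      have hle : E (k + 1) ≤ E k := by
        intro s hs
        rw [hmemE] at hs ⊢
        intro j hj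
        exact hs j (by omega)
      have h1 := Subgroup.relIndex_mul_index hle
      have hEp : IsPGroup p ↥(E k : Subgroup ↥Q₀) := hQ₀p.to_subgroup (E k)
      obtain ⟨a, ha⟩ := IsPGroup.iff_card.mp hEp
      have hdiv : (E (k + 1)).relIndex (E k) ∣ p ^ a := by
        rw [← ha]; exact Subgroup.relIndex_dvd_card _ _
      obtain ⟨m, -, hm'⟩ := (Nat.dvd_prime_pow hp.out).mp hdiv
      have hm0 : m ≠ 0 := by
        rintro rfl
        rw [pow_zero, Subgroup.relIndex_eq_one] at hm'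
        have h2 := hm' (hinE k (by omega))
        rw [hmemE] at h2
        exact hnotE k (by omega) (MonoidHom.mem_ker.mpr (h2 k (Nat.lt_succ_self k)))
      rw [← h1, hm', pow_succ, mul_comm]
      exact Nat.mul_dvd_mul (dvd_pow_self p hm0) (ih (by omega))
  -- the kernel of the permutation representation
  set Y' : Subgroup Q := ψ.ker.map Q₀.subtype with hY'
  have hY'Q₀ : Y' ≤ Q₀ := by
    rintro _ ⟨y, _, rfl⟩
    exact y.2
  set C : Subgroup Q := Y'.normalCore with hC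
  haveI hCn : C.Normal := Subgroup.normalCore_normal Y'
  have hCY : C ≤ Y' := Subgroup.normalCore_le Y'
  have hCQ₀ : C ≤ Q₀ := hCY.trans hY'Q₀
  have hCz : ∀ y ∈ C, z⁻¹ * y * z ∈ C := by
    intro y hy
    have := hCn.conj_mem y hy z⁻¹
    simpa using this
  have hCE : C.subgroupOf Q₀ ≤ E p := by
    intro s hs
    rw [hmemE]
    intro j _
    rw [hχk]
    have h1 : T^[p - 1 - j] (s : Q) ∈ C :=
      iterate_comm_mem z hCz (Subgroup.mem_subgroupOf.mp hs) (p - 1 - j)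
    obtain ⟨y, hy, hyc⟩ := hCY h1
    have e : y = T₀^[p - 1 - j] s := Subtype.ext (hyc.trans (hT₀k _ s).symm)
    rw [← e]
    exact MonoidHom.mem_ker.mp hy
  have hCidx : p ^ (p + 1) ∣ C.index := by
    have h1 := Subgroup.relIndex_mul_index hCQ₀
    rw [hidx] at h1
    rw [← h1, pow_succ]
    apply Nat.mul_dvd_mul _ (dvd_refl p)
    exact (hindex p le_rfl).trans (Subgroup.index_dvd_of_le hCE)
  -- `Y'` has index `p²`
  have hψidx : ψ.ker.index = p := by
    rw [Subgroup.index_ker]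
    have hcard := card_mult_zmod p
    have : Fact (Nat.card (Multiplicative (ZMod p))).Prime := by rw [hcard]; infer_instance
    have hne : ψ.range ≠ ⊥ := by
      intro hbot
      have h1 : ψ (T₀^[p - 1] u₀) ∈ ψ.range := ⟨_, rfl⟩
      rw [hbot] at h1
      exact hψe (Subgroup.mem_bot.mp h1)
    have htop : ψ.range = ⊤ := (Subgroup.eq_bot_or_eq_top_of_prime_card _).resolve_left hne
    rw [htop, Subgroup.card_top, hcard]
  have hY'idx : Y'.index = p ^ 2 := by
    have h1 := Subgroup.relIndex_mul_index hY'Q₀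
    have h2 : Y'.relIndex Q₀ = ψ.ker.index := by
      show (Y'.subgroupOf Q₀).index = ψ.ker.index
      have h3 : Y'.subgroupOf Q₀ = ψ.ker :=
        Subgroup.comap_map_eq_self_of_injective Q₀.subtype_injective ψ.ker
      rw [h3]
    rw [h2, hψidx, hidx] at h1
    rw [← h1, pow_two]
  have hcardQY : Nat.card (Q ⧸ Y') = p ^ 2 := by rw [← Subgroup.index_eq_card, hY'idx]
  let ε : (Q ⧸ Y') ≃ Fin (p ^ 2) := Finite.equivFinOfCardEq hcardQY
  let f : Q →* Equiv.Perm (Fin (p ^ 2)) :=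
    (Equiv.permCongrHom ε).toMonoidHom.comp (MulAction.toPermHom Q (Q ⧸ Y'))
  have hker : f.ker = C := by
    rw [hC, Subgroup.normalCore_eq_ker]
    ext x
    rw [MonoidHom.mem_ker, MonoidHom.mem_ker]
    show (Equiv.permCongrHom ε) (MulAction.toPermHom Q (Q ⧸ Y') x) = 1 ↔ _
    exact MulEquiv.map_eq_one_iff _
  have hcardR : Nat.card ↥f.range = C.index := by rw [← hker, Subgroup.index_ker]
  obtain ⟨m, hm⟩ := hQ.index C
  have hcardPerm : Nat.card (Equiv.Perm (Fin (p ^ 2))) = Nat.factorial (p ^ 2) := by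
    rw [Nat.card_perm, Nat.card_fin]
  have hm1 : p + 1 ≤ m := by
    rw [hm] at hCidx
    exact (Nat.pow_dvd_pow_iff_le_right hp.out.one_lt).mp hCidx
  have hm2 : m ≤ p + 1 := by
    have h1 : Nat.card ↥f.range ∣ Nat.card (Equiv.Perm (Fin (p ^ 2))) :=
      Subgroup.card_subgroup_dvd_card f.range
    rw [hcardR, hm, hcardPerm] at h1
    have h2 := (padicValNat_dvd_iff_le (p := p) (Nat.factorial_pos (p ^ 2)).ne').mp h1
    rwa [padicValNat_factorial_sq] at h2
  have hcard : Nat.card ↥f.range =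
      p ^ (Nat.card (Equiv.Perm (Fin (p ^ 2)))).factorization p := by
    rw [hcardR, hm, hcardPerm, Nat.factorization_def _ hp.out, padicValNat_factorial_sq]
    congr 1
    omega
  exact ⟨Sylow.ofCard f.range hcard, f.rangeRestrict, f.rangeRestrict_surjective⟩

end WreathImage

end Cfsg.Agent.Lib.Helper30
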