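import Cfsg.Agent.Lib.Helper30.TransferFP
import Cfsg.Agent.Lib.Helper30.CommBinom
import Cfsg.Agent.Lib.Helper30.Conj
import Cfsg.Agent.Lib.Helper30.WreathImage
import Cfsg.Agent.Lib.Helper87.BisetTransfer

set_option autoImplicit false

/-!
The core of Yoshida's transfer theorem inside a `p`-group `K` without a quotient `Z_p ≀ Z_p`:
the transfer `K → Z_p` of a homomorphism `Q → Z_p`, `Q < K`, vanishes at every element `u`
for which the labels of the non-fixed orbits vanish.  Also some general facts on transfer and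
on the biset transfer `bT` of helper87.
-/

namespace Cfsg.Agent.Lib.Helper30

open MulAction Cfsg.Agent.Lib.Helper87 Cfsg.Agent.Lib.Helper88

section YoshidaCore

theorem exists_normal_index_p_top {K : Type*} [Group K] [Finite K] {p : ℕ} [hp : Fact p.Prime]
    (hK : IsPGroup p K) (Q : Subgroup K) (hQ : Q ≠ ⊤) :
    ∃ M : Subgroup K, Q ≤ M ∧ M.Normal ∧ M.index = p := by
  obtain ⟨e, he⟩ := IsPGroup.iff_card.mp hK
  obtain ⟨n, hn⟩ := IsPGroup.iff_card.mp (hK.to_subgroup Q)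
  have hlt : Nat.card ↥Q < Nat.card K := by
    have hle : Nat.card ↥Q ≤ Nat.card K := Subgroup.card_le_card_group Q
    rcases lt_or_eq_of_le hle with h | h
    · exact h
    · exact absurd (Subgroup.eq_top_of_card_eq Q h) hQ
  rw [hn, he] at hlt
  have hne' : n < e := (Nat.pow_lt_pow_iff_right hp.out.one_lt).mp hlt
  obtain ⟨M, hMc, hQM⟩ := Sylow.exists_subgroup_card_pow_prime_le p (m := e - 1)
    (by rw [he]; exact pow_dvd_pow p (Nat.sub_le e 1)) Q hn (by omega)
  have hidx : M.index = p := by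
    have h1 := M.card_mul_index
    rw [hMc, he] at h1
    have e1 : p ^ e = p ^ (e - 1) * p := by
      rw [← pow_succ]; congr 1; omega
    rw [e1] at h1
    exact Nat.eq_of_mul_eq_mul_left (pow_pos hp.out.pos _) h1
  have hnorm : M.Normal := by
    apply Subgroup.normal_of_index_eq_minFac_card
    rw [hidx, he, Nat.Prime.pow_minFac hp.out (by omega)]
  exact ⟨M, hQM, hnorm, hidx⟩

theorem conj_pow_inv' {K : Type*} [Group K] (a g : K) (k : ℕ) :
    (a⁻¹ * g * a) ^ k = a⁻¹ * g ^ k * a := by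
  have := conj_pow (a := a⁻¹) (b := g) (i := k)
  simpa using this

/-- **Yoshida's lemma**: in a finite `p`-group `K` with no quotient `Z_p ≀ Z_p`, the transfer of
`μ : Q → Z_p` (`Q < K`) vanishes at `u` provided the labels `μ (a⁻¹ u^k a)`, `p ∣ k`, vanish. -/
theorem transfer_eq_one_of_proper {K : Type*} [Group K] [Finite K] {p : ℕ} [hp : Fact p.Prime]
    (hK : IsPGroup p K)
    (hno : ¬ ∃ (P : Sylow p (Equiv.Perm (Fin (p ^ 2))))
      (f : K →* ↥(P : Subgroup (Equiv.Perm (Fin (p ^ 2))))), Function.Surjective f)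
    (Q : Subgroup K) (hQ : Q ≠ ⊤) (μ : ↥Q →* Multiplicative (ZMod p)) (u : K)
    (hvan : ∀ (a : K) (k : ℕ), p ∣ k → ∀ h : a⁻¹ * u ^ k * a ∈ Q, μ ⟨_, h⟩ = 1) :
    MonoidHom.transfer μ u = 1 := by
  classical
  let _ : Fintype (K ⧸ Q) := Fintype.ofFinite _
  have hp2 : 2 ≤ p := hp.out.two_le
  obtain ⟨e, he⟩ := IsPGroup.iff_orderOf.mp hK u
  have hvanc : ∀ (g : K) (y : K ⧸ Q), per Q (g⁻¹ * u * g) y ≠ 1 →
      lbl Q μ (g⁻¹ * u * g) (per Q (g⁻¹ * u * g) y) y = 1 := by
    intro g y hy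
    induction y using QuotientGroup.induction_on with
    | H a =>
      have hord : orderOf (g⁻¹ * u * g) = p ^ e := by
        have := orderOf_conj g⁻¹ u
        rw [inv_inv] at this
        rw [this, he]
      have hdvd : per Q (g⁻¹ * u * g) (a : K ⧸ Q) ∣ p ^ e := by
        rw [← hord, per_dvd_iff, pow_orderOf_eq_one, one_smul]
      obtain ⟨j, _, hj⟩ := (Nat.dvd_prime_pow hp.out).mp hdvd
      have hj0 : j ≠ 0 := by
        rintro rfl
        exact hy (by rw [hj, pow_zero])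
      have hpk : p ∣ per Q (g⁻¹ * u * g) (a : K ⧸ Q) := by rw [hj]; exact dvd_pow_self p hj0
      by_cases h : a⁻¹ * (g⁻¹ * u * g) ^ per Q (g⁻¹ * u * g) (a : K ⧸ Q) * a ∈ Q
      · rw [lbl_of_mem _ _ _ _ _ h]
        have e1 : a⁻¹ * (g⁻¹ * u * g) ^ per Q (g⁻¹ * u * g) (a : K ⧸ Q) * a =
            (g * a)⁻¹ * u ^ per Q (g⁻¹ * u * g) (a : K ⧸ Q) * (g * a) := by
          rw [conj_pow_inv']; group
        have h' : (g * a)⁻¹ * u ^ per Q (g⁻¹ * u * g) (a : K ⧸ Q) * (g * a) ∈ Q := by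
          rw [← e1]; exact h
        rw [← hvan (g * a) _ hpk h']
        congr 1
        exact Subtype.ext e1
      · rw [lbl_of_not_mem _ _ _ _ _ h]
  have hvan1 : ∀ y : K ⧸ Q, per Q u y ≠ 1 → lbl Q μ u (per Q u y) y = 1 := by
    intro y hy
    have h1 := hvanc 1 y (by simpa using hy)
    simpa using h1
  rw [transfer_eq_prod_lbl_one Q μ u hvan1]
  obtain ⟨M, hQM, hMn, hMi⟩ := exists_normal_index_p_top hK Q hQ
  have hnorm' : ∀ k : K, ∀ m ∈ M, k⁻¹ * m * k ∈ M := by
    intro k m hm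
    have := hMn.conj_mem m hm k⁻¹
    simpa using this
  by_cases huM : u ∈ M
  swap
  · apply Finset.prod_eq_one
    intro y _
    induction y using QuotientGroup.induction_on with
    | H a =>
      apply lbl_of_not_mem
      intro h
      apply huM
      have h1 : a⁻¹ * u * a ∈ M := by
        rw [pow_one] at h; exact hQM h
      have h2 := hMn.conj_mem _ h1 a
      have e : a * (a⁻¹ * u * a) * a⁻¹ = u := by group
      rwa [e] at h2
  have hMne : M ≠ ⊤ := by
    intro h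
    rw [h, Subgroup.index_top] at hMi
    exact hp.out.one_lt.ne hMi
  obtain ⟨z, hzM⟩ : ∃ z : K, z ∉ M := by
    by_contra hall
    apply hMne
    rw [Subgroup.eq_top_iff']
    intro x
    by_contra hx
    exact hall ⟨x, hx⟩
  have hcardQ : Nat.card (K ⧸ M) = p := by rw [← Subgroup.index_eq_card, hMi]
  have hz'ne : ((z : K ⧸ M)) ≠ 1 := by
    intro h
    exact hzM ((QuotientGroup.eq_one_iff z).mp h)
  have hdec : ∀ k : K, ∃ i < p, (z ^ i)⁻¹ * k ∈ M := by
    intro k
    have htop := zpowers_eq_top_of_prime_card (p := p) hcardQ hz'ne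
    have hmem : ((k : K ⧸ M)) ∈ Subgroup.zpowers ((z : K ⧸ M)) := by rw [htop]; trivial
    rw [← mem_powers_iff_mem_zpowers] at hmem
    obtain ⟨n, hn⟩ := hmem
    refine ⟨n % p, Nat.mod_lt _ hp.out.pos, ?_⟩
    have h0 := pow_mod_natCard ((z : K ⧸ M)) n
    rw [hcardQ] at h0
    have h2 : (((z ^ (n % p) : K)) : K ⧸ M) = ((k : K ⧸ M)) := by
      rw [QuotientGroup.mk_pow, h0]; exact hn
    exact QuotientGroup.eq.mp h2
  have hordz : orderOf ((z : K ⧸ M)) = p := by
    apply orderOf_eq_prime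
    · have := pow_card_eq_one' (G := K ⧸ M) (x := ((z : K ⧸ M)))
      rwa [hcardQ] at this
    · exact hz'ne
  have hinj : ∀ i < p, ∀ j < p, (z ^ j)⁻¹ * z ^ i ∈ M → i = j := by
    intro i hi j hj h
    have h1 : (((z ^ j : K)) : K ⧸ M) = (((z ^ i : K)) : K ⧸ M) := QuotientGroup.eq.mpr h
    rw [QuotientGroup.mk_pow, QuotientGroup.mk_pow] at h1
    exact (pow_injOn_Iio_orderOf (by rw [hordz]; exact hj) (by rw [hordz]; exact hi) h1).symm
  have hui : ∀ i : ℕ, (z ^ i)⁻¹ * u * z ^ i ∈ M := fun i => hnorm' (z ^ i) u huM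
  have hai : ∀ i : ℕ, u⁻¹ * (z ^ i)⁻¹ * u * z ^ i ∈ M := by
    intro i
    have e : u⁻¹ * (z ^ i)⁻¹ * u * z ^ i = u⁻¹ * ((z ^ i)⁻¹ * u * z ^ i) := by group
    rw [e]
    exact M.mul_mem (M.inv_mem huM) (hui i)
  -- decomposition of `K ⧸ Q` into the `z^i`-translates of the `M`-orbit of the trivial coset
  have hprod : (∏ y : K ⧸ Q, lbl Q μ u 1 y) =
      ∏ x ∈ (Finset.range p) ×ˢ
          Finset.univ.filter (fun y : K ⧸ Q => y ∈ orbit ↥M (((1 : K)) : K ⧸ Q)),
        lbl Q μ u 1 (z ^ x.1 • x.2) := by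
    symm
    apply Finset.prod_nbij (fun x : ℕ × (K ⧸ Q) => z ^ x.1 • x.2)
    · intro x _
      exact Finset.mem_univ _
    · rintro ⟨i, y⟩ hx ⟨j, y'⟩ hx' heq
      rw [Finset.mem_coe, Finset.mem_product, Finset.mem_filter] at hx hx'
      obtain ⟨m, rfl⟩ := hx.2.2
      obtain ⟨m', rfl⟩ := hx'.2.2
      have hi := Finset.mem_range.mp hx.1
      have hj := Finset.mem_range.mp hx'.1
      have h0 : (z ^ i * (m : K)) • (((1 : K)) : K ⧸ Q) =
          (z ^ j * (m' : K)) • (((1 : K)) : K ⧸ Q) := by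
        rw [mul_smul, mul_smul]; exact heq
      have h1 : ((z ^ j * (m' : K))⁻¹ * (z ^ i * (m : K))) • (((1 : K)) : K ⧸ Q) =
          (((1 : K)) : K ⧸ Q) := by
        rw [mul_smul, h0, inv_smul_smul]
      have h2 : (z ^ j * (m' : K))⁻¹ * (z ^ i * (m : K)) ∈ M := by
        have h3 : ((((z ^ j * (m' : K))⁻¹ * (z ^ i * (m : K)) * 1 : K)) : K ⧸ Q) =
            (((1 : K)) : K ⧸ Q) := h1
        have h4 := QuotientGroup.eq.mp h3
        have h5 : ((z ^ j * (m' : K))⁻¹ * (z ^ i * (m : K)))⁻¹ ∈ Q := by simpa using h4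
        have h6 := Q.inv_mem h5
        rw [inv_inv] at h6
        exact hQM h6
      have h3 : (z ^ j)⁻¹ * z ^ i ∈ M := by
        have h4 := M.mul_mem (M.mul_mem m'.2 h2) (M.inv_mem m.2)
        have e : (m' : K) * ((z ^ j * (m' : K))⁻¹ * (z ^ i * (m : K))) * (m : K)⁻¹ =
            (z ^ j)⁻¹ * z ^ i := by group
        rwa [e] at h4
      have hij := hinj i hi j hj h3
      subst hij
      have h5 : (m : ↥M) • (((1 : K)) : K ⧸ Q) = (m' : ↥M) • (((1 : K)) : K ⧸ Q) :=
        (MulAction.injective (z ^ i)) heq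
      exact congrArg (Prod.mk i) h5
    · intro y _
      induction y using QuotientGroup.induction_on with
      | H k =>
        obtain ⟨i, hi, hm⟩ := hdec k
        refine ⟨(i, ((z ^ i)⁻¹ * k) • (((1 : K)) : K ⧸ Q)), ?_, ?_⟩
        · rw [Finset.mem_coe, Finset.mem_product, Finset.mem_filter]
          exact ⟨Finset.mem_range.mpr hi, Finset.mem_univ _, ⟨⟨_, hm⟩, rfl⟩⟩
        · show z ^ i • (((z ^ i)⁻¹ * k) • (((1 : K)) : K ⧸ Q)) = (k : K ⧸ Q)
          rw [smul_smul, mul_inv_cancel_left]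
          show (((k * 1 : K)) : K ⧸ Q) = (k : K ⧸ Q)
          rw [mul_one]
    · intro x _
      rfl
  rw [hprod, Finset.prod_product]
  have hblock : ∀ i ∈ Finset.range p,
      (∏ y ∈ Finset.univ.filter (fun y : K ⧸ Q => y ∈ orbit ↥M (((1 : K)) : K ⧸ Q)),
        lbl Q μ u 1 (z ^ i • y)) =
      MonoidHom.transfer (μ.comp (stabHom Q M 1)) (⟨(z ^ i)⁻¹ * u * z ^ i, hui i⟩ : ↥M) := by
    intro i _
    have h1 : ∀ y : K ⧸ Q, lbl Q μ u 1 (z ^ i • y) = lbl Q μ ((z ^ i)⁻¹ * u * z ^ i) 1 y :=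
      fun y => lbl_smul Q μ u (z ^ i) 1 y
    simp_rw [h1]
    apply prod_orbit_eq_transfer Q μ M 1 _ (hui i)
    intro l hl
    exact hvanc (z ^ i) _ hl
  rw [Finset.prod_congr rfl hblock]
  set ν : ↥M →* Multiplicative (ZMod p) := MonoidHom.transfer (μ.comp (stabHom Q M 1)) with hν
  have hsplit : ∀ i ∈ Finset.range p, ν (⟨(z ^ i)⁻¹ * u * z ^ i, hui i⟩ : ↥M) =
      ν ⟨u, huM⟩ * ν ⟨u⁻¹ * (z ^ i)⁻¹ * u * z ^ i, hai i⟩ := by
    intro i _
    rw [← map_mul]
    congr 1
    apply Subtype.ext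
    show (z ^ i)⁻¹ * u * z ^ i = u * (u⁻¹ * (z ^ i)⁻¹ * u * z ^ i)
    group
  rw [Finset.prod_congr rfl hsplit, Finset.prod_mul_distrib, Finset.prod_const, Finset.card_range,
    pow_p_mult_zmod, one_mul]
  let χ : K → Multiplicative (ZMod p) := fun g => if h : g ∈ M then ν ⟨g, h⟩ else 1
  have hχ : MulOn M χ := by
    intro a ha b hb
    show (if h : a * b ∈ M then ν ⟨a * b, h⟩ else 1) =
      (if h : a ∈ M then ν ⟨a, h⟩ else 1) * (if h : b ∈ M then ν ⟨b, h⟩ else 1)
    rw [dif_pos (M.mul_mem ha hb), dif_pos ha, dif_pos hb, ← map_mul]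
    rfl
  have hχa : ∀ i ∈ Finset.range p, ν ⟨u⁻¹ * (z ^ i)⁻¹ * u * z ^ i, hai i⟩ =
      χ (u⁻¹ * (z ^ i)⁻¹ * u * z ^ i) := by
    intro i _
    show _ = (if h : u⁻¹ * (z ^ i)⁻¹ * u * z ^ i ∈ M then ν ⟨_, h⟩ else 1)
    rw [dif_pos (hai i)]
  rw [Finset.prod_congr rfl hχa]
  have hzY : ∀ y ∈ M, z⁻¹ * y * z ∈ M := fun y hy => hnorm' z y hy
  have hcY : u⁻¹ * z⁻¹ * u * z ∈ M := by
    have := hai 1
    simpa using this
  rw [prod_comm_pow_eq p (pow_p_mult_zmod p) M χ hχ z u hzY hcY]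
  have helt : (fun y : K => y⁻¹ * z⁻¹ * y * z)^[p - 1] u ∈ M := by
    have e2 : p - 1 = (p - 2) + 1 := by omega
    rw [e2, Function.iterate_succ_apply]
    exact iterate_comm_mem z hzY hcY (p - 2)
  have hfr : (⟨_, helt⟩ : ↥M) ∈ frattini ↥M := by
    by_contra hfr
    exact hno (exists_wreath_image hK M hMi z u huM (fun _ => hfr))
  show (if h : (fun y : K => y⁻¹ * z⁻¹ * y * z)^[p - 1] u ∈ M then ν ⟨_, h⟩ else 1) = 1
  rw [dif_pos helt]
  exact hom_zmod_kills_frattini ν hfr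

/-- the transfer of the restriction of a homomorphism to an abelian group -/
theorem transfer_comp_subtype {G : Type*} [Group G] [Finite G] {A : Type*} [CommGroup A]
    (H : Subgroup G) (ψ : G →* A) (x : G) :
    MonoidHom.transfer (ψ.comp H.subtype) x = ψ x ^ H.index := by
  classical
  have : Fintype (Quotient (orbitRel (Subgroup.zpowers x) (G ⧸ H))) := Fintype.ofFinite _
  rw [MonoidHom.transfer_eq_prod_quotient_orbitRel_zpowers_quot]
  have hq : ∀ q : Quotient (orbitRel (Subgroup.zpowers x) (G ⧸ H)),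
      (ψ.comp H.subtype) ⟨q.out.out⁻¹ * x ^ Function.minimalPeriod (x • ·) q.out * q.out.out,
        QuotientGroup.out_conj_pow_minimalPeriod_mem H x q.out⟩ =
      ψ x ^ Function.minimalPeriod (x • ·) q.out := by
    intro q
    show ψ (q.out.out⁻¹ * x ^ Function.minimalPeriod (x • ·) q.out * q.out.out) = _
    rw [map_mul, map_mul, map_inv, map_pow, mul_comm, mul_inv_cancel_left]
  rw [Finset.prod_congr rfl (fun q _ => hq q), Finset.prod_pow_eq_pow_sum,
    ← Subgroup.index_eq_sum_minimalPeriod]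

/-- naturality of the transfer in the target -/
theorem transfer_comp_left {G : Type*} [Group G] [Finite G] {A B : Type*} [CommGroup A]
    [CommGroup B] (H : Subgroup G) (ϕ : H →* A) (g : A →* B) (x : G) :
    MonoidHom.transfer (g.comp ϕ) x = g (MonoidHom.transfer ϕ x) := by
  classical
  have : Fintype (Quotient (orbitRel (Subgroup.zpowers x) (G ⧸ H))) := Fintype.ofFinite _
  rw [MonoidHom.transfer_eq_prod_quotient_orbitRel_zpowers_quot,
    MonoidHom.transfer_eq_prod_quotient_orbitRel_zpowers_quot, map_prod]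
  rfl

variable {K : Type*} [Group K] {A B : Type*} [CommGroup A] [CommGroup B]

theorem phiE_comp (lam : K →* A) (g : A →* B) (E : Subgroup (K × K)) :
    phiE (g.comp lam) E = g.comp (phiE lam E) := by
  classical
  unfold phiE
  by_cases h : Function.Injective (fstE E)
  · rw [dif_pos h, dif_pos h]
    rfl
  · rw [dif_neg h, dif_neg h]
    ext x
    simp

theorem phiE_eq_restrict (lam : K →* A) {E : Subgroup (K × K)}
    (h : Function.Injective (fstE E)) (hst : ∀ a b : K, (a, b) ∈ E → lam b = lam a) :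
    phiE lam E = lam.comp (pE E).subtype := by
  ext ⟨a, ha⟩
  obtain ⟨b, hb⟩ := mem_pE.mp ha
  rw [phiE_apply lam h hb ha, hst a b hb]
  rfl

theorem bT_comp [Finite K] (lam : K →* A) (g : A →* B) (m : Subgroup (K × K) → ℕ) (x : K) :
    bT (g.comp lam) m x = g (bT lam m x) := by
  classical
  let _ : Fintype (Subgroup (K × K)) := Fintype.ofFinite _
  rw [bT_apply, bT_apply, map_prod]
  apply Finset.prod_congr rfl
  intro E _
  rw [map_pow, phiE_comp, transfer_comp_left]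

theorem bT_eq_pow_of_stable [Finite K] [Fintype (Subgroup (K × K))] (lam : K →* A)
    (m : Subgroup (K × K) → ℕ) (hm : ∀ E, m E ≠ 0 → Function.Injective (fstE E))
    (hst : ∀ E, m E ≠ 0 → ∀ a b : K, (a, b) ∈ E → lam b = lam a) (x : K) :
    bT lam m x = lam x ^ (∑ E : Subgroup (K × K), m E * (pE E).index) := by
  rw [bT_apply, ← Finset.prod_pow_eq_pow_sum]
  apply Finset.prod_congr rfl
  intro E _
  by_cases hE : m E = 0
  · simp [hE]
  · rw [phiE_eq_restrict lam (hm E hE) (hst E hE), transfer_comp_subtype, ← pow_mul, mul_comm]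

end YoshidaCore

end Cfsg.Agent.Lib.Helper30
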