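import Cfsg.Agent.Lib.Helper30.YoshidaCore
import Cfsg.Agent.Lib.Helper87.CharMult

set_option autoImplicit false

/-!
Yoshida's transfer theorem for saturated fusion systems: if `S` has no quotient `Z_p ≀ Z_p`
then the focal subgroup of `F` is generated by the `x⁻¹ φ(x)`, `φ ∈ Aut_F(S)`.
-/

namespace Cfsg.Agent.Lib.Helper30

open Cfsg Cfsg.FusionSystem Cfsg.Agent.Lib.Helper87 Cfsg.Agent.Lib.Helper88
  Cfsg.Agent.Lib.Helper90

open scoped commutatorElement

section YoshidaFus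

variable {Ω : Type*} [Group Ω] {S : Subgroup Ω} {F : FusionSystem S}

theorem mor_orderOf {P : Subgroup Ω} {f : Ω → Ω} (hf : Mor F P f) {x : Ω} (hx : x ∈ P) :
    orderOf (f x) = orderOf x := by
  obtain ⟨φ, hφ, hφf⟩ := hf
  rw [← hφf ⟨x, hx⟩, orderOf_injective φ (F.injective_of_mem hφ) ⟨x, hx⟩, Subgroup.orderOf_mk]

theorem focalSubgroup_le (F : FusionSystem S) : F.focalSubgroup ≤ S := by
  unfold FusionSystem.focalSubgroup
  rw [Subgroup.closure_le]
  rintro _ ⟨P, φ, x, hφ, rfl⟩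
  exact S.mul_mem (S.inv_mem ((F.le_of_mem hφ).1 x.2)) ((F.le_of_mem hφ).2 x)

/-- every map of `F` defined on `S` is a map of the normalizer system `N_F(S)` -/
theorem hom_top_mem_normalizerHom [Finite S] {φ : ↥S →* Ω} (hφ : φ ∈ F.Hom S) :
    φ ∈ F.normalizerHom S S := by
  have hN : normalizerIn S S = S := by
    unfold normalizerIn
    exact inf_eq_left.mpr Subgroup.le_normalizer
  refine ⟨hφ, ?_, ?_, ?_⟩
  · rw [hN]
  · intro x
    rw [hN]
    exact (F.le_of_mem hφ).2 x
  · have key : ∀ (R : Subgroup Ω) (_ : S = R) (hle : S ≤ R), ∃ ψ ∈ F.Hom R,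
        (∀ x : ↥S, ψ (Subgroup.inclusion hle x) = φ x) ∧ (S.subgroupOf R).map ψ = S := by
      intro R hR hle
      subst hR
      refine ⟨φ, hφ, fun x => rfl, ?_⟩
      rw [Subgroup.subgroupOf_self, ← MonoidHom.range_eq_map]
      apply Subgroup.eq_of_le_of_card_ge
      · rintro _ ⟨x, rfl⟩
        exact (F.le_of_mem hφ).2 x
      · exact (Nat.card_congr (MonoidHom.ofInjective (F.injective_of_mem hφ)).toEquiv).le
    exact key (S ⊔ S) (sup_idem S).symm le_sup_left

variable [Finite S] {p : ℕ} [hp : Fact p.Prime]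

/-- the transfer of a characteristic biset kills the focal subgroup -/
theorem bT_focal_eq_one (hS : IsPGroup p S) (hF : F.IsSaturated p) {A : Type*} [CommGroup A]
    [Finite A] (lam : ↥S →* A) {m : Subgroup (↥S × ↥S) → ℕ} (hsupp : ∀ E, m E ≠ 0 → IsG F E)
    (hst : ∀ D D', RelG F D D' → fixm m D = fixm m D') (y : ↥S)
    (hy : (y : Ω) ∈ F.focalSubgroup) : bT lam m y = 1 := by
  have hle : F.focalSubgroup ≤ (bT lam m).ker.map S.subtype := by
    unfold FusionSystem.focalSubgroup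
    rw [Subgroup.closure_le]
    rintro _ ⟨P, φ, x, hφ, rfl⟩
    have hxS : (x : Ω) ∈ S := (F.le_of_mem hφ).1 x.2
    have hφS : φ x ∈ S := (F.le_of_mem hφ).2 x
    refine ⟨(⟨x, hxS⟩ : ↥S)⁻¹ * ⟨φ x, hφS⟩, ?_, rfl⟩
    rw [SetLike.mem_coe, MonoidHom.mem_ker, map_mul, map_inv, inv_mul_eq_one]
    exact bT_stable hS hF lam hsupp hst (mor_of_hom hφ) (x := ⟨x, hxS⟩) (y := ⟨φ x, hφS⟩) x.2
      (extFun_apply P φ x).symm
  obtain ⟨y', hy', hyy'⟩ := hle hy
  have e : y' = y := Subtype.ext hyy'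
  rw [← e]
  exact MonoidHom.mem_ker.mp hy'

/-- in the absence of a quotient `Z_p ≀ Z_p`, the transfer of a characteristic biset is a power
map on the `Z_p`-valued homomorphisms stable under the maps of `F` defined on `S` -/
theorem bT_eq_pow_of_no_wreath (hS : IsPGroup p S) (hF : F.IsSaturated p)
    (hno : ¬ ∃ (P : Sylow p (Equiv.Perm (Fin (p ^ 2))))
      (f : ↥S →* ↥(P : Subgroup (Equiv.Perm (Fin (p ^ 2))))), Function.Surjective f)
    [Fintype (Subgroup (↥S × ↥S))]
    {m : Subgroup (↥S × ↥S) → ℕ} (hsupp : ∀ E, m E ≠ 0 → IsG F E)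
    (hst : ∀ D D', RelG F D D' → fixm m D = fixm m D')
    (hc : ¬ p ∣ ∑ E : Subgroup (↥S × ↥S), m E * (pE E).index)
    (lam : ↥S →* Multiplicative (ZMod p))
    (htop : ∀ E, m E ≠ 0 → pE E = ⊤ → ∀ a b : ↥S, (a, b) ∈ E → lam b = lam a) :
    ∀ u : ↥S, bT lam m u = lam u ^ (∑ E : Subgroup (↥S × ↥S), m E * (pE E).index) := by
  classical
  have hcop : Nat.Coprime (∑ E : Subgroup (↥S × ↥S), m E * (pE E).index) p :=
    Nat.coprime_comm.mp ((Nat.Prime.coprime_iff_not_dvd hp.out).mpr hc)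
  suffices H : ∀ n : ℕ, ∀ u : ↥S, orderOf u = n →
      bT lam m u = lam u ^ (∑ E : Subgroup (↥S × ↥S), m E * (pE E).index) from
    fun u => H _ u rfl
  intro n
  induction n using Nat.strong_induction_on with
  | _ n ih =>
    intro u hn
    by_cases hu1 : u = 1
    · subst hu1
      rw [map_one, map_one, one_pow]
    have IH : ∀ v : ↥S, orderOf v < orderOf u →
        bT lam m v = lam v ^ (∑ E : Subgroup (↥S × ↥S), m E * (pE E).index) :=
      fun v hv => ih (orderOf v) (hn ▸ hv) v rfl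
    obtain ⟨e, he⟩ := IsPGroup.iff_orderOf.mp hS u
    have he0 : e ≠ 0 := by
      rintro rfl
      rw [pow_zero, orderOf_eq_one_iff] at he
      exact hu1 he
    rw [bT_apply, ← Finset.prod_pow_eq_pow_sum]
    apply Finset.prod_congr rfl
    intro E _
    by_cases hE : m E = 0
    · simp [hE]
    have hinj := isG_injective (hsupp E hE)
    have key : MonoidHom.transfer (phiE lam E) u = lam u ^ (pE E).index := by
      by_cases hEtop : pE E = ⊤
      · rw [phiE_eq_restrict lam hinj (htop E hE hEtop), transfer_comp_subtype]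
      · obtain ⟨d, hd⟩ := dvd_index_of_ne_top hS hEtop
        rw [hd, pow_mul, pow_p_mult_zmod, one_pow]
        apply transfer_eq_one_of_proper hS hno (pE E) hEtop
        intro a k hk h
        obtain ⟨b, hb⟩ := mem_pE.mp h
        rw [phiE_apply lam hinj hb h]
        obtain ⟨P, f, hf, rfl⟩ := hsupp E hE
        obtain ⟨hvP, hfv⟩ := (mem_gr hf).mp hb
        have hstab : bT lam m (a⁻¹ * u ^ k * a) = bT lam m b :=
          bT_stable hS hF lam hsupp hst hf hvP hfv.symm
        have hord : orderOf b < orderOf u := by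
          have h1 : orderOf (b : Ω) = orderOf ((a⁻¹ * u ^ k * a : ↥S) : Ω) := by
            rw [← hfv]
            exact mor_orderOf hf hvP
          rw [Subgroup.orderOf_coe, Subgroup.orderOf_coe] at h1
          rw [h1]
          have h2 : orderOf (a⁻¹ * u ^ k * a) = orderOf (u ^ k) := by
            have := orderOf_conj a⁻¹ (u ^ k)
            rwa [inv_inv] at this
          rw [h2, orderOf_pow]
          apply Nat.div_lt_self (orderOf_pos u)
          have h3 : p ∣ Nat.gcd (orderOf u) k :=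
            Nat.dvd_gcd (by rw [he]; exact dvd_pow_self p he0) hk
          have h4 : 0 < Nat.gcd (orderOf u) k := Nat.gcd_pos_of_pos_left _ (orderOf_pos u)
          exact lt_of_lt_of_le hp.out.one_lt (Nat.le_of_dvd h4 h3)
        have h5 : lam b ^ (∑ E : Subgroup (↥S × ↥S), m E * (pE E).index) = 1 := by
          rw [← IH b hord, ← hstab, map_mul, map_mul, map_inv, inv_mul_cancel_comm, map_pow]
          obtain ⟨d', rfl⟩ := hk
          rw [pow_mul, pow_p_mult_zmod, one_pow]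
        exact eq_one_of_pow_coprime hcop h5 (pow_p_mult_zmod p _)
    rw [key, ← pow_mul, mul_comm]

/-- **Yoshida's theorem for saturated fusion systems**: if `S` has no quotient `Z_p ≀ Z_p`, the
focal subgroup of `F` is generated by the `x⁻¹ φ(x)` for the maps `φ` of `F` defined on `S`. -/
theorem focal_le_of_no_wreath (hS : IsPGroup p S) (hF : F.IsSaturated p)
    (hno : ¬ ∃ (P : Sylow p (Equiv.Perm (Fin (p ^ 2))))
      (f : ↥S →* ↥(P : Subgroup (Equiv.Perm (Fin (p ^ 2))))), Function.Surjective f) :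
    F.focalSubgroup ≤
      Subgroup.closure {y : Ω | ∃ (φ : ↥S →* Ω) (x : ↥S), φ ∈ F.Hom S ∧ y = (x : Ω)⁻¹ * φ x} := by
  classical
  set D : Subgroup Ω :=
    Subgroup.closure {y : Ω | ∃ (φ : ↥S →* Ω) (x : ↥S), φ ∈ F.Hom S ∧ y = (x : Ω)⁻¹ * φ x}
    with hDdef
  have hD : ∀ φ ∈ F.Hom S, ∀ x : ↥S, (x : Ω)⁻¹ * φ x ∈ D := fun φ hφ x =>
    Subgroup.subset_closure ⟨φ, x, hφ, rfl⟩
  have hDF : D ≤ F.focalSubgroup := by
    rw [hDdef, Subgroup.closure_le]
    rintro _ ⟨φ, x, hφ, rfl⟩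
    exact Subgroup.subset_closure ⟨S, φ, x, hφ, rfl⟩
  set D' : Subgroup ↥S := D.subgroupOf S with hD'def
  have hcomm : commutator ↥S ≤ D' := by
    rw [commutator_eq_closure, Subgroup.closure_le]
    rintro _ ⟨b, a, rfl⟩
    have h1 := hD (conjHom S (a : Ω)) (F.conj_mem le_rfl a.2) b⁻¹
    show ((⁅b, a⁆ : ↥S) : Ω) ∈ D
    have e : ((⁅b, a⁆ : ↥S) : Ω) = ((b⁻¹ : ↥S) : Ω)⁻¹ * conjHom S (a : Ω) b⁻¹ := by
      rw [commutatorElement_def]
      simp only [conjHom, MonoidHom.coe_comp, Function.comp_apply, Subgroup.coe_subtype,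
        MulEquiv.coe_toMonoidHom, MulAut.conj_apply, Subgroup.coe_mul, Subgroup.coe_inv]
      group
    rw [e]
    exact h1
  -- the abelian quotient `A = S / D'`
  let q : ↥S →* Abelianization ↥S ⧸ D'.map Abelianization.of :=
    (QuotientGroup.mk' (D'.map Abelianization.of)).comp Abelianization.of
  have hker : ∀ x : ↥S, q x = 1 ↔ x ∈ D' := by
    intro x
    show ((Abelianization.of x : Abelianization ↥S) :
      Abelianization ↥S ⧸ D'.map Abelianization.of) = 1 ↔ _
    rw [QuotientGroup.eq_one_iff]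
    constructor
    · rintro ⟨d, hd, hdx⟩
      have h1 : d⁻¹ * x ∈ commutator ↥S := by
        rw [← Abelianization.ker_of, MonoidHom.mem_ker, map_mul, map_inv, hdx, inv_mul_cancel]
      have h2 := D'.mul_mem hd (hcomm h1)
      rwa [mul_inv_cancel_left] at h2
    · intro hx
      exact ⟨x, hx, rfl⟩
  have hqsurj : Function.Surjective q := by
    intro a
    obtain ⟨a', rfl⟩ := QuotientGroup.mk_surjective a
    obtain ⟨s, rfl⟩ := QuotientGroup.mk_surjective a'
    exact ⟨s, rfl⟩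
  have hAp : IsPGroup p (Abelianization ↥S ⧸ D'.map Abelianization.of) :=
    IsPGroup.of_surjective hS q hqsurj
  -- the characteristic biset
  obtain ⟨m, hsupp, hst, hc⟩ := exists_char_mult hS hF
  let _ : Fintype (Subgroup (↥S × ↥S)) := Fintype.ofFinite _
  rw [finsum_eq_sum_of_fintype] at hc
  have hcop : Nat.Coprime (∑ E : Subgroup (↥S × ↥S), m E * (pE E).index) p :=
    Nat.coprime_comm.mp ((Nat.Prime.coprime_iff_not_dvd hp.out).mpr hc)
  have hm : ∀ E, m E ≠ 0 → Function.Injective (fstE E) := fun E hE => isG_injective (hsupp E hE)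
  -- step 1: the image of the focal subgroup lies in the Frattini subgroup of `A`
  have hfrat : ∀ y : ↥S, (y : Ω) ∈ F.focalSubgroup →
      q y ∈ frattini (Abelianization ↥S ⧸ D'.map Abelianization.of) := by
    intro y hy
    by_contra hnot
    obtain ⟨ψ, hψ⟩ := exists_hom_zmod_ne_one_of_not_mem_frattini hAp hnot
    apply hψ
    have htop : ∀ E, m E ≠ 0 → pE E = ⊤ → ∀ a b : ↥S, (a, b) ∈ E →
        (ψ.comp q) b = (ψ.comp q) a := by
      intro E hE hEtop a b hab
      obtain ⟨P, f, hf, rfl⟩ := hsupp E hE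
      have hPS : P = S := by
        apply le_antisymm hf.le
        intro s hs
        have h1 : (⟨s, hs⟩ : ↥S) ∈ pE (gr S P f) := by rw [hEtop]; trivial
        obtain ⟨b', hb'⟩ := mem_pE.mp h1
        exact ((mem_gr hf).mp hb').1
      have hPS' : S = P := hPS.symm
      subst hPS'
      obtain ⟨_, hfa⟩ := (mem_gr hf).mp hab
      obtain ⟨φ, hφ, hφf⟩ := hf
      have h2 := hD φ hφ a
      have h3 : a⁻¹ * b ∈ D' := by
        show ((a⁻¹ * b : ↥S) : Ω) ∈ D
        have e : ((a⁻¹ * b : ↥S) : Ω) = (a : Ω)⁻¹ * φ a := by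
          rw [Subgroup.coe_mul, Subgroup.coe_inv, ← hfa]
          congr 1
          exact (hφf a).symm
        rw [e]
        exact h2
      have h4 := (hker _).mpr h3
      rw [map_mul, map_inv, inv_mul_eq_one] at h4
      show ψ (q b) = ψ (q a)
      rw [h4]
    have h1 := bT_eq_pow_of_no_wreath hS hF hno hsupp hst hc (ψ.comp q) htop y
    rw [bT_focal_eq_one hS hF (ψ.comp q) hsupp hst y hy] at h1
    exact eq_one_of_pow_coprime hcop h1.symm (pow_p_mult_zmod p _)
  -- step 2: the image `B` of the focal subgroup is trivial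
  set Fc' : Subgroup ↥S := F.focalSubgroup.subgroupOf S with hFc'
  set B : Subgroup (Abelianization ↥S ⧸ D'.map Abelianization.of) := Fc'.map q with hBdef
  have hτkill : ∀ y : ↥S, y ∈ Fc' → bT q m y = 1 := fun y hy =>
    bT_focal_eq_one hS hF q hsupp hst y hy
  have hβ : ∀ x : ↥S, ((q x) ^ (∑ E : Subgroup (↥S × ↥S), m E * (pE E).index))⁻¹ * bT q m x ∈ B := by
    intro x
    have hst₂ : ∀ E, m E ≠ 0 → ∀ a b : ↥S, (a, b) ∈ E →
        ((QuotientGroup.mk' B).comp q) b = ((QuotientGroup.mk' B).comp q) a := by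
      intro E hE a b hab
      obtain ⟨P, f, hf, rfl⟩ := hsupp E hE
      obtain ⟨haP, hfa⟩ := (mem_gr hf).mp hab
      obtain ⟨φ, hφ, hφf⟩ := hf
      have h3 : a⁻¹ * b ∈ Fc' := by
        show ((a⁻¹ * b : ↥S) : Ω) ∈ F.focalSubgroup
        have e : ((a⁻¹ * b : ↥S) : Ω) = ((⟨a, haP⟩ : ↥P) : Ω)⁻¹ * φ ⟨a, haP⟩ := by
          rw [Subgroup.coe_mul, Subgroup.coe_inv, ← hfa]
          congr 1
          exact (hφf ⟨a, haP⟩).symm
        rw [e]
        exact Subgroup.subset_closure ⟨P, φ, ⟨a, haP⟩, hφ, rfl⟩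
      have h4 : q (a⁻¹ * b) ∈ B := Subgroup.mem_map_of_mem q h3
      rw [map_mul, map_inv] at h4
      show ((q b : Abelianization ↥S ⧸ D'.map Abelianization.of) : _ ⧸ B) = (q a : _ ⧸ B)
      exact (QuotientGroup.eq.mpr h4).symm
    have h1 := bT_eq_pow_of_stable ((QuotientGroup.mk' B).comp q) m hm hst₂ x
    rw [bT_comp q (QuotientGroup.mk' B) m x] at h1
    have h2 : ((bT q m x : Abelianization ↥S ⧸ D'.map Abelianization.of) : _ ⧸ B) =
        (((q x) ^ (∑ E : Subgroup (↥S × ↥S), m E * (pE E).index) :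
          Abelianization ↥S ⧸ D'.map Abelianization.of) : _ ⧸ B) := by
      rw [QuotientGroup.mk_pow]
      exact h1
    exact QuotientGroup.eq.mp h2.symm
  let θ : ↥S →* Abelianization ↥S ⧸ D'.map Abelianization.of :=
    (q ^ (∑ E : Subgroup (↥S × ↥S), m E * (pE E).index))⁻¹ * bT q m
  have hθ : ∀ x : ↥S, θ x =
      ((q x) ^ (∑ E : Subgroup (↥S × ↥S), m E * (pE E).index))⁻¹ * bT q m x := fun x => rfl
  let θ' : ↥S →* ↥B := θ.codRestrict B (fun x => by rw [hθ]; exact hβ x)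
  have hθ' : ∀ x : ↥S, ((θ' x : ↥B) : Abelianization ↥S ⧸ D'.map Abelianization.of) =
      ((q x) ^ (∑ E : Subgroup (↥S × ↥S), m E * (pE E).index))⁻¹ * bT q m x := fun x => rfl
  have hD'Fc : D' ≤ Fc' := fun x hx => hDF hx
  have hθD : D'.map Abelianization.of ≤ (Abelianization.lift θ').ker := by
    rintro _ ⟨d, hd, rfl⟩
    rw [MonoidHom.mem_ker, Abelianization.lift_apply_of]
    apply Subtype.ext
    rw [hθ', (hker d).mpr hd, hτkill d (hD'Fc hd)]
    simp
  let ε : Abelianization ↥S ⧸ D'.map Abelianization.of →* ↥B :=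
    QuotientGroup.lift (D'.map Abelianization.of) (Abelianization.lift θ') hθD
  have hε : ∀ x : ↥S, ε (q x) = θ' x := by
    intro x
    show QuotientGroup.lift (D'.map Abelianization.of) (Abelianization.lift θ') hθD
      ((Abelianization.of x : Abelianization ↥S) : _ ⧸ D'.map Abelianization.of) = θ' x
    rw [QuotientGroup.lift_mk, Abelianization.lift_apply_of]
  have hBp : IsPGroup p ↥B := hAp.to_subgroup B
  have hpowB : ∀ b : ↥B, ∃ j : ℕ, (b ^ (∑ E : Subgroup (↥S × ↥S), m E * (pE E).index)) ^ j = b := by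
    intro b
    apply exists_pow_eq_self_of_coprime
    obtain ⟨k, hk⟩ := IsPGroup.iff_orderOf.mp hBp b
    rw [hk]
    exact Nat.Coprime.pow_right k hcop
  have hθFc : ∀ (y : ↥S) (hy : y ∈ Fc'),
      θ' y = ((⟨q y, Subgroup.mem_map_of_mem q hy⟩ : ↥B) ^
        (∑ E : Subgroup (↥S × ↥S), m E * (pE E).index))⁻¹ := by
    intro y hy
    apply Subtype.ext
    rw [hθ', hτkill y hy, mul_one]
    rfl
  have hεsurj : Function.Surjective ε := by
    intro b'
    obtain ⟨j, hj⟩ := hpowB b'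
    obtain ⟨y, hy, hyb⟩ := ((b' ^ j)⁻¹ : ↥B).2
    refine ⟨q y, ?_⟩
    rw [hε, hθFc y hy]
    have e : (⟨q y, Subgroup.mem_map_of_mem q hy⟩ : ↥B) = (b' ^ j)⁻¹ := Subtype.ext hyb
    rw [e, inv_pow, inv_inv, ← pow_mul, mul_comm, pow_mul]
    exact hj
  have hBfr : ∀ b : ↥B, b ∈ frattini ↥B := by
    intro b
    obtain ⟨y, hy, hyb⟩ := b.2
    have h1 := frattini_le_comap_frattini_of_surjective hεsurj (hfrat y hy)
    rw [Subgroup.mem_comap, hε, hθFc y hy] at h1
    have e : (⟨q y, Subgroup.mem_map_of_mem q hy⟩ : ↥B) = b := Subtype.ext hyb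
    rw [e] at h1
    have h2 := Subgroup.inv_mem _ h1
    rw [inv_inv] at h2
    obtain ⟨j, hj⟩ := hpowB b
    rw [← hj]
    exact Subgroup.pow_mem _ h2 j
  have hBbot : B = ⊥ := by
    by_contra hne
    have hnt : Nontrivial ↥B := (Subgroup.nontrivial_iff_ne_bot B).mpr hne
    obtain ⟨φ, hφ⟩ := exists_hom_zmod_ne_one hBp hnt
    apply hφ
    ext b
    exact hom_zmod_kills_frattini φ (hBfr b)
  intro g hg
  have hgS : g ∈ S := focalSubgroup_le F hg
  have h1 : q ⟨g, hgS⟩ ∈ B := Subgroup.mem_map_of_mem q (show (⟨g, hgS⟩ : ↥S) ∈ Fc' from hg)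
  rw [hBbot, Subgroup.mem_bot, hker] at h1
  exact h1

end YoshidaFus

end Cfsg.Agent.Lib.Helper30
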